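import Cfsg.Agent.Lib.BenderQ.Kernel
import Cfsg.Agent.Lib.BenderTrans.Main
import Cfsg.Agent.Lib.LocalEven.StrongEmbedded
import Cfsg.Agent.Lib.PF.OddOrder
import Cfsg.Agent.Lib.Involutions.StronglyEmbedded
import Cfsg.Prelude.Def_EvenType
import Cfsg.Prelude.Def_ClassificationStages

/-!
Consequences of Bender's kernel theorem for strongly embedded subgroups: solvability, the normal
regular subgroup in a simple group, and doubly transitive Suzuki type.
-/

set_option autoImplicit false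

namespace CfsgLib.BenderQ

open CfsgLib.BenderTrans CfsgLib.Involutions MulAction

universe u v

/-- `Q` is a 2-subgroup of the stabiliser of `c`, normal in it and regular on the other points. -/
structure IsKernelAt {G : Type u} [Group G] {Ω : Type v} [MulAction G Ω] (c : Ω) (Q : Subgroup G) :
    Prop where
  le : Q ≤ stabilizer G c
  conj : ∀ h ∈ stabilizer G c, ∀ x ∈ Q, h * x * h⁻¹ ∈ Q
  isTwo : IsPGroup 2 Q
  trans : ∀ x y : Ω, x ≠ c → y ≠ c → ∃ g ∈ Q, g • x = y
  free : ∀ g ∈ Q, ∀ x : Ω, x ≠ c → g • x = x → g = 1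

theorem isKernelAt_of_hasKernelAt {G : Type u} [Group G] {Ω : Type v} [MulAction G Ω] {c : Ω}
    (h : HasKernelAt G Ω c) : ∃ Q : Subgroup G, IsKernelAt c Q := by
  obtain ⟨Q, hle, hn, h2, ht, hf⟩ := h
  exact ⟨Q, hle, fun g hg x hx => (Subgroup.mem_normalizer_iff.1 (hn hg) x).1 hx, h2, ht, hf⟩

section action

variable {G : Type u} [Group G] {Ω : Type v} [MulAction G Ω]

/-- A two point stabiliser has odd order. -/
theorem odd_card_two [Finite G] (h : OneFix G Ω) {x y : Ω} (hxy : x ≠ y) :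
    Odd (Nat.card (two G x y)) := by
  by_contra hc
  rw [Nat.not_odd_iff_even] at hc
  obtain ⟨z, hz, hz2⟩ := exists_involution_of_even_card (two G x y) hc
  exact hxy (h.unique z hz2 x y (mem_two_iff.1 hz).1 (mem_two_iff.1 hz).2)

variable {c : Ω} {Q : Subgroup G}

theorem IsKernelAt.sup_two (hQ : IsKernelAt c Q) {y : Ω} (hy : y ≠ c) {g : G}
    (hg : g ∈ stabilizer G c) : ∃ x ∈ Q, ∃ d ∈ two G c y, g = x * d := by
  have hgy : g • y ≠ c := fun e => hy (by
    have h1 : g • y = g • c := e.trans (mem_stabilizer_iff.1 hg).symm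
    exact MulAction.injective g h1)
  obtain ⟨x, hx, hxy⟩ := hQ.trans y (g • y) hy hgy
  refine ⟨x, hx, x⁻¹ * g, mem_two_iff.2 ⟨?_, ?_⟩, by group⟩
  · rw [mul_smul, mem_stabilizer_iff.1 hg]
    exact mem_stabilizer_iff.1 (inv_mem (hQ.le hx))
  · rw [mul_smul, inv_smul_eq_iff]
    exact hxy.symm

/-- The stabiliser is solvable when its two point stabilisers are. -/
theorem IsKernelAt.isSolvable [Finite G] (hQ : IsKernelAt c Q) {y : Ω} (hy : y ≠ c)
    (hD : Group.IsSolvable (two G c y)) : Group.IsSolvable (stabilizer G c) := by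
  set T := stabilizer G c with hT
  set N : Subgroup T := Q.subgroupOf T with hN
  have hNn : N.Normal := ⟨fun n hn g => hQ.conj g.1 g.2 n.1 hn⟩
  have : Group.IsNilpotent Q := hQ.isTwo.isNilpotent
  have hNs : Group.IsSolvable N :=
    Group.isSolvable_of_isSolvable_injective
      (f := (Subgroup.subgroupOfEquivOfLe hQ.le).toMonoidHom) (Subgroup.subgroupOfEquivOfLe hQ.le).injective
  let φ : two G c y →* T ⧸ N :=
    (QuotientGroup.mk' N).comp (Subgroup.inclusion (inf_le_left : two G c y ≤ T))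
  have hφ : Function.Surjective φ := by
    intro z
    obtain ⟨g, rfl⟩ := QuotientGroup.mk'_surjective N z
    obtain ⟨x, hx, d, hd, hgd⟩ := hQ.sup_two hy g.2
    refine ⟨⟨d, hd⟩, ?_⟩
    apply QuotientGroup.eq.2
    show ((Subgroup.inclusion _ ⟨d, hd⟩)⁻¹ * g : T).1 ∈ Q
    show d⁻¹ * g.1 ∈ Q
    rw [hgd, ← mul_assoc]
    simpa using hQ.conj d⁻¹ (inv_mem (inf_le_left (b := stabilizer G y) hd)) x hx
  have hquot : Group.IsSolvable (T ⧸ N) := Group.isSolvable_of_surjective hφ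
  exact Group.isSolvable_of_ker_le_range N.subtype (QuotientGroup.mk' N) (by simp)

theorem IsKernelAt.fix_eq (hQ : IsKernelAt c Q) (hQ1 : Q ≠ ⊥) {x : Ω}
    (hx : ∀ g ∈ Q, g • x = x) : x = c := by
  by_contra hxc
  exact hQ1 (eq_bot_iff.2 fun g hg => (Subgroup.mem_bot).2 (hQ.free g hg x hxc (hx g hg)))

theorem IsKernelAt.invol_mem [Finite G] (h : OneFix G Ω) (hQ : IsKernelAt c Q) {t : G}
    (ht : t ∈ invAt G c) : t ∈ Q := by
  obtain ⟨y, hy⟩ := h.nontriv c
  obtain ⟨x, hx, d, hd, htd⟩ := hQ.sup_two hy (mem_stabilizer_iff.2 ht.2)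
  -- the image of `t` in the quotient has order dividing 2 and an odd number
  set T := stabilizer G c
  set N : Subgroup T := Q.subgroupOf T with hN
  have hNn : N.Normal := ⟨fun n hn g => hQ.conj g.1 g.2 n.1 hn⟩
  let d' : T := ⟨d, (inf_le_left : two G c y ≤ T) hd⟩
  let t' : T := ⟨t, mem_stabilizer_iff.2 ht.2⟩
  have he : (QuotientGroup.mk' N) t' = QuotientGroup.mk' N d' := by
    have : t' = ⟨x, hQ.le hx⟩ * d' := Subtype.ext htd
    rw [this, map_mul, show QuotientGroup.mk' N ⟨x, hQ.le hx⟩ = 1 from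
      (QuotientGroup.eq_one_iff _).2 hx, one_mul]
  have h1 : orderOf (QuotientGroup.mk' N t') ∣ 2 := by
    refine (orderOf_map_dvd _ _).trans ?_
    rw [Subgroup.orderOf_mk, ht.1]
  have h2 : Odd (orderOf (QuotientGroup.mk' N t')) := by
    rw [he]
    refine (odd_card_two h hy.symm).of_dvd_nat ((orderOf_map_dvd _ _).trans ?_)
    rw [Subgroup.orderOf_mk]
    exact Subgroup.orderOf_dvd_natCard _ hd
  rcases (Nat.dvd_prime Nat.prime_two).1 h1 with h3 | h3
  · exact (QuotientGroup.eq_one_iff (N := N) t').1 (orderOf_eq_one_iff.1 h3)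
  · rw [h3] at h2; exact absurd h2 (by decide)

theorem IsKernelAt.ne_bot [Finite G] (h : OneFix G Ω) (hQ : IsKernelAt c Q) : Q ≠ ⊥ := by
  obtain ⟨t, ht⟩ := h.exists_invAt c
  intro e
  have h1 := hQ.invol_mem h ht
  rw [e, Subgroup.mem_bot] at h1
  simpa [h1] using ht.1

theorem IsKernelAt.normalizer_eq [Finite G] (h : OneFix G Ω) (hQ : IsKernelAt c Q) :
    Subgroup.normalizer (Q : Set G) = stabilizer G c := by
  refine le_antisymm (fun g hg => mem_stabilizer_iff.2 (hQ.fix_eq (hQ.ne_bot h) fun k hk => ?_))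
    (fun g hg => ?_)
  · exact smul_mem_fixSet hg (x := c) (S := Q) (fun s hs => mem_stabilizer_iff.1 (hQ.le hs)) k hk
  · refine Subgroup.mem_normalizer_iff.2 fun k => ⟨hQ.conj g hg k, fun hk => ?_⟩
    have := hQ.conj g⁻¹ (inv_mem hg) _ hk
    simpa [mul_assoc] using this

/-- The kernel is a Sylow 2-subgroup. -/
theorem IsKernelAt.exists_sylow [Finite G] [Finite Ω] (h : OneFix G Ω) (hQ : IsKernelAt c Q) :
    ∃ S : Sylow 2 G, (S : Subgroup G) = Q := by
  have : Fact (Nat.Prime 2) := ⟨Nat.prime_two⟩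
  obtain ⟨S, hS⟩ := hQ.isTwo.exists_le_sylow
  refine ⟨S, le_antisymm (fun g hg => ?_) hS⟩
  -- a 2-group normalising a larger one
  by_contra hne
  have hlt : Q.subgroupOf (S : Subgroup G) < ⊤ := by
    rw [lt_top_iff_ne_top, Ne, Subgroup.subgroupOf_eq_top]
    exact fun hle => hne (hle hg)
  have : Group.IsNilpotent (S : Subgroup G) := S.2.isNilpotent
  obtain ⟨⟨k, hkS⟩, hk, hkQ⟩ :=
    SetLike.exists_of_lt (Group.normalizerCondition_of_isNilpotent _ hlt)
  have hkn : k ∈ Subgroup.normalizer (Q : Set G) := by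
    refine Subgroup.mem_normalizer_iff.2 fun n => ⟨fun hn => ?_, fun hn => ?_⟩
    · exact (Subgroup.mem_normalizer_iff.1 hk ⟨n, hS hn⟩).1 hn
    · have hnS : n ∈ (S : Subgroup G) := by
        have := mul_mem (mul_mem (inv_mem hkS) (hS hn)) hkS
        simpa [mul_assoc] using this
      exact (Subgroup.mem_normalizer_iff.1 hk ⟨n, hnS⟩).2 hn
  rw [hQ.normalizer_eq h] at hkn
  obtain ⟨y, hy⟩ := h.nontriv c
  obtain ⟨x, hx, d, hd, hkd⟩ := hQ.sup_two hy hkn
  have hdS : d ∈ (S : Subgroup G) := by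
    have : d = x⁻¹ * k := by rw [hkd]; group
    rw [this]
    exact mul_mem (inv_mem (hS hx)) hkS
  obtain ⟨e, he⟩ := IsPGroup.iff_orderOf.1 S.2 ⟨d, hdS⟩
  rw [Subgroup.orderOf_mk] at he
  have hodd := (odd_card_two h hy.symm).of_dvd_nat (Subgroup.orderOf_dvd_natCard _ hd)
  rcases eq_or_ne e 0 with h0 | h0
  swap
  · rw [he, Nat.odd_pow_iff h0] at hodd
    exact absurd hodd (by decide)
  · rw [h0, pow_zero, orderOf_eq_one_iff] at he
    exact hkQ (by show k ∈ Q; rw [hkd, he, mul_one]; exact hx)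

end action

section embedded

variable {G : Type u} [Group G] [Finite G] {H : Subgroup G}

theorem isStronglyEmbedded_of_isStronglyPEmbedded (h : Cfsg.IsStronglyPEmbedded 2 H) :
    Cfsg.IsStronglyEmbedded H := by
  have : Fact (Nat.Prime 2) := ⟨Nat.prime_two⟩
  refine ⟨h.2.1, even_iff_two_dvd.2 (LocalEven.StrongEmb.dvd_card_of_isStronglyPEmbedded h),
    fun g hg => ?_⟩
  by_contra hc
  rw [Nat.not_odd_iff_even] at hc
  obtain ⟨a, ha, ha2⟩ := exists_involution_of_even_card _ hc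
  obtain ⟨ha1, b, hb, hba⟩ := ha
  have hb2 : orderOf b = 2 := by
    rw [← ha2, ← hba]
    exact ((orderOf_injective _ (MulAut.conj g).injective b)).symm
  exact hg (LocalEven.StrongEmb.fusesInside_of_isStronglyPEmbedded h b hb hb2 g
    (by rw [show g * b * g⁻¹ = a from hba]; exact ha1))

theorem hasFour_of_pRankAtLeast (h : Cfsg.PRankAtLeast 2 2 G) : HasFour G := by
  obtain ⟨A, hA, hexp, hcard⟩ := h
  have h4 : 4 ≤ (A : Set G).ncard := by rwa [← Nat.card_coe_set_eq]
  have hord : ∀ a ∈ A, a ≠ 1 → orderOf a = 2 := fun a ha ha1 =>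
    orderOf_eq_prime (hexp a ha) ha1
  obtain ⟨s, hs, hs1⟩ := Set.exists_ne_of_one_lt_ncard (show 1 < (A : Set G).ncard by omega) 1
  have h2 : 1 < ((A : Set G) \ {1}).ncard := by
    rw [Set.ncard_sdiff_singleton_of_mem A.one_mem]; omega
  obtain ⟨t, ⟨ht, ht1⟩, hts⟩ := Set.exists_ne_of_one_lt_ncard h2 s
  exact ⟨s, t, hord s hs hs1, hord t ht (by simpa using ht1), hts.symm,
    congrArg Subtype.val (hA.is_comm.comm (⟨s, hs⟩ : A) ⟨t, ht⟩)⟩

theorem odd_card_normalCore (hH : Cfsg.IsStronglyEmbedded H) : Odd (Nat.card H.normalCore) := by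
  obtain ⟨g, hg⟩ := SetLike.exists_of_lt (lt_top_iff_ne_top.2 hH.1)
  refine (hH.2.2 g hg.2).of_dvd_nat (Subgroup.card_dvd_of_le fun x hx => ⟨?_, g⁻¹ * x * g, ?_, ?_⟩)
  · exact H.normalCore_le hx
  · have := H.normalCore_normal.conj_mem x hx g⁻¹
    exact H.normalCore_le (by simpa using this)
  · show g * (g⁻¹ * x * g) * g⁻¹ = x
    group

theorem isSolvable_of_stronglyEmbedded (hB : BenderKernel.{u}) (hH : Cfsg.IsStronglyEmbedded H)
    (hf : HasFour G) : Group.IsSolvable H := by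
  have h := oneFix_of_stronglyEmbedded hH
  have hall : ∀ x : G ⧸ H, x ∈ centres (G ⧸ H) (⊤ : Subgroup G) := fun x => by
    obtain ⟨t, ht⟩ := h.exists_invAt x
    exact mem_centres (Subgroup.mem_top t) ht
  obtain ⟨s, t, hs, ht, hne, hc⟩ := hf
  obtain ⟨y, hy⟩ := h.nontriv ((1 : G) : G ⧸ H)
  have hM : Multi (G ⧸ H) (⊤ : Subgroup G) := ⟨_, hall _, y, hall y, hy.symm⟩
  have h' := h.oneFix_sect hM
  obtain ⟨Q, hQ⟩ := isKernelAt_of_hasKernelAt <| hB (Sect (G ⧸ H) (⊤ : Subgroup G)) (centres (G ⧸ H) (⊤ : Subgroup G)) h'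
    (hfaith_sect _) (h.hasFour_sect hM (Subgroup.mem_top s) (Subgroup.mem_top t) hs ht hne hc)
    ⟨_, hall ((1 : G) : G ⧸ H)⟩
  have hy' : (⟨y, hall y⟩ : centres (G ⧸ H) (⊤ : Subgroup G)) ≠ ⟨_, hall ((1 : G) : G ⧸ H)⟩ :=
    fun e => hy (congrArg Subtype.val e)
  have hT := hQ.isSolvable hy' (PF.oddSolvable _ (odd_card_two h' hy'.symm))
  -- pull back along the map to the permutation group
  let f : H →* stabilizer (Sect (G ⧸ H) (⊤ : Subgroup G)) (⟨_, hall ((1 : G) : G ⧸ H)⟩ :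
      centres (G ⧸ H) (⊤ : Subgroup G)) :=
    ((sect (G ⧸ H) (⊤ : Subgroup G)).comp (Subgroup.topEquiv.symm.toMonoidHom.comp H.subtype)).codRestrict _
      (fun x => mem_stabilizer_iff.2 (Subtype.ext (by
        show ((x : G) • ((1 : G) : G ⧸ H)) = _
        exact StrongEmbedding.mem_iff_smul_base.1 x.2)))
  have hker : f.ker.map H.subtype ≤ H.normalCore := by
    rintro _ ⟨x, hx, rfl⟩ g
    have h1 : sect (G ⧸ H) (⊤ : Subgroup G) ⟨(x : G), Subgroup.mem_top _⟩ = 1 :=
      congrArg Subtype.val hx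
    have h2 := sect_eq_one_iff.1 h1 ((g⁻¹ : G) : G ⧸ H) (hall _)
    have h3 : (((x : G) * g⁻¹ : G) : G ⧸ H) = ((g⁻¹ : G) : G ⧸ H) := h2
    have h4 := QuotientGroup.eq.1 h3.symm
    show g * (x : G) * g⁻¹ ∈ H
    simpa [mul_assoc] using h4
  have hodd : Odd (Nat.card f.ker) := by
    rw [Nat.card_congr (f.ker.equivMapOfInjective H.subtype H.subtype_injective).toEquiv]
    exact (odd_card_normalCore hH).of_dvd_nat (Subgroup.card_dvd_of_le hker)
  have : Group.IsSolvable f.ker := PF.oddSolvable _ hodd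
  exact Group.isSolvable_of_ker_le_range f.ker.subtype f (by simp)

variable [IsSimpleGroup G]

theorem normalCore_eq_bot (hH : Cfsg.IsStronglyEmbedded H) : H.normalCore = ⊥ :=
  (IsSimpleGroup.eq_bot_or_eq_top_of_normal _ H.normalCore_normal).resolve_right fun e =>
    hH.1 (top_le_iff.1 (e ▸ H.normalCore_le))

theorem hasFour_of_simple (hna : ∃ a b : G, a * b ≠ b * a) (hH : Cfsg.IsStronglyEmbedded H) :
    HasFour G := by
  by_contra hf
  have huniq : ∀ s t : G, orderOf s = 2 → orderOf t = 2 → Commute s t → s = t :=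
    fun s t hs ht hc => by_contra fun hne => hf ⟨s, t, hs, ht, hne, hc⟩
  obtain ⟨z, -, hz⟩ := exists_involution_of_even_card H hH.2.1
  have hcore : Cfsg.oddCore G = ⊥ := by
    have : (Cfsg.oddCore G).Normal := Cfsg.pPrimeCore_normal 2 G
    refine (IsSimpleGroup.eq_bot_or_eq_top_of_normal _ this).resolve_right fun e => ?_
    have h1 : ¬ 2 ∣ Nat.card (Cfsg.oddCore G) := PCore.not_dvd_card_pPrimeCore
    rw [e, Subgroup.card_top] at h1
    exact h1 (hz ▸ orderOf_dvd_natCard z)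
  have hcen : z ∈ Subgroup.center G := Subgroup.mem_center_iff.2 fun g => by
    have h1 : g * z * g⁻¹ * z ∈ Cfsg.oddCore G := by
      have h1 := inZStar_of_rank_one huniq hz g
      simpa [inv_eq_self_of_involution hz, mul_assoc] using h1
    rw [hcore, Subgroup.mem_bot, mul_eq_one_iff_eq_inv, inv_eq_self_of_involution hz,
      mul_inv_eq_iff_eq_mul] at h1
    exact h1
  rcases IsSimpleGroup.eq_bot_or_eq_top_of_normal (Subgroup.center G) inferInstance with e | e
  · rw [e, Subgroup.mem_bot] at hcen; simp [hcen] at hz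
  · obtain ⟨a, b, hab⟩ := hna
    exact hab ((Subgroup.mem_center_iff.1 (e ▸ Subgroup.mem_top a) b).symm)

/-- In a simple group a strongly embedded subgroup has a kernel. -/
theorem exists_kernel (hB : BenderKernel.{u}) (hna : ∃ a b : G, a * b ≠ b * a)
    (hH : Cfsg.IsStronglyEmbedded H) :
    ∃ Q : Subgroup G, IsKernelAt ((1 : G) : G ⧸ H) Q := by
  refine isKernelAt_of_hasKernelAt <| hB G (G ⧸ H) (oneFix_of_stronglyEmbedded hH) (fun g hg => ?_) (hasFour_of_simple hna hH) _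
  have h1 : g ∈ H.normalCore := fun x => by
    have h2 : ((g * x⁻¹ : G) : G ⧸ H) = ((x⁻¹ : G) : G ⧸ H) := hg ((x⁻¹ : G) : G ⧸ H)
    have h3 := QuotientGroup.eq.1 h2.symm
    simpa [mul_assoc] using h3
  rwa [normalCore_eq_bot hH, Subgroup.mem_bot] at h1

/-- The input of Suzuki's recognition theorem. -/
theorem exists_regular_normal (hB : BenderKernel.{u}) (hna : ∃ a b : G, a * b ≠ b * a)
    (hH : Cfsg.IsStronglyEmbedded H) :
    ∃ Q : Subgroup G, Q ≤ H ∧ (Q.subgroupOf H).Normal ∧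
      (∀ g₁ g₂ : G, g₁ ∉ H → g₂ ∉ H → ∃ u ∈ Q, g₂⁻¹ * (u * g₁) ∈ H) ∧
      (∀ g : G, g ∉ H → ∀ u ∈ Q, g⁻¹ * (u * g) ∈ H → u = 1) ∧
      IsPGroup 2 Q ∧ Subgroup.normalizer (Q : Set G) = H ∧ ∃ S : Sylow 2 G, (S : Subgroup G) = Q := by
  obtain ⟨Q, hQ⟩ := exists_kernel hB hna hH
  have hst : stabilizer G ((1 : G) : G ⧸ H) = H := Subgroup.ext fun g =>
    mem_stabilizer_iff.trans StrongEmbedding.mem_iff_smul_base.symm
  have hne : ∀ g : G, g ∉ H → ((g : G) : G ⧸ H) ≠ ((1 : G) : G ⧸ H) := fun g hg e => hg (by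
    simpa using QuotientGroup.eq.1 e.symm)
  refine ⟨Q, hQ.le.trans_eq hst, ⟨fun n hn g => hQ.conj g.1 (hst.symm ▸ g.2) n.1 hn⟩,
    fun g₁ g₂ h₁ h₂ => ?_, fun g hg u hu h1 => ?_, hQ.isTwo, ?_,
    hQ.exists_sylow (oneFix_of_stronglyEmbedded hH)⟩
  · obtain ⟨u, hu, he⟩ := hQ.trans _ _ (hne g₁ h₁) (hne g₂ h₂)
    exact ⟨u, hu, QuotientGroup.eq.1 (show ((g₂ : G) : G ⧸ H) = ((u * g₁ : G) : G ⧸ H) from he.symm)⟩
  · exact hQ.free u hu _ (hne g hg)
      (show ((u * g : G) : G ⧸ H) = _ from (QuotientGroup.eq.2 h1).symm)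
  · rw [hQ.normalizer_eq (oneFix_of_stronglyEmbedded hH), hst]

theorem isDoublyTransitiveSuzukiType (hB : BenderKernel.{u}) (hna : ∃ a b : G, a * b ≠ b * a)
    (hH : Cfsg.IsStronglyEmbedded H) : Cfsg.IsDoublyTransitiveSuzukiType H := by
  obtain ⟨Q, hQH, hQn, htr, hfree, hQ2, hNQ, S, hS⟩ := exists_regular_normal hB hna hH
  have hH0 : Subgroup.normalizer (H : Set G) = H := by
    refine le_antisymm (fun g hg => ?_) Subgroup.le_normalizer
    by_contra hgH
    obtain ⟨z, hz, hz2⟩ := exists_involution_of_even_card H hH.2.1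
    exact hgH (se_mem_of_conj_mem hH hz hz2
      (by simpa using (Subgroup.mem_normalizer_iff.1 (inv_mem hg) z).1 hz))
  have hmap : ∀ g : G, H.map (MulAut.conj g).toMonoidHom = H ↔ g ∈ H := by
    intro g
    conv_rhs => rw [← hH0]
    constructor
    · intro e
      refine Subgroup.mem_normalizer_iff.2 fun x => ⟨fun hx => ?_, fun hx => ?_⟩
      · rw [← SetLike.mem_coe, ← e]; exact ⟨x, hx, rfl⟩
      · rw [← e] at hx
        obtain ⟨w, hw, hwe⟩ := hx
        have : w = x := by simpa using hwe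
        exact this ▸ hw
    · intro hg
      ext x
      constructor
      · rintro ⟨w, hw, rfl⟩; exact (Subgroup.mem_normalizer_iff.1 hg w).1 hw
      · intro hx
        refine ⟨g⁻¹ * x * g, ?_, by show g * (g⁻¹ * x * g) * g⁻¹ = x; group⟩
        have h1 : g * (g⁻¹ * x * g) * g⁻¹ ∈ H := by simpa [mul_assoc] using hx
        exact (Subgroup.mem_normalizer_iff.1 hg _).2 h1
  have hcomp : ∀ a b : G, (H.map (MulAut.conj a).toMonoidHom).map (MulAut.conj b).toMonoidHom =
      H.map (MulAut.conj (b * a)).toMonoidHom := fun a b => by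
    rw [Subgroup.map_map]
    congr 1
    ext x
    simp [mul_assoc]
  have heq : ∀ a b : G, H.map (MulAut.conj a).toMonoidHom = H.map (MulAut.conj b).toMonoidHom ↔
      b⁻¹ * a ∈ H := fun a b => by
    rw [← hmap, ← hcomp]
    constructor
    · intro e
      rw [e, hcomp, inv_mul_cancel, map_one]
      exact Subgroup.map_id H
    · intro e
      rw [hcomp] at e
      have h1 : (H.map (MulAut.conj (b⁻¹ * a)).toMonoidHom).map (MulAut.conj b).toMonoidHom =
          H.map (MulAut.conj b).toMonoidHom := by rw [e]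
      rwa [hcomp, mul_inv_cancel_left] at h1
  have hD : ∀ g d : G, d ∈ Subgroup.normalizer ((H.map (MulAut.conj g).toMonoidHom : Subgroup G) : Set G)
      → g⁻¹ * (d * g) ∈ H := by
    intro g d hd
    rw [← heq, ← hcomp]
    ext x
    constructor
    · rintro ⟨w, hw, rfl⟩; exact (Subgroup.mem_normalizer_iff.1 hd w).1 hw
    · intro hx
      refine ⟨d⁻¹ * x * d, ?_, by show d * (d⁻¹ * x * d) * d⁻¹ = x; group⟩
      have h1 : d * (d⁻¹ * x * d) * d⁻¹ ∈ H.map (MulAut.conj g).toMonoidHom := by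
        simpa [mul_assoc] using hx
      exact (Subgroup.mem_normalizer_iff.1 hd _).2 h1
  obtain ⟨g, hg⟩ := SetLike.exists_of_lt (lt_top_iff_ne_top.2 hH.1)
  have hgne : H.map (MulAut.conj g).toMonoidHom ≠ H := fun e => hg.2 ((hmap g).1 e)
  refine ⟨hH0, ⟨g, hgne⟩, fun g₁ g₂ h₁ h₂ => ?_, g, hgne, Q, hQH, hQn, ?_, ?_, hQ2.isNilpotent,
    ⟨S, hS.le⟩, fun g₁ g₂ h₁ h₂ => ?_⟩
  · obtain ⟨u, hu, he⟩ := htr g₁ g₂ (fun h => h₁ ((hmap g₁).2 h)) (fun h => h₂ ((hmap g₂).2 h))
    exact ⟨u, hQH hu, by rw [hcomp]; exact (heq _ _).2 he⟩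
  · rw [eq_bot_iff]
    rintro x ⟨hxQ, -, hxN⟩
    exact Subgroup.mem_bot.2 (hfree g hg.2 x hxQ (hD g x hxN))
  · refine le_antisymm (sup_le hQH inf_le_left) fun x hx => ?_
    obtain ⟨u, hu, he⟩ := htr g (x * g) hg.2 (fun h1 => hg.2 (by simpa using mul_mem (inv_mem hx) h1))
    have h1 : H.map (MulAut.conj (u⁻¹ * (x * g))).toMonoidHom = H.map (MulAut.conj g).toMonoidHom := by
      rw [heq]
      have h2 := inv_mem he
      simpa [mul_assoc] using h2
    have hd : u⁻¹ * x ∈ Subgroup.normalizer ((H.map (MulAut.conj g).toMonoidHom : Subgroup G) : Set G) := by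
      have h3 : (H.map (MulAut.conj g).toMonoidHom).map (MulAut.conj (u⁻¹ * x)).toMonoidHom =
          H.map (MulAut.conj g).toMonoidHom := by
        rw [hcomp, mul_assoc]; exact h1
      refine Subgroup.mem_normalizer_iff.2 fun w => ⟨fun hw => ?_, fun hw => ?_⟩
      · rw [← h3]
        exact ⟨w, hw, rfl⟩
      · rw [← h3] at hw
        obtain ⟨w', hw', hwe⟩ := hw
        have : w' = w := (MulAut.conj (u⁻¹ * x)).injective hwe
        exact this ▸ hw'
    have hxe : x = u * (u⁻¹ * x) := by group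
    rw [hxe]
    exact Subgroup.mul_mem_sup hu (Subgroup.mem_inf.2 ⟨H.mul_mem (H.inv_mem (hQH hu)) hx, hd⟩)
  · obtain ⟨u, hu, he⟩ := htr g₁ g₂ (fun h => h₁ ((hmap g₁).2 h)) (fun h => h₂ ((hmap g₂).2 h))
    have hun : H.map (MulAut.conj (u * g₁)).toMonoidHom = H.map (MulAut.conj g₂).toMonoidHom :=
      (heq _ _).2 he
    refine ⟨⟨u, hu⟩, by show (H.map _).map _ = _; rw [hcomp]; exact hun, fun w hw => ?_⟩
    have hw' : H.map (MulAut.conj ((w : G) * g₁)).toMonoidHom =
        H.map (MulAut.conj g₂).toMonoidHom := by rw [← hcomp]; exact hw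
    have h1 := (heq _ _).1 (hun.trans hw'.symm)
    have h2 := hfree g₁ (fun h => h₁ ((hmap g₁).2 h)) ((w : G)⁻¹ * u) (mul_mem (inv_mem w.2) hu)
      (by simpa [mul_assoc] using h1)
    exact Subtype.ext (inv_mul_eq_one.1 h2)

/-- A strongly embedded subgroup of a simple group is the normaliser of a Sylow 2-subgroup. -/
theorem exists_sylow_normalizer (hB : BenderKernel.{u}) (hna : ∃ a b : G, a * b ≠ b * a)
    (hH : Cfsg.IsStronglyEmbedded H) :
    ∃ S : Sylow 2 G, H = Subgroup.normalizer ((S : Subgroup G) : Set G) := by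
  obtain ⟨Q, -, -, -, -, -, hN, S, hS⟩ := exists_regular_normal hB hna hH
  exact ⟨S, by rw [hS, hN]⟩

end embedded

section consumers

variable {G : Type u} [Group G] [Finite G] {H : Subgroup G}

/-- In a group of 2-rank at least 2 a strongly embedded subgroup is solvable. -/
theorem isSolvable_of_rank (hB : BenderKernel.{u}) (hrank : Cfsg.PRankAtLeast 2 2 G)
    (hH : Cfsg.IsStronglyPEmbedded 2 H) : Group.IsSolvable H :=
  isSolvable_of_stronglyEmbedded hB (isStronglyEmbedded_of_isStronglyPEmbedded hH)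
    (hasFour_of_pRankAtLeast hrank)

theorem exists_noncomm (h : ¬ IsMulCommutative G) : ∃ a b : G, a * b ≠ b * a := by
  by_contra hc
  push Not at hc
  exact h ⟨⟨hc⟩⟩

end consumers

end CfsgLib.BenderQ
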