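import Mathlib

/-!
Counting fixed points over a transitive group.  When every element fixing two points has enough
centralising elements of coprime order, all elements of coprime order act trivially on a second set
on which the point stabiliser is transitive, and the kernel is regular.
-/

set_option autoImplicit false
set_option linter.style.haveILetI false
set_option linter.unusedSectionVars false

namespace CfsgLib.BenderQ.Count

open MulAction

universe u v w

variable {T : Type u} [Group T] [Finite T]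

omit [Finite T] in
theorem orderOf_conj' (g b : T) : orderOf (g * b * g⁻¹) = orderOf b :=
  MulEquiv.orderOf_eq (MulAut.conj g) b

/-- The first factor of a product of commuting factors of coprime orders is a power of the product. -/
theorem exists_pow_eq_left {d : ℕ} {b h : T} (hb : orderOf b ∣ d) (hc : Commute b h)
    (hh : (orderOf h).Coprime d) :
    ∀ L : ℕ, orderOf h ∣ L → L.Coprime d → (b * h) ^ (L ^ d.totient) = b := by
  intro L hL hLd
  rcases Nat.eq_zero_or_pos d with rfl | hd
  · simp only [Nat.coprime_zero_right] at hh hLd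
    rw [orderOf_eq_one_iff] at hh
    rw [hh, mul_one, hLd, one_pow, pow_one]
  have h1 : b ^ (L ^ d.totient) = b := by
    have hmod : L ^ d.totient ≡ 1 [MOD orderOf b] :=
      (Nat.ModEq.pow_totient hLd).of_dvd hb
    exact (pow_eq_pow_iff_modEq.2 hmod).trans (pow_one b)
  have h2 : h ^ (L ^ d.totient) = 1 :=
    orderOf_dvd_iff_pow_eq_one.1 (hL.trans (dvd_pow_self _ (Nat.totient_pos.2 hd).ne'))
  rw [hc.mul_pow, h1, h2, mul_one]

theorem smul_pow_fix {α : Type*} [MulAction T α] {g : T} {x : α} (hx : g • x = x) (k : ℕ) :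
    g ^ k • x = x := by
  induction k with
  | zero => simp
  | succ k ih => rw [pow_succ, mul_smul, hx, ih]

theorem smul_zpow_fix {α : Type*} [MulAction T α] {g : T} {x : α} (hx : g • x = x) (k : ℤ) :
    g ^ k • x = x :=
  mem_stabilizer_iff.1 ((stabilizer T x).zpow_mem (mem_stabilizer_iff.2 hx) k)

theorem left_eq_of_mul_eq {d : ℕ} {b h b' h' : T} (hb : orderOf b ∣ d) (hb' : orderOf b' ∣ d)
    (hc : Commute b h) (hc' : Commute b' h') (hh : (orderOf h).Coprime d)
    (hh' : (orderOf h').Coprime d) (he : b * h = b' * h') : b = b' := by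
  have h1 := exists_pow_eq_left hb hc hh (orderOf h * orderOf h') (dvd_mul_right _ _)
    (hh.mul_left hh')
  have h2 := exists_pow_eq_left hb' hc' hh' (orderOf h * orderOf h') (dvd_mul_left _ _)
    (hh.mul_left hh')
  rw [← h1, he, h2]

variable {O : Type v} [MulAction T O] [Finite O] {X : Type w} [MulAction T X] [Finite X]

/-- The centralising elements of order prime to the order of the stabiliser. -/
def coprimeCent (z : O) (b : T) : Set T :=
  {h | Commute b h ∧ (orderOf h).Coprime (Nat.card (stabilizer T z))}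

omit [Finite O] in
theorem coprimeCent_conj (z : O) (g b : T) :
    (coprimeCent z (g * b * g⁻¹)).ncard = (coprimeCent z b).ncard := by
  refine (Set.ncard_congr (fun h _ => g * h * g⁻¹) ?_ (fun a c _ _ e => by simpa using e) ?_).symm
  · rintro h ⟨h1, h2⟩
    exact ⟨h1.map (MulAut.conj g).toMonoidHom, by rwa [orderOf_conj']⟩
  · rintro h ⟨h1, h2⟩
    refine ⟨g⁻¹ * h * g, ⟨?_, ?_⟩, by group⟩
    · have h3 := h1.map (MulAut.conj g⁻¹).toMonoidHom
      simpa [mul_assoc] using h3
    · have := orderOf_conj' g⁻¹ h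
      rw [inv_inv] at this
      rwa [this]

/-- **The counting theorem.** -/
theorem exists_trivial_set (z : O) (htr : ∀ w : O, ∃ g : T, g • z = w) (x₀ : X)
    (hX : ∀ x : X, ∃ d ∈ stabilizer T z, d • x₀ = x)
    (hH : ∀ b ∈ stabilizer T z, b ≠ 1 → (fixedBy O b).ncard ≤ (coprimeCent z b).ncard) :
    ∃ Z : Set T, Z.ncard = Nat.card O ∧ (∀ y ∈ Z, ∀ x : X, y • x = x) ∧
      (∀ t : T, (orderOf t).Coprime (Nat.card (stabilizer T z)) → t ∈ Z) ∧
      ∀ y ∉ Z, ∃ b ∈ Subgroup.zpowers y, b ≠ 1 ∧ ∃ w : O, b • w = w := by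
  classical
  haveI := Fintype.ofFinite T
  haveI := Fintype.ofFinite O
  haveI := Fintype.ofFinite X
  set D := stabilizer T z
  set d := Nat.card D with hd
  let f : T → ℕ := fun b => (fixedBy O b).ncard
  let P : T → ℕ := fun b => (fixedBy X b).ncard
  let B : Finset T := Finset.univ.filter fun b => b ≠ 1 ∧ ∃ w : O, b • w = w
  have hconj : ∀ b ∈ B, ∃ g : T, g⁻¹ * b * g ∈ D := by
    intro b hb
    obtain ⟨-, w, hw⟩ := (Finset.mem_filter.1 hb).2
    obtain ⟨g, rfl⟩ := htr w
    exact ⟨g, by rw [mem_stabilizer_iff, mul_smul, mul_smul, hw, inv_smul_smul]⟩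
  have hfconj : ∀ g b : T, f (g * b * g⁻¹) = f b := by
    intro g b
    refine (Set.ncard_congr (fun w _ => g • w) ?_ (fun a c _ _ e => by simpa using e) ?_).symm
    · intro w hw
      rw [mem_fixedBy] at hw ⊢
      simp [mul_smul, hw]
    · intro w hw
      rw [mem_fixedBy] at hw
      refine ⟨g⁻¹ • w, ?_, smul_inv_smul g w⟩
      rw [mem_fixedBy]
      calc b • g⁻¹ • w = g⁻¹ • (g * b * g⁻¹) • w := by simp [mul_smul]
        _ = g⁻¹ • w := by rw [hw]
  have hPconj : ∀ g b : T, P (g * b * g⁻¹) = P b := by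
    intro g b
    refine (Set.ncard_congr (fun w _ => g • w) ?_ (fun a c _ _ e => by simpa using e) ?_).symm
    · intro w hw
      rw [mem_fixedBy] at hw ⊢
      simp [mul_smul, hw]
    · intro w hw
      rw [mem_fixedBy] at hw
      refine ⟨g⁻¹ • w, ?_, smul_inv_smul g w⟩
      rw [mem_fixedBy]
      calc b • g⁻¹ • w = g⁻¹ • (g * b * g⁻¹) • w := by simp [mul_smul]
        _ = g⁻¹ • w := by rw [hw]
  have hord : ∀ b ∈ B, orderOf b ∣ d := by
    intro b hb
    obtain ⟨g, hg⟩ := hconj b hb
    have h1 := Subgroup.orderOf_dvd_natCard D hg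
    have h2 := orderOf_conj' g⁻¹ b
    rw [inv_inv] at h2
    rwa [h2] at h1
  have hHB : ∀ b ∈ B, ∃ H : Finset T, H.card = f b ∧ ∀ h ∈ H, h ∈ coprimeCent z b := by
    intro b hb
    obtain ⟨g, hg⟩ := hconj b hb
    have hb1 : g⁻¹ * b * g ≠ 1 := fun e => (Finset.mem_filter.1 hb).2.1 (by
      have := congrArg (fun t => g * t * g⁻¹) e
      simpa [mul_assoc] using this)
    have h1 := hH _ hg hb1
    have h2 : g * (g⁻¹ * b * g) * g⁻¹ = b := by group
    have h3 : (coprimeCent z b).ncard = (coprimeCent z (g⁻¹ * b * g)).ncard := by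
      rw [← coprimeCent_conj z g (g⁻¹ * b * g), h2]
    have h4 : f b = (fixedBy O (g⁻¹ * b * g)).ncard := by
      conv_lhs => rw [← h2]
      exact hfconj g _
    rw [← h3, ← h4, Set.ncard_eq_toFinset_card'] at h1
    obtain ⟨H, hH1, hH2⟩ := Finset.exists_subset_card_eq h1
    exact ⟨H, hH2, fun h hh => Set.mem_toFinset.1 (hH1 hh)⟩
  choose H hHcard hHmem using hHB
  let pairs := B.attach.sigma fun b => H b.1 b.2
  let Y : Finset T := pairs.image fun p => (p.1.1 : T) * p.2
  have hpow : ∀ p ∈ pairs, ((p.1.1 : T) * p.2) ^ (orderOf p.2 ^ d.totient) = p.1.1 := by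
    intro p hp
    obtain ⟨h1, h2⟩ := hHmem _ _ _ (Finset.mem_sigma.1 hp).2
    exact exists_pow_eq_left (hord _ p.1.2) h1 h2 _ dvd_rfl h2
  have hinj : Set.InjOn (fun p : (_ : {x // x ∈ B}) × T => (p.1.1 : T) * p.2) pairs := by
    intro p hp p' hp' he
    obtain ⟨h1, h2⟩ := hHmem _ _ _ (Finset.mem_sigma.1 hp).2
    obtain ⟨h1', h2'⟩ := hHmem _ _ _ (Finset.mem_sigma.1 hp').2
    have e1 : p.1.1 = p'.1.1 :=
      left_eq_of_mul_eq (hord _ p.1.2) (hord _ p'.1.2) h1 h1' h2 h2' he
    obtain ⟨⟨b, hb⟩, y⟩ := p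
    obtain ⟨⟨b', hb'⟩, y'⟩ := p'
    obtain rfl : b = b' := e1
    obtain rfl : y = y' := mul_left_cancel he
    rfl
  have key : ∀ F : T → ℕ, (∀ g b, F (g * b * g⁻¹) = F b) →
      ∑ b ∈ B, f b * F b = Nat.card O * ∑ b ∈ Finset.univ.filter (fun b => b ∈ D ∧ b ≠ 1), F b := by
    intro F hF
    calc ∑ b ∈ B, f b * F b
        = ∑ b : T, ∑ w : O, if b ≠ 1 ∧ b • w = w then F b else 0 := by
          rw [Finset.sum_filter]
          refine Finset.sum_congr rfl fun b _ => ?_
          rw [← Finset.sum_filter, Finset.sum_const, smul_eq_mul]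
          show (if _ then f b * F b else 0) = _
          by_cases hb : b ≠ 1
          · have hfb : f b = (Finset.univ.filter fun w : O => b • w = w).card := by
              show (fixedBy O b).ncard = _
              rw [← Set.ncard_coe_finset]
              congr 1
              ext w
              simp [mem_fixedBy]
            have hset : (Finset.univ.filter fun w : O => b ≠ 1 ∧ b • w = w) =
                Finset.univ.filter fun w : O => b • w = w :=
              Finset.filter_congr fun w _ => by simp [hb]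
            rw [hset]
            split_ifs with h
            · rw [hfb]
            · rw [Finset.filter_false_of_mem (fun w _ e => h ⟨hb, w, e⟩), Finset.card_empty,
                zero_mul]
          · simp [hb]
      _ = ∑ w : O, ∑ b : T, if b ≠ 1 ∧ b • w = w then F b else 0 := Finset.sum_comm
      _ = ∑ _w : O, ∑ b : T, if b ≠ 1 ∧ b • z = z then F b else 0 := by
          refine Finset.sum_congr rfl fun w _ => ?_
          obtain ⟨g, rfl⟩ := htr w
          refine (Fintype.sum_equiv (MulAut.conj g).toEquiv _ _ fun b => ?_).symm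
          show _ = if g * b * g⁻¹ ≠ 1 ∧ (g * b * g⁻¹) • g • z = g • z then F (g * b * g⁻¹) else 0
          rw [hF]
          simp [mul_smul, conj_eq_one_iff]
      _ = _ := by
          rw [Finset.sum_const, Finset.card_univ, ← Nat.card_eq_fintype_card, smul_eq_mul,
            Finset.sum_filter]
          congr 1
          refine Finset.sum_congr rfl fun b _ => ?_
          simp [D, mem_stabilizer_iff, and_comm]
  set n := Nat.card O
  have hDset : (Finset.univ.filter fun b : T => b ∈ D).card = d := by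
    rw [hd, Nat.card_eq_fintype_card, Fintype.card_subtype]
  have hsplit : ∀ F : T → ℕ, ∑ b ∈ Finset.univ.filter (fun b => b ∈ D ∧ b ≠ 1), F b + F 1 =
      ∑ b ∈ Finset.univ.filter (fun b => b ∈ D), F b := by
    intro F
    rw [← Finset.sum_erase_add (Finset.univ.filter fun b : T => b ∈ D) F
      (show (1 : T) ∈ Finset.univ.filter fun b : T => b ∈ D by simp)]
    congr 1
    refine Finset.sum_congr ?_ fun _ _ => rfl
    ext b
    simp [and_comm]
  have hburn : ∀ S : Subgroup T, (∀ x : X, ∃ g ∈ S, g • x₀ = x) →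
      ∑ b ∈ Finset.univ.filter (fun b => b ∈ S), P b = Nat.card S := by
    intro S hS
    haveI : IsPretransitive S X := ⟨fun x y => by
      obtain ⟨a, ha, rfl⟩ := hS x
      obtain ⟨b, hb, rfl⟩ := hS y
      exact ⟨⟨b * a⁻¹, S.mul_mem hb (S.inv_mem ha)⟩, by simp [Subgroup.smul_def, mul_smul]⟩⟩
    haveI : Subsingleton (orbitRel.Quotient S X) :=
      (pretransitive_iff_subsingleton_quotient S X).1 inferInstance
    haveI : Nonempty (orbitRel.Quotient S X) := ⟨Quotient.mk _ x₀⟩
    have h := sum_card_fixedBy_eq_card_orbits_mul_card_group S X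
    rw [show Fintype.card (orbitRel.Quotient S X) = 1 from Fintype.card_eq_one_iff.2
      ⟨Quotient.mk _ x₀, fun _ => Subsingleton.elim _ _⟩, one_mul] at h
    rw [Finset.sum_subtype (p := fun b => b ∈ S) _ (fun b => by simp),
      Nat.card_eq_fintype_card, ← h]
    refine Finset.sum_congr rfl fun b _ => ?_
    show (fixedBy X (b : T)).ncard = _
    rw [← Nat.card_coe_set_eq, Nat.card_eq_fintype_card]
    rfl
  have hP1 : P 1 = Nat.card X := by simp [P, Set.ncard_univ]
  have hYcard : Y.card + n = n * d := by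
    have h1 := key (fun _ => 1) fun _ _ => rfl
    have h2 := hsplit fun _ => 1
    simp only [mul_one, Finset.sum_const, smul_eq_mul] at h1 h2
    rw [Finset.card_image_of_injOn hinj, Finset.card_sigma,
      Finset.sum_congr rfl (fun b _ => hHcard b.1 b.2), Finset.sum_attach B f, h1, ← hDset, ← h2]
    ring
  have hYsum : ∑ y ∈ Y, P y + n * Nat.card X ≤ n * d := by
    have h1 := key P hPconj
    have h2 := hsplit P
    rw [show ∑ b ∈ Finset.univ.filter (fun b => b ∈ D), P b = Nat.card D by convert hburn D hX, hP1] at h2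
    rw [Finset.sum_image hinj, Finset.sum_sigma, hd, ← h2, mul_add, ← h1,
      ← Finset.sum_attach B fun b => f b * P b]
    refine Nat.add_le_add_right (Finset.sum_le_sum fun b _ => ?_) _
    rw [← hHcard b.1 b.2, ← smul_eq_mul, ← Finset.sum_const]
    refine Finset.sum_le_sum fun y hy => Set.ncard_le_ncard (fun x hx => ?_) (Set.toFinite _)
    have h3 := hpow ⟨b, y⟩ (Finset.mem_sigma.2 ⟨Finset.mem_attach _ _, hy⟩)
    rw [mem_fixedBy] at hx ⊢
    conv_lhs => rw [← h3]
    exact smul_pow_fix hx _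
  have hcardT : Nat.card T = n * d := by
    have h1 : orbit T z = Set.univ :=
      Set.eq_univ_of_forall fun w => let ⟨g, hg⟩ := htr w; ⟨g, hg⟩
    rw [← (stabilizer T z).index_mul_card, index_stabilizer, h1, Set.ncard_univ]
  have hall : ∑ y : T, P y = n * d := by
    have h1 := hburn ⊤ fun x => let ⟨g, _, hg⟩ := hX x; ⟨g, Subgroup.mem_top g, hg⟩
    rw [Subgroup.card_top, hcardT] at h1
    simpa using h1
  have hZcard : (Yᶜ : Finset T).card = n := by
    rw [Finset.card_compl, ← Nat.card_eq_fintype_card, hcardT]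
    omega
  have hPle : ∀ y : T, P y ≤ Nat.card X := fun y => by
    rw [← Set.ncard_univ X]
    exact Set.ncard_le_ncard (Set.subset_univ _) (Set.toFinite _)
  have hZ : ∀ y ∈ (Yᶜ : Finset T), P y = Nat.card X := by
    refine (Finset.sum_eq_sum_iff_of_le fun y _ => hPle y).1 ?_
    refine le_antisymm (Finset.sum_le_sum fun y _ => hPle y) ?_
    rw [Finset.sum_const, hZcard, smul_eq_mul]
    have := Finset.sum_add_sum_compl Y P
    omega
  refine ⟨((Yᶜ : Finset T) : Set T), by rw [Set.ncard_coe_finset, hZcard], fun y hy x => ?_, ?_, ?_⟩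
  · have h1 : fixedBy X y = Set.univ :=
      Set.eq_of_subset_of_ncard_le (Set.subset_univ _) (by
        rw [Set.ncard_univ]; exact (hZ y (by simpa using hy)).ge) (Set.toFinite _)
    have := Set.eq_univ_iff_forall.1 h1 x
    rwa [mem_fixedBy] at this
  · intro t ht
    simp only [Finset.coe_compl, Set.mem_compl_iff, Finset.mem_coe]
    intro hY
    obtain ⟨p, hp, rfl⟩ := Finset.mem_image.1 hY
    have h1 := hpow p hp
    refine (Finset.mem_filter.1 p.1.2).2.1 (orderOf_eq_one_iff.1 (Nat.eq_one_of_dvd_coprimes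
      (a := orderOf ((p.1.1 : T) * p.2)) ht ?_ (hord _ p.1.2)))
    conv_lhs => rw [← h1]
    exact orderOf_pow_dvd _
  · intro y hy
    simp only [Finset.coe_compl, Set.mem_compl_iff, Finset.mem_coe, not_not] at hy
    obtain ⟨p, hp, rfl⟩ := Finset.mem_image.1 hy
    obtain ⟨hne, w, hw⟩ := (Finset.mem_filter.1 p.1.2).2
    refine ⟨p.1.1, ?_, hne, w, hw⟩
    exact (congrArg (· ∈ Subgroup.zpowers ((p.1.1 : T) * p.2)) (hpow p hp)).mp
      (Subgroup.npow_mem_zpowers _ _)

/-- The kernel is regular when the stabiliser is faithful. -/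
theorem existsUnique_kernel (z : O) (htr : ∀ w : O, ∃ g : T, g • z = w) (x₀ : X)
    (hX : ∀ x : X, ∃ d ∈ stabilizer T z, d • x₀ = x)
    (hH : ∀ b ∈ stabilizer T z, b ≠ 1 → (fixedBy O b).ncard ≤ (coprimeCent z b).ncard)
    (hfaith : ∀ d ∈ stabilizer T z, (∀ x : X, d • x = x) → d = 1) :
    ∀ w : O, ∃! k : T, (∀ x : X, k • x = x) ∧ k • z = w := by
  classical
  obtain ⟨Z, hZn, hZfix, -, hZout⟩ := exists_trivial_set z htr x₀ hX hH
  let K : Set T := {k | ∀ x : X, k • x = x}
  have hfree : ∀ k ∈ K, ∀ w : O, k • w = w → k = 1 := by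
    intro k hk w hw
    obtain ⟨g, rfl⟩ := htr w
    have h1 : g⁻¹ * k * g = 1 := by
      refine hfaith _ ?_ fun x => ?_
      · rw [mem_stabilizer_iff, mul_smul, mul_smul, hw, inv_smul_smul]
      · rw [mul_smul, mul_smul, hk, inv_smul_smul]
    have := congrArg (fun t => g * t * g⁻¹) h1
    simpa [mul_assoc] using this
  have hKZ : K = Z := by
    refine Set.Subset.antisymm (fun k hk => ?_) hZfix
    by_contra hkZ
    obtain ⟨b, ⟨e, rfl⟩, hb1, w, hw⟩ := hZout k hkZ
    refine hb1 (hfree _ (fun x => ?_) w hw)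
    exact smul_zpow_fix (hk x) e
  have hinj : Set.InjOn (fun k : T => k • z) K := by
    intro k hk k' hk' he
    have h1 : k'⁻¹ * k = 1 := hfree _ (fun x => by
      rw [mul_smul, hk x, inv_smul_eq_iff, hk' x]) z (by
      simp only at he
      rw [mul_smul, he, inv_smul_smul])
    exact (inv_mul_eq_one.1 h1).symm
  have himg : (fun k : T => k • z) '' K = Set.univ := by
    refine Set.eq_of_subset_of_ncard_le (Set.subset_univ _) ?_ (Set.toFinite _)
    rw [Set.ncard_univ, Set.ncard_image_of_injOn hinj, hKZ, hZn]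
  intro w
  obtain ⟨k, hk, rfl⟩ := Set.eq_univ_iff_forall.1 himg w
  exact ⟨k, ⟨hk, rfl⟩, fun k' hk' => hinj hk'.1 hk hk'.2⟩

end CfsgLib.BenderQ.Count
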