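import Mathlib
import Cfsg.Agent.Lib.BenderTrans.Induct

/-!
A two point stabiliser `A : ⟨s⟩` with `A` regular of order `2 ^ q - 1` on the commuting involutions
at the first point: elementary facts.
-/

set_option autoImplicit false
set_option linter.unusedSectionVars false

namespace CfsgLib.BenderQ

open CfsgLib.BenderTrans CfsgLib.Involutions MulAction

universe u v

variable {G : Type u} [Group G] {Ω : Type v} [MulAction G Ω]

instance invAtAction (c : Ω) : MulAction (stabilizer G c) (invAt G c) where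
  smul g u := ⟨(g : G) * u * (g : G)⁻¹, by
    have h := conj_mem_invAt (g := (g : G)) u.2
    rwa [show (g : G) • c = c from g.2] at h⟩
  one_smul u := Subtype.ext (show ((1 : stabilizer G c) : G) * u * ((1 : stabilizer G c) : G)⁻¹ = u by
    simp)
  mul_smul g k u := Subtype.ext (show ((g * k : stabilizer G c) : G) * u * ((g * k : stabilizer G c) : G)⁻¹ =
      (g : G) * ((k : G) * u * (k : G)⁻¹) * (g : G)⁻¹ by
    simp only [Subgroup.coe_mul]; group)

theorem smul_invAt_coe {c : Ω} (g : stabilizer G c) (u : invAt G c) :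
    ((g • u : invAt G c) : G) = (g : G) * u * (g : G)⁻¹ := rfl

/-- In a free action the group order times the number of orbits is the number of points. -/
theorem card_eq_orbits_mul {H : Type*} [Group H] [Finite H] {Y : Type*} [MulAction H Y] [Finite Y]
    (hfree : ∀ (g : H) (z : Y), g • z = z → g = 1) :
    Nat.card Y = Nat.card (Quotient (orbitRel H Y)) * Nat.card H := by
  classical
  haveI := Fintype.ofFinite H
  haveI := Fintype.ofFinite Y
  haveI : Fintype (Quotient (orbitRel H Y)) := Fintype.ofFinite _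
  simp only [Nat.card_eq_fintype_card]
  rw [← sum_card_fixedBy_eq_card_orbits_mul_card_group H Y, Finset.sum_eq_single (1 : H)]
  · exact Fintype.card_congr ⟨fun z => ⟨z, one_smul H z⟩, fun z => z.1, fun _ => rfl, fun _ => rfl⟩
  · intro g _ hg
    exact Fintype.card_eq_zero_iff.2 ⟨fun z => hg (hfree g z.1 z.2)⟩
  · intro h; exact absurd (Finset.mem_univ _) h

/-- The two point stabiliser of `c, y` contains `A` with index `f` (one or the prime `q`), and `A` is
regular on the commuting involutions at `c`, which are `2 ^ q - 1` in number. -/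
structure Singer (G : Type u) {Ω : Type v} [Group G] [MulAction G Ω] (c y : Ω) (q f : ℕ)
    (A : Subgroup G) (r : G) : Prop where
  oneFix : OneFix G Ω
  twoTrans : TwoTrans G Ω
  ne : c ≠ y
  prime : q.Prime
  ne_two : q ≠ 2
  card_inv : (invAt G c).ncard + 1 = 2 ^ q
  f_cases : f = 1 ∨ f = q
  comm : ∀ u ∈ invAt G c, ∀ w ∈ invAt G c, Commute u w
  le : A ≤ BenderTrans.two G c y
  conj_mem : ∀ d ∈ BenderTrans.two G c y, ∀ a ∈ A, d * a * d⁻¹ ∈ A
  abelian : ∀ a ∈ A, ∀ b ∈ A, a * b = b * a
  transitive : ∀ u ∈ invAt G c, ∀ w ∈ invAt G c, ∃ a ∈ A, a * u * a⁻¹ = w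
  card_A : Nat.card A = (invAt G c).ncard
  card_two : Nat.card (BenderTrans.two G c y) = (invAt G c).ncard * f
  swap : r ∈ swaps G c y
  inverts : ∀ a ∈ A, r * a * r⁻¹ = a⁻¹
  fix : ∀ a ∈ A, a ≠ 1 → ∀ x : Ω, a • x = x → x = c ∨ x = y
  cent : ∀ a ∈ A, a ≠ 1 → Subgroup.centralizer ({a} : Set G) ≤ A

namespace Singer

variable {c y : Ω} {q f : ℕ} {A : Subgroup G} {r : G} (S : Singer G c y q f A r)
include S

theorem five_le_or : q = 3 ∨ 5 ≤ q := by
  have h2 := S.prime.two_le
  have h3 := S.ne_two
  have h4 : q ≠ 4 := fun e => by have := S.prime; rw [e] at this; norm_num at this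
  omega

theorem seven_le : 7 ≤ (invAt G c).ncard := by
  have h := S.card_inv
  have : 2 ^ 3 ≤ 2 ^ q := Nat.pow_le_pow_right (by norm_num) (by rcases S.five_le_or with h | h <;> omega)
  omega

theorem f_pos : 0 < f := by
  rcases S.f_cases with rfl | e
  · exact Nat.one_pos
  · exact e ▸ S.prime.pos

/-- `f` divides `m - 1`. -/
theorem dvd_sub_one : ∃ t, (invAt G c).ncard = 1 + f * t := by
  rcases S.f_cases with rfl | e
  · exact ⟨(invAt G c).ncard - 1, by have := S.seven_le; omega⟩
  rw [e]
  have := Fact.mk S.prime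
  have h := S.card_inv
  have h7 := S.seven_le
  have h2 : 2 ^ q ≡ 2 [MOD q] := by
    rw [← ZMod.natCast_eq_natCast_iff]
    push_cast
    exact ZMod.pow_card _
  have h3 : q ∣ (invAt G c).ncard + 1 - 2 := by
    rw [h]; exact (Nat.modEq_iff_dvd' (by omega)).1 h2.symm
  obtain ⟨t, ht⟩ := h3
  exact ⟨t, by omega⟩

theorem smul_c {a : G} (ha : a ∈ A) : a • c = c := (mem_two_iff.1 (S.le ha)).1

theorem smul_y {a : G} (ha : a ∈ A) : a • y = y := (mem_two_iff.1 (S.le ha)).2

theorem sq_r : r * r = 1 := mul_self_eq_one S.swap.1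

theorem inv_r : r⁻¹ = r := inv_eq_self_of_involution S.swap.1

theorem r_smul_c : r • c = y := S.swap.2

theorem r_smul_y : r • y = c := swaps_symm S.swap

theorem conj_r_mem {d : G} (hd : d ∈ BenderTrans.two G c y) : r * d * r ∈ BenderTrans.two G c y := by
  rw [mem_two_iff] at hd ⊢
  simp only [mul_smul, S.r_smul_c, S.r_smul_y, hd.1, hd.2, and_self]

theorem rep_r {a : G} (ha : a ∈ A) : r * a * r = a⁻¹ := by
  conv_lhs => rw [← S.inv_r]
  rw [show r⁻¹ * a * r⁻¹ = r⁻¹ * a * (r⁻¹)⁻¹⁻¹ by group, inv_inv, S.inv_r]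
  have := S.inverts a ha
  rwa [S.inv_r] at this

variable [Finite G]

/-- Only the identity of `A` centralises an involution at `c`. -/
theorem eq_of_conj_eq {a b u : G} (ha : a ∈ A) (hb : b ∈ A) (hu : u ∈ invAt G c)
    (h : a * u * a⁻¹ = b * u * b⁻¹) : a = b := by
  classical
  have hf : ∀ x : A, (x : G) * u * (x : G)⁻¹ ∈ invAt G c := fun x => by
    have := conj_mem_invAt (g := (x : G)) hu
    rwa [S.smul_c x.2] at this
  let f : A → invAt G c := fun x => ⟨_, hf x⟩
  have hsurj : Function.Surjective f := fun w => by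
    obtain ⟨x, hx, e⟩ := S.transitive u hu w w.2
    exact ⟨⟨x, hx⟩, Subtype.ext e⟩
  have hbij : Function.Bijective f :=
    (Nat.bijective_iff_surjective_and_card f).2 ⟨hsurj, by rw [S.card_A, Nat.card_coe_set_eq]⟩
  exact congrArg Subtype.val (hbij.1 (show f ⟨a, ha⟩ = f ⟨b, hb⟩ from Subtype.ext h))

theorem eq_one_of_fix {a u : G} (ha : a ∈ A) (hu : u ∈ invAt G c) (h : a * u * a⁻¹ = u) : a = 1 :=
  S.eq_of_conj_eq ha (one_mem A) hu (by simpa using h)

/-- Only the identity of the two point stabiliser centralises two involutions at `c`. -/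
theorem eq_one_of_fix_two {d u w : G} (hd : d ∈ BenderTrans.two G c y) (hu : u ∈ invAt G c)
    (hw : w ∈ invAt G c) (hne : u ≠ w) (hdu : d * u * d⁻¹ = u) (hdw : d * w * d⁻¹ = w) : d = 1 := by
  obtain ⟨a, ha, e⟩ := S.transitive u hu w hw
  have hb := S.conj_mem d hd a ha
  have h1 : d * a * d⁻¹ = a := by
    refine S.eq_of_conj_eq hb ha hu ?_
    calc d * a * d⁻¹ * u * (d * a * d⁻¹)⁻¹ = d * (a * (d⁻¹ * u * d) * a⁻¹) * d⁻¹ := by group
      _ = a * u * a⁻¹ := by
        have h0 : d⁻¹ * u * d = u := by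
          conv_lhs => rw [← hdu]
          group
        rw [h0, e, hdw]
  have ha1 : a ≠ 1 := fun h => hne (by rw [← e, h]; simp)
  have hdA : d ∈ A := S.cent a ha ha1
    (Subgroup.mem_centralizer_singleton_iff.2 (mul_inv_eq_iff_eq_mul.1 h1))
  exact S.eq_one_of_fix hdA hu hdu

theorem exists_ne_one : ∃ a ∈ A, a ≠ 1 := by
  by_contra h
  push Not at h
  have : A = ⊥ := (Subgroup.eq_bot_iff_forall A).2 h
  have h7 := S.seven_le
  rw [← S.card_A, this, Subgroup.card_bot] at h7
  omega

/-- The swappers of `c` and `y` are the coset `r A`. -/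
theorem mul_swap_mem {w : G} (hw : w ∈ swaps G c y) : r * w ∈ A := by
  obtain ⟨d, hd⟩ : ∃ d, d = r * w := ⟨_, rfl⟩
  rw [← hd]
  have hdD : d ∈ BenderTrans.two G c y := by
    rw [mem_two_iff, hd]
    simp only [mul_smul, hw.2, swaps_symm hw, S.r_smul_c, S.r_smul_y, and_self]
  have hrd : r * d * r = d⁻¹ := by
    have h1 : d * (r * d * r) = 1 := by
      calc d * (r * d * r) = r * w * ((r * r) * w * r) := by rw [hd]; group
        _ = 1 := by rw [S.sq_r, one_mul, mul_assoc r w, ← mul_assoc w w,
            mul_self_eq_one hw.1, one_mul, S.sq_r]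
    exact (inv_eq_of_mul_eq_one_right h1).symm
  obtain ⟨a, ha, ha1⟩ := S.exists_ne_one
  have h1 := S.rep_r (S.conj_mem d hdD a ha)
  have h2 : r * (d * a * d⁻¹) * r = d⁻¹ * a⁻¹ * d := by
    calc r * (d * a * d⁻¹) * r = (r * d * r) * (r * a * r) * (r * d * r)⁻¹ := by
          rw [mul_inv_rev, mul_inv_rev, S.inv_r]
          calc r * (d * a * d⁻¹) * r = r * d * 1 * a * 1 * d⁻¹ * r := by group
            _ = r * d * (r * r) * a * (r * r) * d⁻¹ * r := by rw [S.sq_r]
            _ = _ := by group
      _ = _ := by rw [hrd, S.rep_r ha, inv_inv]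
  have h3 : d * d ∈ Subgroup.centralizer ({a} : Set G) := by
    rw [Subgroup.mem_centralizer_singleton_iff]
    have h4 : d * a⁻¹ * d⁻¹ = d⁻¹ * a⁻¹ * d := by rw [← h2, h1]; group
    have h5 : d * d * a⁻¹ = a⁻¹ * (d * d) := by
      calc d * d * a⁻¹ = d * (d * a⁻¹ * d⁻¹) * d := by group
        _ = d * (d⁻¹ * a⁻¹ * d) * d := by rw [h4]
        _ = a⁻¹ * (d * d) := by group
    calc d * d * a = a * (a⁻¹ * (d * d)) * a := by group
      _ = a * (d * d * a⁻¹) * a := by rw [h5]
      _ = a * (d * d) := by group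
  have h6 : d * d ∈ A := S.cent a ha ha1 h3
  obtain ⟨k, hk⟩ := (S.oneFix.odd_two S.ne).of_dvd_nat (Subgroup.orderOf_dvd_natCard _ hdD)
  have h7 : (d * d) ^ (k + 1) = d := by
    rw [← sq, ← pow_mul, show 2 * (k + 1) = orderOf d + 1 by omega, pow_succ, pow_orderOf_eq_one,
      one_mul]
  rw [← h7]
  exact pow_mem h6 _

theorem mem_swaps_iff {w : G} : w ∈ swaps G c y ↔ ∃ a ∈ A, w = r * a := by
  constructor
  · intro hw
    exact ⟨r * w, S.mul_swap_mem hw, by rw [← mul_assoc, S.sq_r, one_mul]⟩
  · rintro ⟨a, ha, rfl⟩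
    refine ⟨orderOf_eq_two_iff_mul.2 ⟨fun e => S.ne ?_, ?_⟩, by rw [mul_smul, S.smul_c ha, S.r_smul_c]⟩
    · have := congrArg (· • c) e
      simp only [mul_smul, S.smul_c ha, S.r_smul_c, one_smul] at this
      exact this.symm
    · calc r * a * (r * a) = r * a * r * a := by group
        _ = 1 := by rw [S.rep_r ha, inv_mul_cancel]

/-- The normaliser of `A` is the stabiliser of the pair. -/
theorem mem_normalizer_iff {g : G} : g ∈ Subgroup.normalizer (A : Set G) ↔
    g ∈ BenderTrans.two G c y ∨ r * g ∈ BenderTrans.two G c y := by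
  constructor
  · intro hg
    obtain ⟨a, ha, ha1⟩ := S.exists_ne_one
    have hb : g⁻¹ * a * g ∈ A := (Subgroup.mem_normalizer_iff''.1 hg a).1 ha
    have key : ∀ x, x = c ∨ x = y → g • x = c ∨ g • x = y := by
      intro x hx
      refine S.fix a ha ha1 _ ?_
      have h1 : (g⁻¹ * a * g) • x = x := by
        rcases hx with rfl | rfl
        · exact S.smul_c hb
        · exact S.smul_y hb
      rwa [mul_smul, mul_smul, inv_smul_eq_iff] at h1
    have hne : g • c ≠ g • y := fun e => S.ne (smul_left_cancel g e)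
    rcases key c (Or.inl rfl) with h1 | h1 <;> rcases key y (Or.inr rfl) with h2 | h2
    · exact absurd (h1.trans h2.symm) hne
    · exact Or.inl (mem_two_iff.2 ⟨h1, h2⟩)
    · exact Or.inr (mem_two_iff.2 ⟨by rw [mul_smul, h1, S.r_smul_y], by rw [mul_smul, h2, S.r_smul_c]⟩)
    · exact absurd (h1.trans h2.symm) hne
  · intro hg
    have hD : ∀ d ∈ BenderTrans.two G c y, d ∈ Subgroup.normalizer (A : Set G) := fun d hd =>
      haveI : Finite (A : Set G) := Set.toFinite _
      Subgroup.mem_normalizer_fintype fun a ha => S.conj_mem d hd a ha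
    have hr : r ∈ Subgroup.normalizer (A : Set G) := by
      haveI : Finite (A : Set G) := Set.toFinite _
      refine Subgroup.mem_normalizer_fintype fun a ha => ?_
      rw [SetLike.mem_coe, S.inverts a ha]
      exact inv_mem ha
    rcases hg with hg | hg
    · exact hD g hg
    · have := mul_mem hr (hD _ hg)
      rwa [← mul_assoc, S.sq_r, one_mul] at this

variable [Finite Ω]

theorem exists_three : 2 ≤ Nat.card Ω :=
  haveI : Nontrivial Ω := ⟨c, y, S.ne⟩
  Finite.one_lt_card

theorem card_stabilizer :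
    Nat.card (stabilizer G c) = (Nat.card Ω - 1) * Nat.card (BenderTrans.two G c y) := by
  classical
  let Y := {x : Ω // x ≠ c}
  letI : MulAction (stabilizer G c) Y :=
    { smul := fun g x => ⟨(g : G) • x.1, fun e => x.2 (smul_left_cancel (g : G)
        (e.trans (show (g : G) • c = c from g.2).symm))⟩
      one_smul := fun x => Subtype.ext (one_smul G x.1)
      mul_smul := fun g k x => Subtype.ext (mul_smul (g : G) (k : G) x.1) }
  haveI : IsPretransitive (stabilizer G c) Y := ⟨fun x z => by
    obtain ⟨g, hg, hgx⟩ := S.twoTrans c x.1 z.1 x.2 z.2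
    exact ⟨⟨g, hg⟩, Subtype.ext hgx⟩⟩
  let y' : Y := ⟨y, S.ne.symm⟩
  have h := (stabilizer (stabilizer G c) y').index_mul_card
  rw [index_stabilizer_of_transitive] at h
  have hY : Nat.card Y = Nat.card Ω - 1 := by
    haveI := Fintype.ofFinite Ω
    simp only [Y, Nat.card_eq_fintype_card, Fintype.card_subtype_compl, Fintype.card_subtype_eq]
  have hD : Nat.card (stabilizer (stabilizer G c) y') = Nat.card (BenderTrans.two G c y) :=
    Nat.card_congr
      { toFun := fun g => ⟨((g : stabilizer G c) : G),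
          mem_two_iff.2 ⟨(g : stabilizer G c).2, congrArg Subtype.val (show (g : stabilizer G c) • y' = y' from g.2)⟩⟩
        invFun := fun d => ⟨⟨(d : G), (mem_two_iff.1 d.2).1⟩, Subtype.ext (mem_two_iff.1 d.2).2⟩
        left_inv := fun g => rfl
        right_inv := fun d => rfl }
  rw [← h, hY, hD]

theorem card_group : Nat.card G = Nat.card Ω * Nat.card (stabilizer G c) := by
  haveI : IsPretransitive G Ω := ⟨S.oneFix.trans⟩
  rw [← (stabilizer G c).index_mul_card, index_stabilizer_of_transitive]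

/-- `n ≡ 2` modulo `m`. -/
theorem card_points : ∃ l, Nat.card Ω = 2 + (invAt G c).ncard * l := by
  classical
  let Y := {x : Ω // x ≠ c ∧ x ≠ y}
  letI : MulAction A Y :=
    { smul := fun a x => ⟨(a : G) • x.1,
        fun e => x.2.1 (smul_left_cancel (a : G) (e.trans (S.smul_c a.2).symm)),
        fun e => x.2.2 (smul_left_cancel (a : G) (e.trans (S.smul_y a.2).symm))⟩
      one_smul := fun x => Subtype.ext (one_smul G x.1)
      mul_smul := fun g k x => Subtype.ext (mul_smul (g : G) (k : G) x.1) }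
  have h := card_eq_orbits_mul (H := A) (Y := Y) fun a x hx => by
    by_contra ha
    rcases S.fix a a.2 (fun e => ha (Subtype.ext e)) x.1 (congrArg Subtype.val hx) with e | e
    · exact x.2.1 e
    · exact x.2.2 e
  haveI := Fintype.ofFinite Ω
  have hY : Nat.card Y = Nat.card Ω - 2 := by
    simp only [Y, Nat.card_eq_fintype_card]
    rw [Fintype.card_subtype, show (Finset.univ.filter fun x : Ω => x ≠ c ∧ x ≠ y) =
      (Finset.univ : Finset Ω) \ {c, y} by ext x; simp [and_comm], Finset.card_sdiff_of_subset (by simp),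
      Finset.card_pair S.ne, Finset.card_univ]
  have h2 := S.exists_three
  rw [hY, S.card_A] at h
  exact ⟨Nat.card (Quotient (orbitRel A Y)), by rw [mul_comm]; omega⟩

/-- An element of `stabilizer G c` interchanging two involutions at `c` fuses two suborbits. -/
theorem card_orbits_mul_le {g u w : G} (hg : g • c = c) (hu : u ∈ invAt G c) (hw : w ∈ invAt G c)
    (hne : u ≠ w) (h1 : g * u * g⁻¹ = w) (h2 : g * w * g⁻¹ = u) :
    Nat.card (Quotient (orbitRel (stabilizer G c) (invAt G c × invAt G c))) * f <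
      (invAt G c).ncard := by
  classical
  set m := (invAt G c).ncard with hm
  let D : Subgroup (stabilizer G c) := (BenderTrans.two G c y).subgroupOf (stabilizer G c)
  have hDle : BenderTrans.two G c y ≤ stabilizer G c := inf_le_left
  let P := {p : invAt G c × invAt G c // p.1 ≠ p.2}
  letI : MulAction D P :=
    { smul := fun d p => ⟨(d : stabilizer G c) • p.1, fun e => p.2 (smul_left_cancel _ e)⟩
      one_smul := fun p => Subtype.ext (one_smul (stabilizer G c) p.1)
      mul_smul := fun d k p => Subtype.ext (mul_smul (d : stabilizer G c) (k : stabilizer G c) p.1) }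
  have hfree : ∀ (d : D) (p : P), d • p = p → d = 1 := by
    intro d p hp
    have hp' : (d : stabilizer G c) • p.1 = p.1 := congrArg Subtype.val hp
    refine Subtype.ext (Subtype.ext ?_)
    exact S.eq_one_of_fix_two d.2 p.1.1.2 p.1.2.2 (fun e => p.2 (Subtype.ext e))
      (congrArg Subtype.val (congrArg Prod.fst hp')) (congrArg Subtype.val (congrArg Prod.snd hp'))
  have hcard := card_eq_orbits_mul hfree
  haveI := Fintype.ofFinite (invAt G c)
  have hP : Nat.card P = m * m - m := by
    simp only [P, Nat.card_eq_fintype_card]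
    rw [Fintype.card_subtype, show (Finset.univ.filter fun p : invAt G c × invAt G c => p.1 ≠ p.2) =
      (Finset.univ : Finset (invAt G c)).offDiag by ext p; simp, Finset.offDiag_card, Finset.card_univ,
      ← Nat.card_eq_fintype_card, Nat.card_coe_set_eq]
  have hDc : Nat.card D = m * f := by
    rw [Nat.card_congr (Subgroup.subgroupOfEquivOfLe hDle).toEquiv, S.card_two]
  rw [hP, hDc] at hcard
  have h7 := S.seven_le
  have hK : Nat.card (Quotient (orbitRel D P)) * f + 1 = m := by
    have hq : Nat.card (Quotient (orbitRel D P)) * f = m - 1 := by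
      refine Nat.eq_of_mul_eq_mul_left (show 0 < m by omega) ?_
      rw [Nat.mul_sub, mul_one, hcard]
      ring
    omega
  -- fusion
  let Φ : Option (Quotient (orbitRel D P)) →
      Quotient (orbitRel (stabilizer G c) (invAt G c × invAt G c)) :=
    fun o => o.elim (Quotient.mk _ (⟨u, hu⟩, ⟨u, hu⟩)) (Quotient.lift (fun p : P => Quotient.mk _ p.1)
      fun a b hab => by
        obtain ⟨d, rfl⟩ := orbitRel_apply.mp hab
        exact Quotient.sound (orbitRel_apply.mpr ⟨(d : stabilizer G c), rfl⟩))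
  have hsurj : Function.Surjective Φ := by
    intro o
    induction o using Quotient.inductionOn with
    | h p =>
      by_cases hp : p.1 = p.2
      · obtain ⟨a, ha, e⟩ := S.transitive u hu p.1 p.1.2
        refine ⟨none, Quotient.sound (orbitRel_apply.mpr ?_)⟩
        refine ⟨⟨a, S.smul_c ha⟩⁻¹, ?_⟩
        rw [inv_smul_eq_iff]
        refine Prod.ext (Subtype.ext ?_) (Subtype.ext ?_)
        · exact e.symm
        · rw [← hp]; exact e.symm
      · exact ⟨some (Quotient.mk _ ⟨p, hp⟩), rfl⟩
  have hnotinj : ¬ Function.Injective Φ := by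
    intro hinj
    let p₁ : P := ⟨(⟨u, hu⟩, ⟨w, hw⟩), fun e => hne (congrArg Subtype.val e)⟩
    let p₂ : P := ⟨(⟨w, hw⟩, ⟨u, hu⟩), fun e => hne (congrArg Subtype.val e).symm⟩
    have he : Φ (some (Quotient.mk _ p₂)) = Φ (some (Quotient.mk _ p₁)) :=
      Quotient.sound (orbitRel_apply.mpr ⟨⟨g, hg⟩, Prod.ext (Subtype.ext h1) (Subtype.ext h2)⟩)
    obtain ⟨d, hd⟩ := orbitRel_apply.mp (Quotient.exact (Option.some_injective _ (hinj he)))
    have hd' : (d : stabilizer G c) • p₁.1 = p₂.1 := congrArg Subtype.val hd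
    have e1 : ((d : stabilizer G c) : G) * u * ((d : stabilizer G c) : G)⁻¹ = w :=
      congrArg Subtype.val (congrArg Prod.fst hd')
    have e2 : ((d : stabilizer G c) : G) * w * ((d : stabilizer G c) : G)⁻¹ = u :=
      congrArg Subtype.val (congrArg Prod.snd hd')
    have hdd : d * d = 1 := by
      refine hfree _ p₁ (Subtype.ext ?_)
      show ((d : stabilizer G c) * d) • p₁.1 = p₁.1
      rw [mul_smul, hd']
      exact Prod.ext (Subtype.ext e2) (Subtype.ext e1)
    have hd1 : d = 1 := by
      have h2 : orderOf d ∣ 2 := orderOf_dvd_of_pow_eq_one (by rw [sq, hdd])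
      have hodd : Odd (orderOf d) := by
        refine Odd.of_dvd_nat ?_ (orderOf_dvd_natCard d)
        rw [Nat.card_congr (Subgroup.subgroupOfEquivOfLe hDle).toEquiv]
        exact S.oneFix.odd_two S.ne
      rcases (Nat.dvd_prime Nat.prime_two).1 h2 with h | h
      · exact orderOf_eq_one_iff.1 h
      · rw [h] at hodd; exact absurd hodd (by decide)
    rw [hd1] at e1
    exact hne (by simpa using e1)
  have hlt : Nat.card (Quotient (orbitRel (stabilizer G c) (invAt G c × invAt G c))) <
      Nat.card (Option (Quotient (orbitRel D P))) := by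
    refine lt_of_le_of_ne (Nat.card_le_card_of_surjective Φ hsurj) fun e => hnotinj ?_
    exact ((Nat.bijective_iff_surjective_and_card Φ).2 ⟨hsurj, e.symm⟩).1
  rw [Finite.card_option] at hlt
  have := Nat.mul_le_mul_right f (Nat.lt_succ_iff.1 hlt)
  omega

end Singer

end CfsgLib.BenderQ
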