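import Mathlib
import Cfsg.Agent.Lib.BenderQ.CountCore
import Cfsg.Agent.Lib.BenderQ.SingerBasic

/-!
The counting theorem in a two-transitive action in which every involution fixes one point.
-/

set_option autoImplicit false
set_option linter.unusedSectionVars false

namespace CfsgLib.BenderQ

open CfsgLib.BenderTrans CfsgLib.Involutions MulAction

universe u v

variable {G : Type u} [Group G] {Ω : Type v} [MulAction G Ω]

instance otherPointsAction (c : Ω) : MulAction (stabilizer G c) {w : Ω // w ≠ c} where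
  smul g w := ⟨(g : G) • (w : Ω), fun e => w.2 (MulAction.injective (g : G) (e.trans g.2.symm))⟩
  one_smul w := Subtype.ext (one_smul G (w : Ω))
  mul_smul g k w := Subtype.ext (mul_smul (g : G) (k : G) (w : Ω))

theorem smul_other_coe {c : Ω} (g : stabilizer G c) (w : {w : Ω // w ≠ c}) :
    ((g • w : {w : Ω // w ≠ c}) : Ω) = (g : G) • (w : Ω) := rfl

variable (G Ω) in
/-- Every element fixing `c` and `z` has enough centralising elements in the stabiliser of `c` of
order prime to that of the two point stabiliser. -/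
def EnoughCoprime (c z : Ω) : Prop :=
  ∀ b ∈ BenderTrans.two G c z, b ≠ 1 →
    ∃ H : Set G, (∀ h ∈ H, h • c = c ∧ Commute b h ∧
      (orderOf h).Coprime (Nat.card (BenderTrans.two G c z))) ∧
      {w : Ω | w ≠ c ∧ b • w = w}.ncard ≤ H.ncard

variable [Finite G] [Finite Ω]

theorem count_core (h : OneFix G Ω) (h2 : TwoTrans G Ω) {c z : Ω} (hz : z ≠ c)
    (hE : EnoughCoprime G Ω c z) :
    (∀ s ∈ invAt G c, ∀ t ∈ invAt G c, Commute s t) ∧
    ((∀ d ∈ BenderTrans.two G c z, (∀ t ∈ invAt G c, Commute d t) → d = 1) →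
      ∀ w, w ≠ c → ∃! k : G, k • c = c ∧ (∀ t ∈ invAt G c, Commute k t) ∧ k • z = w) := by
  classical
  set T := stabilizer G c
  let z' : {w : Ω // w ≠ c} := ⟨z, hz⟩
  have hmemD : ∀ g : T, g ∈ stabilizer T z' ↔ (g : G) ∈ BenderTrans.two G c z := fun g => by
    rw [mem_stabilizer_iff, mem_two_iff, Subtype.ext_iff, smul_other_coe]
    exact ⟨fun e => ⟨g.2, e⟩, fun e => e.2⟩
  have hcard : Nat.card (stabilizer T z') = Nat.card (BenderTrans.two G c z) :=
    Nat.card_congr
      { toFun := fun g => ⟨(g.1 : G), (hmemD g.1).1 g.2⟩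
        invFun := fun g => ⟨⟨g.1, (mem_two_iff.1 g.2).1⟩, (hmemD _).2 g.2⟩
        left_inv := fun g => rfl
        right_inv := fun g => rfl }
  have htr : ∀ w : {w : Ω // w ≠ c}, ∃ g : T, g • z' = w := fun w => by
    obtain ⟨g, hgc, hgw⟩ := h2 c z w hz w.2
    exact ⟨⟨g, hgc⟩, Subtype.ext hgw⟩
  obtain ⟨s₀, hs₀⟩ := h.exists_invAt c
  let x₀ : invAt G c := ⟨s₀, hs₀⟩
  have hX : ∀ x : invAt G c, ∃ d ∈ stabilizer T z', d • x₀ = x := fun x => by
    obtain ⟨d, hd, hdx⟩ := h.exists_conj_invAt hz.symm hs₀ x.2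
    exact ⟨⟨d, (mem_two_iff.1 hd).1⟩, (hmemD _).2 hd, Subtype.ext hdx⟩
  have hH : ∀ b ∈ stabilizer T z', b ≠ 1 →
      (fixedBy {w : Ω // w ≠ c} b).ncard ≤ (Count.coprimeCent z' b).ncard := by
    intro b hb hb1
    obtain ⟨H, hH, hle⟩ := hE b ((hmemD b).1 hb) fun e => hb1 (Subtype.ext e)
    have e1 : (fixedBy {w : Ω // w ≠ c} b).ncard = {w : Ω | w ≠ c ∧ (b : G) • w = w}.ncard := by
      refine Set.ncard_congr (fun w _ => (w : Ω)) (fun w hw => ⟨w.2, congrArg Subtype.val hw⟩)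
        (fun a a' _ _ e => Subtype.ext e) fun w hw => ⟨⟨w, hw.1⟩, Subtype.ext hw.2, rfl⟩
    have e2 : H.ncard ≤ (Count.coprimeCent z' b).ncard := by
      refine Set.ncard_le_ncard_of_injOn
        (fun g => if hg : g • c = c then (⟨g, hg⟩ : T) else 1) ?_ ?_ (Set.toFinite _)
      · intro g hg
        obtain ⟨hgc, hcom, hcop⟩ := hH g hg
        simp only [dif_pos hgc]
        refine ⟨Subtype.ext hcom, ?_⟩
        rw [hcard, ← Subgroup.orderOf_coe]
        exact hcop
      · intro g hg g' hg' e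
        simp only [dif_pos (hH g hg).1, dif_pos (hH g' hg').1] at e
        exact congrArg Subtype.val e
    exact e1.le.trans (hle.trans e2)
  have hcom : ∀ (g : T) (x : invAt G c), g • x = x → Commute (g : G) (x : G) := fun g x e => by
    have e' : (g : G) * x * (g : G)⁻¹ = x := congrArg Subtype.val e
    exact mul_inv_eq_iff_eq_mul.1 e'
  constructor
  · obtain ⟨Z, -, hZfix, hZmem, -⟩ := Count.exists_trivial_set z' htr x₀ hX hH
    intro s hs t ht
    have hZs : (⟨s, hs.2⟩ : T) ∈ Z := by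
      refine hZmem _ ?_
      rw [hcard, ← Subgroup.orderOf_coe, hs.1, Nat.coprime_two_left]
      exact h.odd_two hz.symm
    exact hcom _ _ (hZfix _ hZs ⟨t, ht⟩)
  · intro hfaith w hw
    have hf : ∀ d ∈ stabilizer T z', (∀ x : invAt G c, d • x = x) → d = 1 := fun d hd hdx =>
      Subtype.ext (hfaith _ ((hmemD d).1 hd) fun t ht => hcom d ⟨t, ht⟩ (hdx ⟨t, ht⟩))
    obtain ⟨k, ⟨hk1, hk2⟩, hk3⟩ := Count.existsUnique_kernel z' htr x₀ hX hH hf ⟨w, hw⟩
    refine ⟨k, ⟨k.2, fun t ht => hcom k ⟨t, ht⟩ (hk1 _), congrArg Subtype.val hk2⟩, ?_⟩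
    rintro g ⟨hgc, hgcom, hgz⟩
    exact congrArg Subtype.val (hk3 ⟨g, hgc⟩ ⟨fun x => Subtype.ext (by
      show g * x * g⁻¹ = x
      rw [(hgcom x x.2).eq, mul_inv_cancel_right]), Subtype.ext hgz⟩)

end CfsgLib.BenderQ
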