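import Cfsg.Agent.Lib.BenderTrans.Main

/-!
Named statements of Bender's theorem on the regular normal subgroup of a point stabiliser, as used
between the pieces of its proof and by its consumers.
-/

set_option autoImplicit false

namespace CfsgLib.BenderQ

open CfsgLib.BenderTrans MulAction

universe u v

variable (G : Type u) [Group G] (Ω : Type v) [MulAction G Ω]

/-- The stabiliser of `c` has a normal 2-subgroup regular on the other points. -/
def HasKernelAt (c : Ω) : Prop :=
  ∃ Q : Subgroup G, Q ≤ stabilizer G c ∧
    stabilizer G c ≤ Subgroup.normalizer (Q : Set G) ∧ IsPGroup 2 Q ∧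
    (∀ x y : Ω, x ≠ c → y ≠ c → ∃ g ∈ Q, g • x = y) ∧
    (∀ g ∈ Q, ∀ x : Ω, x ≠ c → g • x = x → g = 1)

/-- The theorem for all proper sections. -/
def KernelBelow : Prop :=
  ∀ M : Subgroup G, M ≠ ⊤ → Multi Ω M → FourIn M → ∀ c : centres Ω M,
    HasKernelAt (Sect Ω M) (centres Ω M) c

/-- Involutions with the same centre commute. -/
def CommAt : Prop :=
  ∀ c : Ω, ∀ s ∈ invAt G c, ∀ t ∈ invAt G c, Commute s t

/-- An element of prime order fixing at least three points and commuting with exactly one of the
involutions at a fixed point. -/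
def IsBad (q : ℕ) (x : G) : Prop :=
  q.Prime ∧ orderOf x = q ∧ 2 < {z : Ω | x • z = z}.ncard ∧
    ∃ c : Ω, x • c = c ∧ ∃! t : G, t ∈ invAt G c ∧ Commute x t

/-- No element of prime order is bad. -/
def NoBad : Prop :=
  ∀ (q : ℕ) (x : G), ¬ IsBad G Ω q x

/-- Point stabilisers have no nontrivial normal subgroup of odd order. -/
def CoreTrivial : Prop :=
  ∀ c : Ω, ∀ N : Subgroup G, N ≤ stabilizer G c → stabilizer G c ≤ Subgroup.normalizer (N : Set G) →
    Odd (Nat.card N) → N = ⊥

/-- `CoreTrivial` for every faithful action with a four group (the form of S1221 used here). -/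
def CoreTrivialAll : Prop :=
  ∀ (G : Type u) [Group G] [Finite G] (Ω : Type u) [MulAction G Ω] [Finite Ω],
    OneFix G Ω → (∀ g : G, (∀ x : Ω, g • x = x) → g = 1) → HasFour G → CoreTrivial G Ω

/-- The elements of the two point stabiliser inverted by `r`. -/
def invSet (c y : Ω) (r : G) : Set G :=
  {d | d ∈ two G c y ∧ r * d * r⁻¹ = d⁻¹}

/-- The setting of the induction step. -/
structure Step : Prop where
  base : OneFix G Ω
  faith : ∀ g : G, (∀ x : Ω, g • x = x) → g = 1
  four : HasFour G
  concl : Concl G Ω
  core : CoreTrivial G Ω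
  below : KernelBelow G Ω

/-- Bender's theorem: every faithful action with a four group in which each involution fixes
exactly one point has the regular normal 2-subgroup in each point stabiliser. -/
def BenderKernel : Prop :=
  ∀ (G : Type u) [Group G] [Finite G] (Ω : Type u) [MulAction G Ω] [Finite Ω],
    OneFix G Ω → (∀ g : G, (∀ x : Ω, g • x = x) → g = 1) → HasFour G → ∀ c : Ω, HasKernelAt G Ω c

end CfsgLib.BenderQ
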