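import Mathlib
import Cfsg.Agent.Lib.BenderQ.CountMain
import Cfsg.Agent.Lib.BenderQ.Kernel
import Cfsg.Agent.Lib.BenderTrans.Central

/-!
Centralising 2-elements from the regular normal subgroups of proper sections: the counting theorem
applies as soon as every element of prime order fixing three points has a four group in its
centraliser.
-/

set_option autoImplicit false
set_option linter.unusedSectionVars false
set_option linter.style.haveILetI false

namespace CfsgLib.BenderQ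

open CfsgLib.BenderTrans CfsgLib.Involutions CfsgLib.OddOrder MulAction

universe u

variable {G : Type u} [Group G] [Finite G] {Ω : Type u} [MulAction G Ω] [Finite Ω]

variable (G Ω) in
/-- Elements of prime order with at least three fixed points have four groups in their centralisers. -/
def FourFix : Prop :=
  ∀ x : G, (orderOf x).Prime → 2 < {w : Ω | x • w = w}.ncard →
    FourIn (Subgroup.centralizer ({x} : Set G))

variable (S : Step G Ω)
  (hodd : ∀ X : Type u, ∀ _ : Group X, ∀ _ : Finite X, Odd (Nat.card X) → Group.IsSolvable X)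
include S hodd

theorem Step.centralFor (q : ℕ) [Fact q.Prime] : CentralFor G Ω q :=
  central_of_card_le _ G Ω le_rfl hodd S.base S.faith S.four q

/-- A point fixed by an element of prime order with three fixed points is the centre of a commuting
involution. -/
theorem Step.exists_invAt_commute {x : G} (hx : (orderOf x).Prime)
    (h3 : 2 < {w : Ω | x • w = w}.ncard) {c : Ω} (hc : x • c = c) :
    ∃ t ∈ invAt G c, Commute x t := by
  classical
  haveI : Fact (orderOf x).Prime := ⟨hx⟩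
  by_cases hd : orderOf x ∣ (invAt G c).ncard
  · have C : Ctx G Ω (orderOf x) := ⟨S.base, S.faith, S.four, S.concl,
      fun y => S.base.ncard_invAt_eq y c ▸ hd, hodd⟩
    have hfix : fixSet Ω (Subgroup.zpowers x) = {w : Ω | x • w = w} := by
      ext w
      refine ⟨fun h => h x (Subgroup.mem_zpowers x), ?_⟩
      rintro h g ⟨k, rfl⟩
      exact mem_stabilizer_iff.1 ((stabilizer G w).zpow_mem (mem_stabilizer_iff.2 h) k)
    have hP : IsPGroup (orderOf x) (Subgroup.zpowers x) :=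
      IsPGroup.of_card (n := 1) (by rw [Nat.card_zpowers, pow_one])
    obtain ⟨t, ht, ht2, htc⟩ : c ∈ centres Ω
        (Subgroup.centralizer ((Subgroup.zpowers x : Subgroup G) : Set G)) := by
      rw [(C.lineFix (S.centralFor hodd _) hP (by rw [hfix]; exact h3)).2, hfix]
      exact hc
    exact ⟨t, ⟨ht2, htc⟩, ht x (Subgroup.mem_zpowers x)⟩
  · let xT : stabilizer G c := ⟨x, hc⟩
    have hP : IsPGroup (orderOf x) (Subgroup.zpowers xT) :=
      IsPGroup.of_card (n := 1) (by rw [Nat.card_zpowers, ← Subgroup.orderOf_coe, pow_one])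
    obtain ⟨t, ht⟩ := hP.nonempty_fixed_point_of_prime_not_dvd_card (α := invAt G c)
      (by rwa [Nat.card_coe_set_eq])
    have h1 := ht ⟨xT, Subgroup.mem_zpowers xT⟩
    have h2 : x * (t : G) * x⁻¹ = t := congrArg Subtype.val h1
    exact ⟨t, t.2, mul_inv_eq_iff_eq_mul.1 h2⟩

omit hodd in
theorem Step.centralizer_ne_top {x : G} (hx : x ≠ 1) :
    Subgroup.centralizer ({x} : Set G) ≠ ⊤ := by
  intro htop
  refine hx (S.faith x fun w => ?_)
  obtain ⟨t, ht⟩ := S.base.exists_invAt w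
  exact S.base.fix_of_commute ht
    (Subgroup.mem_centralizer_singleton_iff.1 (htop ▸ Subgroup.mem_top t)).symm

/-- An involution centralises an odd group it normalises that fixes its centre and another point. -/
theorem Step.commute_of_le_two {c z : Ω} (hz : z ≠ c) {K : Subgroup G}
    (hK : K ≤ BenderTrans.two G c z) {t : G} (ht : t ∈ invAt G c)
    (hn : t ∈ Subgroup.normalizer (K : Set G)) : ∀ g ∈ K, Commute g t := by
  have hoddK : Odd (Nat.card K) :=
    (S.base.odd_two hz.symm).of_dvd_nat (Subgroup.card_dvd_of_le hK)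
  set C := K ⊓ Subgroup.centralizer ({t} : Set G)
  suffices hC : Nat.card K ∣ Nat.card C by
    have h1 : C = K := Subgroup.eq_of_le_of_card_ge inf_le_left (Nat.le_of_dvd Nat.card_pos hC)
    intro g hg
    rw [← h1] at hg
    exact Subgroup.mem_centralizer_singleton_iff.1 hg.2
  refine (Nat.dvd_iff_prime_pow_dvd_dvd _ _).2 fun p k hp hpk => ?_
  haveI : Fact p.Prime := ⟨hp⟩
  obtain ⟨W, hW, -, hWn⟩ := exists_invariant_sylowOf_ge (q := p) hoddK ht.1 hn bot_le IsPGroup.of_bot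
    (by rw [Subgroup.mem_normalizer_iff]; intro g; simp)
  have hWC : W ≤ C := fun g hg => ⟨hW.1 hg, Subgroup.mem_centralizer_singleton_iff.2
    (S.centralFor hodd p c z t hz ht W hW.2.1 (hW.1.trans hK) hWn g hg).eq⟩
  refine dvd_trans ?_ (Subgroup.card_dvd_of_le hWC)
  rw [card_sylowOf hW]
  exact pow_dvd_pow p ((hp.pow_dvd_iff_le_factorization Nat.card_pos.ne').1 hpk)

omit S hodd in
theorem exists_prime_power_of_ne_one {b : G} (hb : b ≠ 1) :
    ∃ k : ℕ, (orderOf (b ^ k)).Prime := by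
  have h1 : orderOf b ≠ 1 := fun e => hb (orderOf_eq_one_iff.1 e)
  refine ⟨orderOf b / (orderOf b).minFac, ?_⟩
  rw [orderOf_pow_orderOf_div (orderOf_pos b).ne' (Nat.minFac_dvd _)]
  exact Nat.minFac_prime h1

omit S hodd in
theorem mul_two_power {a b : G} (hc : Commute a b) (ha : ∃ k, orderOf a = 2 ^ k)
    (hb : ∃ k, orderOf b = 2 ^ k) (ho : Odd (orderOf (a * b))) : a * b = 1 := by
  obtain ⟨i, hi⟩ := ha
  obtain ⟨j, hj⟩ := hb
  refine orderOf_eq_one_iff.1 ((Nat.coprime_self _).1 (Nat.Coprime.coprime_dvd_right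
    (hc.orderOf_mul_dvd_lcm.trans (Nat.lcm_dvd_mul _ _)) ?_))
  rw [hi, hj, ← pow_add]
  exact (Nat.coprime_two_right.2 ho).pow_right _

omit S hodd in
/-- A 2-element of a point stabiliser of a section with the kernel lies in it. -/
theorem mem_kernel_of_two_power {G' : Type u} [Group G'] [Finite G'] {Ω' : Type u}
    [MulAction G' Ω'] [Finite Ω'] (h : OneFix G' Ω') {c : Ω'} {Q : Subgroup G'}
    (hQc : Q ≤ stabilizer G' c) (hn : stabilizer G' c ≤ Subgroup.normalizer (Q : Set G'))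
    (htr : ∀ x y : Ω', x ≠ c → y ≠ c → ∃ g ∈ Q, g • x = y)
    (hfree : ∀ g ∈ Q, ∀ x : Ω', x ≠ c → g • x = x → g = 1)
    {g : G'} (hg : g • c = c) {k : ℕ} (hk : g ^ (2 ^ k) = 1) : g ∈ Q := by
  obtain ⟨z, hz⟩ := h.nontriv c
  have hgz : g • z ≠ c := fun e => hz (MulAction.injective g (e.trans hg.symm))
  obtain ⟨v, hv, hvz⟩ := htr z (g • z) hz hgz
  have hd : v⁻¹ * g ∈ BenderTrans.two G' c z := mem_two_iff.2
    ⟨(stabilizer G' c).mul_mem ((stabilizer G' c).inv_mem (hQc hv)) hg,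
      by rw [mul_smul, ← hvz, inv_smul_smul]⟩
  have hmod : ∀ j : ℕ, ((v⁻¹ * g) ^ j) * (g ^ j)⁻¹ ∈ Q := by
    intro j
    induction j with
    | zero => simp
    | succ j ih =>
      have h1 : g ^ j * v⁻¹ * (g ^ j)⁻¹ ∈ Q :=
        (Subgroup.mem_normalizer_iff.1 (hn ((stabilizer G' c).pow_mem hg j)) _).1 (Q.inv_mem hv)
      have h2 : (v⁻¹ * g) ^ (j + 1) * (g ^ (j + 1))⁻¹ =
          ((v⁻¹ * g) ^ j * (g ^ j)⁻¹) * (g ^ j * v⁻¹ * (g ^ j)⁻¹) := by
        rw [pow_succ, pow_succ]; group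
      rw [h2]
      exact Q.mul_mem ih h1
  have h3 := hmod (2 ^ k)
  rw [hk, inv_one, mul_one] at h3
  have hd' := (BenderTrans.two G' c z).pow_mem hd (2 ^ k)
  have h4 := hfree _ h3 z hz (mem_two_iff.1 hd').2
  have hoddd : Odd (orderOf (v⁻¹ * g)) :=
    (h.odd_two hz.symm).of_dvd_nat (Subgroup.orderOf_dvd_natCard _ hd)
  have h5 : v⁻¹ * g = 1 := orderOf_eq_one_iff.1 ((Nat.coprime_self _).1
    (Nat.Coprime.coprime_dvd_right (orderOf_dvd_iff_pow_eq_one.2 h4)
      ((Nat.coprime_two_right.2 hoddd).pow_right k)))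
  rw [inv_mul_eq_one] at h5
  exact h5 ▸ hv

/-- An element fixing `c` and another point has a centralising 2-element of the stabiliser of `c` for
each of its fixed points, as soon as its powers of prime order with three fixed points have four
groups in their centralisers. -/
theorem Step.exists_cent_two_of_powers {c z : Ω} (hz : z ≠ c) {b : G}
    (hF : ∀ e : ℕ, (orderOf (b ^ e)).Prime → 2 < {w : Ω | (b ^ e) • w = w}.ncard →
      FourIn (Subgroup.centralizer ({b ^ e} : Set G))) (hb1 : b ≠ 1)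
    (hb : b ∈ BenderTrans.two G c z) (h3 : 2 < {w : Ω | b • w = w}.ncard) {w : Ω} (hw : w ≠ c)
    (hbw : b • w = w) :
    ∃ h : G, h • c = c ∧ Commute b h ∧ (∃ k : ℕ, orderOf h = 2 ^ k) ∧ h • z = w := by
  classical
  obtain ⟨e, hx⟩ := exists_prime_power_of_ne_one hb1
  set x := b ^ e with hxdef
  have hfix : ∀ {y : Ω}, b • y = y → x • y = y := fun {y} hy =>
    mem_stabilizer_iff.1 ((stabilizer G y).pow_mem (mem_stabilizer_iff.2 hy) e)
  have h3x : 2 < {y : Ω | x • y = y}.ncard :=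
    lt_of_lt_of_le h3 (Set.ncard_le_ncard (fun y hy => hfix hy) (Set.toFinite _))
  obtain ⟨hbc, hbz⟩ := mem_two_iff.1 hb
  set M₀ := Subgroup.centralizer ({x} : Set G) with hM₀
  have hcen : ∀ {y : Ω}, x • y = y → y ∈ centres Ω M₀ := fun {y} hy => by
    obtain ⟨t, ht, htx⟩ := S.exists_invAt_commute hodd hx h3x hy
    exact mem_centres (Subgroup.mem_centralizer_singleton_iff.2 htx.symm.eq) ht
  have hMulti₀ : Multi Ω M₀ := ⟨c, hcen (hfix hbc), z, hcen (hfix hbz), hz.symm⟩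
  set K := kerIn Ω M₀ with hK
  have hinvK : ∀ t ∈ M₀, orderOf t = 2 → ∀ g ∈ K, Commute g t := by
    intro t htM ht g hg
    obtain ⟨y, hy⟩ := S.base.exists_fix t ht
    obtain ⟨y', hy', hne⟩ : ∃ y' ∈ centres Ω M₀, y' ≠ y := by
      obtain ⟨a, ha, a', ha', haa⟩ := hMulti₀
      by_cases e : a = y
      · exact ⟨a', ha', fun e' => haa (e.trans e'.symm)⟩
      · exact ⟨a, ha, e⟩
    exact S.commute_of_le_two hodd hne (kerIn_le_two (mem_centres htM ⟨ht, hy⟩) hy') ⟨ht, hy⟩
      (le_normalizer_kerIn M₀ htM) g hg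
  set M := M₀ ⊓ Subgroup.centralizer (K : Set G) with hM
  have hMle : M ≤ M₀ := inf_le_left
  have hinvM : ∀ t ∈ M₀, orderOf t = 2 → t ∈ M := fun t htM ht =>
    ⟨htM, fun g hg => (hinvK t htM ht g hg).eq⟩
  have hcenEq : centres Ω M = centres Ω M₀ := by
    ext y
    exact ⟨fun ⟨t, htM, ht⟩ => ⟨t, hMle htM, ht⟩, fun ⟨t, htM, ht, hty⟩ =>
      ⟨t, hinvM t htM ht, ht, hty⟩⟩
  have hMulti : Multi Ω M := by unfold Multi; rw [hcenEq]; exact hMulti₀
  have hfour : FourIn M := by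
    obtain ⟨s, hs, t, ht, hs2, ht2, hst⟩ := hF e hx h3x
    exact ⟨s, hinvM s hs hs2, t, hinvM t ht ht2, hs2, ht2, hst⟩
  have hne : M ≠ ⊤ := fun htop => S.centralizer_ne_top
    (fun e1 => hx.ne_one (by rw [e1, orderOf_one])) (top_le_iff.1 (htop ▸ hMle))
  have hcM : c ∈ centres Ω M := hcenEq ▸ hcen (hfix hbc)
  have hzM : z ∈ centres Ω M := hcenEq ▸ hcen (hfix hbz)
  have hwM : w ∈ centres Ω M := hcenEq ▸ hcen (hfix hbw)
  obtain ⟨Q, hQc, hQn, hQ2, hQtr, hQfree⟩ := S.below M hne hMulti hfour ⟨c, hcM⟩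
  have hO := S.base.oneFix_sect hMulti
  have hmemQ : ∀ g : M, (g : G) • c = c → (∃ k, orderOf (g : G) = 2 ^ k) → sect Ω M g ∈ Q := by
    rintro g hgc ⟨k, hk⟩
    refine mem_kernel_of_two_power hO hQc hQn hQtr hQfree (Subtype.ext hgc) (k := k) ?_
    rw [← map_pow, show g ^ (2 ^ k) = 1 from Subtype.ext (by
      rw [Subgroup.coe_pow, ← hk, pow_orderOf_eq_one, Subgroup.coe_one]), map_one]
  -- existence
  obtain ⟨v, hv, hvz⟩ := hQtr ⟨z, hzM⟩ ⟨w, hwM⟩ (fun e' => hz (congrArg Subtype.val e'))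
    (fun e' => hw (congrArg Subtype.val e'))
  obtain ⟨g₀, hg₀⟩ := sect_surjective M v
  obtain ⟨i, o, ho, hio⟩ := Nat.exists_eq_two_pow_mul_odd (orderOf_pos g₀).ne'
  set L := o ^ (2 ^ i).totient
  obtain ⟨j, hj⟩ : ∃ j, orderOf v = 2 ^ j := by
    obtain ⟨j, hj⟩ := hQ2.exists_card_eq
    have h1 : orderOf v ∣ 2 ^ j := hj ▸ Subgroup.orderOf_dvd_natCard Q hv
    obtain ⟨j', -, hj'⟩ := (Nat.dvd_prime_pow Nat.prime_two).1 h1
    exact ⟨j', hj'⟩
  have hvL : v ^ L = v := by
    have h1 : orderOf v ∣ orderOf g₀ := hg₀ ▸ orderOf_map_dvd _ g₀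
    have h2 : orderOf v ∣ 2 ^ i := by
      rw [hio] at h1
      refine Nat.Coprime.dvd_of_dvd_mul_right ?_ h1
      rw [hj]
      exact (Nat.coprime_two_left.2 ho).pow_left j
    conv_rhs => rw [← pow_one v]
    exact pow_eq_pow_iff_modEq.2
      ((Nat.ModEq.pow_totient ((Nat.coprime_two_right.2 ho).pow_right i)).of_dvd h2)
  have hsL : sect Ω M (g₀ ^ L) = v := by rw [map_pow, hg₀, hvL]
  refine ⟨((g₀ ^ L : M) : G), ?_, ?_, ?_, ?_⟩
  · have h1 := congrArg Subtype.val (show v • (⟨c, hcM⟩ : centres Ω M) = ⟨c, hcM⟩ from hQc hv)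
    rw [← hsL, sect_smul] at h1
    exact h1
  rotate_left
  · have h1 : (((g₀ ^ L : M) : G)) ^ (2 ^ i) = 1 := by
      rw [← Subgroup.coe_pow, ← pow_mul]
      have h2 : orderOf g₀ ∣ L * 2 ^ i := by
        rw [hio, mul_comm]
        exact mul_dvd_mul_right (dvd_pow_self o (Nat.totient_pos.2 (by positivity)).ne') _
      rw [orderOf_dvd_iff_pow_eq_one.1 h2, Subgroup.coe_one]
    obtain ⟨k, -, hk⟩ := (Nat.dvd_prime_pow Nat.prime_two).1 (orderOf_dvd_iff_pow_eq_one.2 h1)
    exact ⟨k, hk⟩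
  · have h1 := congrArg Subtype.val hvz
    rw [← hsL, sect_smul] at h1
    exact h1
  -- uniqueness
  set h := ((g₀ ^ L : M) : G) with hh
  have hhM : h ∈ M := (g₀ ^ L : M).2
  have hbM₀ : b ∈ M₀ := Subgroup.mem_centralizer_singleton_iff.2 ((Commute.refl b).pow_right e).eq
  have hbn : ∀ g ∈ M, b * g * b⁻¹ ∈ M := by
    intro g hg
    refine ⟨M₀.mul_mem (M₀.mul_mem hbM₀ hg.1) (M₀.inv_mem hbM₀), ?_⟩
    exact mem_normalizer_centralizer (le_normalizer_kerIn M₀ hbM₀) g hg.2
  have hhc : h • c = c := by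
    have h1 := congrArg Subtype.val (show v • (⟨c, hcM⟩ : centres Ω M) = ⟨c, hcM⟩ from hQc hv)
    rw [← hsL, sect_smul] at h1
    exact h1
  have hhz : h • z = w := by
    have h1 := congrArg Subtype.val hvz
    rw [← hsL, sect_smul] at h1
    exact h1
  have hh2 : ∃ k, orderOf h = 2 ^ k := by
    have h1 : h ^ (2 ^ i) = 1 := by
      rw [hh, ← Subgroup.coe_pow, ← pow_mul]
      have h2 : orderOf g₀ ∣ L * 2 ^ i := by
        rw [hio, mul_comm]
        exact mul_dvd_mul_right (dvd_pow_self o (Nat.totient_pos.2 (by positivity)).ne') _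
      rw [orderOf_dvd_iff_pow_eq_one.1 h2, Subgroup.coe_one]
    obtain ⟨k, -, hk⟩ := (Nat.dvd_prime_pow Nat.prime_two).1 (orderOf_dvd_iff_pow_eq_one.2 h1)
    exact ⟨k, hk⟩
  set h' := b * h * b⁻¹ with hh'
  have hbinv : ∀ {y : Ω}, b • y = y → b⁻¹ • y = y := fun {y} hy => inv_smul_eq_iff.2 hy.symm
  have hh'c : h' • c = c := by rw [hh', mul_smul, mul_smul, hbinv hbc, hhc, hbc]
  have hh'z : h' • z = w := by rw [hh', mul_smul, mul_smul, hbinv hbz, hhz, hbw]
  have hh'2 : ∃ k, orderOf h' = 2 ^ k := by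
    rw [hh', orderOf_conj_eq]; exact hh2
  have hh'M : h' ∈ M := hbn h hhM
  have hQ1 := hmemQ ⟨h, hhM⟩ hhc hh2
  have hQ2' := hmemQ ⟨h', hh'M⟩ hh'c hh'2
  have hker : sect Ω M (⟨h, hhM⟩⁻¹ * ⟨h', hh'M⟩) = 1 := by
    rw [map_mul, map_inv]
    refine hQfree _ (Q.mul_mem (Q.inv_mem hQ1) hQ2') ⟨z, hzM⟩
      (fun e' => hz (congrArg Subtype.val e')) ?_
    rw [mul_smul, inv_smul_eq_iff]
    exact Subtype.ext (by rw [sect_smul, sect_smul]; exact hh'z.trans hhz.symm)
  have hk : h⁻¹ * h' ∈ kerIn Ω M :=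
    (sect_eq_one_iff_kerIn (M.mul_mem (M.inv_mem hhM) hh'M)).1 hker
  have hkK : h⁻¹ * h' ∈ K := by
    rw [hK, mem_kerIn]
    rw [mem_kerIn, hcenEq] at hk
    exact ⟨hMle hk.1, hk.2⟩
  have hcomm : Commute h⁻¹ h' := by
    have h1 : Commute h (h⁻¹ * h') := (hhM.2 _ hkK).symm
    have h4 : h⁻¹ * h' * h = h' := by rw [← h1.eq, mul_inv_cancel_left]
    calc h⁻¹ * h' = h⁻¹ * h' * (h * h⁻¹) := by rw [mul_inv_cancel, mul_one]
      _ = h' * h⁻¹ := by rw [← mul_assoc, h4]
  have h1 : h⁻¹ * h' = 1 := mul_two_power hcomm (by rw [orderOf_inv]; exact hh2) hh'2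
    ((S.base.odd_kerIn hMulti).of_dvd_nat (Subgroup.orderOf_dvd_natCard _ hk))
  rw [inv_mul_eq_one] at h1
  show Commute b h
  exact mul_inv_eq_iff_eq_mul.1 h1.symm

/-- An element fixing `c` and another point has a centralising 2-element of the stabiliser of `c` for
each of its fixed points. -/
theorem Step.exists_cent_two (hF : FourFix G Ω) {c z : Ω} (hz : z ≠ c) {b : G} (hb1 : b ≠ 1)
    (hb : b ∈ BenderTrans.two G c z) (h3 : 2 < {w : Ω | b • w = w}.ncard) {w : Ω} (hw : w ≠ c)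
    (hbw : b • w = w) :
    ∃ h : G, h • c = c ∧ Commute b h ∧ (∃ k : ℕ, orderOf h = 2 ^ k) ∧ h • z = w :=
  S.exists_cent_two_of_powers hodd hz (fun e => hF (b ^ e)) hb1 hb h3 hw hbw

/-- The counting hypothesis without bad elements. -/
theorem Step.enoughCoprime (hF : FourFix G Ω) {c z : Ω} (hz : z ≠ c) :
    EnoughCoprime G Ω c z := by
  classical
  intro b hb hb1
  by_cases h3 : 2 < {w : Ω | b • w = w}.ncard
  · set F : Set Ω := {w | w ≠ c ∧ b • w = w}
    choose h hhc hhb hh2 hhz using fun (w : F) =>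
      S.exists_cent_two hodd hF hz hb1 hb h3 w.2.1 w.2.2
    refine ⟨Set.range h, ?_, ?_⟩
    · rintro _ ⟨w, rfl⟩
      obtain ⟨k, hk⟩ := hh2 w
      refine ⟨hhc w, hhb w, ?_⟩
      rw [hk]
      exact (Nat.coprime_two_left.2 (S.base.odd_two hz.symm)).pow_left k
    · rw [← Nat.card_coe_set_eq, ← Nat.card_coe_set_eq]
      refine (Nat.card_range_of_injective ?_).ge
      intro w w' e
      exact Subtype.ext ((hhz w).symm.trans ((congrArg (· • z) e).trans (hhz w')))
  · refine ⟨{1}, ?_, ?_⟩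
    · rintro _ rfl
      exact ⟨one_smul G c, Commute.one_right b, by rw [orderOf_one]; exact Nat.coprime_one_left _⟩
    · rw [Set.ncard_singleton]
      obtain ⟨hbc, -⟩ := mem_two_iff.1 hb
      have h1 : {w : Ω | w ≠ c ∧ b • w = w} = {w : Ω | b • w = w} \ {c} := by
        ext y
        simp [and_comm]
      rw [h1, Set.ncard_sdiff_singleton_of_mem (show c ∈ {w : Ω | b • w = w} from hbc)]
      omega

/-- **Bender's commutation theorem away from bad elements.** -/
theorem Step.commAt_of_fourFix (hF : FourFix G Ω) : CommAt G Ω := by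
  intro c
  obtain ⟨z, hz⟩ := S.base.nontriv c
  exact (count_core S.base S.concl.trans2 hz (S.enoughCoprime hodd hF hz)).1

/-- The centraliser of the involutions is regular when the two point stabiliser is faithful on them. -/
theorem Step.regular_of_fourFix (hF : FourFix G Ω) {c z : Ω} (hz : z ≠ c)
    (hfaith : ∀ d ∈ BenderTrans.two G c z, (∀ t ∈ invAt G c, Commute d t) → d = 1) :
    ∀ w, w ≠ c → ∃! k : G, k • c = c ∧ (∀ t ∈ invAt G c, Commute k t) ∧ k • z = w :=
  (count_core S.base S.concl.trans2 hz (S.enoughCoprime hodd hF hz)).2 hfaith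

end CfsgLib.BenderQ
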