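import Cfsg.Agent.Lib.BenderQ.Sec
import Cfsg.Agent.Lib.BenderQ.CountEnough

/-!
An element fixing at least three points commutes with an involution at each of them; so it commutes
with as many involutions at a fixed point as with swappers of two fixed points, whatever the element.
-/

set_option autoImplicit false
set_option linter.unusedSectionVars false

namespace CfsgLib.BenderQ

open CfsgLib.Involutions CfsgLib.OddOrder CfsgLib.BenderTrans MulAction
open scoped commutatorElement

universe u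

variable {G : Type u} [Group G] [Finite G] {Ω : Type u} [MulAction G Ω] [Finite Ω]

variable (S : Step G Ω)
  (hodd : ∀ X : Type u, ∀ _ : Group X, ∀ _ : Finite X, Odd (Nat.card X) → Group.IsSolvable X)
include S hodd

/-- In a subgroup with several centres and no four group each centre has one involution. -/
theorem Step.eq_of_not_four {M : Subgroup G} (hM : Multi Ω M) (h4 : ¬ FourIn M) {c : Ω} {s t : G}
    (hsM : s ∈ M) (hs : s ∈ invAt G c) (htM : t ∈ M) (ht : t ∈ invAt G c) : s = t := by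
  classical
  by_contra hne
  set O := coreIn M with hOdef
  set K := kerIn Ω M with hKdef
  have hs1 : s⁻¹ = s := inv_eq_self_of_involution hs.1
  have ht1 : t⁻¹ = t := inv_eq_self_of_involution ht.1
  have hc : c ∈ centres Ω M := mem_centres hsM hs
  have hgO : s * t ∈ O := mul_mem_coreIn_of_not_four h4 hsM htM hs.1 ht.1
  have hgc : (s * t) • c = c := by rw [mul_smul, ht.2, hs.2]
  -- a further centre is reached by the odd core
  obtain ⟨z, hz, hzc⟩ : ∃ z ∈ centres Ω M, z ≠ c := by
    obtain ⟨a₁, h₁, a₂, h₂, h12⟩ := hM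
    rcases eq_or_ne a₁ c with rfl | e
    exacts [⟨a₂, h₂, h12.symm⟩, ⟨a₁, h₁, e⟩]
  obtain ⟨r, hrM, hr⟩ := S.base.exists_swap_centres hc hz hzc.symm
  have hOK : ¬ O ≤ K := fun hle => by
    have h1 := (mem_kerIn.1 (hle (mul_mem_coreIn_of_not_four h4 hrM hsM hr.1 hs.1))).2 c hc
    rw [mul_smul, hs.2, hr.2] at h1
    exact hzc h1
  -- the last term of the derived series outside the kernel
  have hsolv : Group.IsSolvable O := hodd O inferInstance inferInstance (odd_coreIn M)
  obtain ⟨n, hn⟩ := (Group.isSolvable_def O).1 hsolv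
  have hex : ∃ i, derivedOf O i ≤ K := ⟨n, by rw [derivedOf_eq, hn, Subgroup.map_bot]; exact bot_le⟩
  obtain ⟨i, hi⟩ : ∃ i, Nat.find hex = i + 1 := by
    refine Nat.exists_eq_add_one_of_ne_zero fun e => hOK ?_
    have h1 := Nat.find_spec hex
    rwa [e] at h1
  set A := derivedOf O i with hA
  have hAK : ¬ A ≤ K := Nat.find_min hex (by omega)
  have hAA : ∀ a ∈ A, ∀ b ∈ A, ⁅a, b⁆ ∈ K := fun a ha b hb => by
    have h1 := Nat.find_spec hex
    rw [hi] at h1
    exact h1 (Subgroup.commutator_mem_commutator ha hb)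
  have hAn : ∀ g ∈ M, ∀ a ∈ A, g * a * g⁻¹ ∈ A := fun g hg a ha =>
    Coprime.mem_normalizer_conj (mem_normalizer_derivedOf (le_normalizer_coreIn M hg) i) ha
  have hAM : ∀ a ∈ A, a ∈ M := fun a ha => coreIn_le M (derivedOf_le O i ha)
  -- modulo the kernel `s` inverts `A` at `c`
  have key : ∀ a ∈ A, s • a • c = a⁻¹ • c := by
    intro a ha
    have hsa : s * a * s ∈ A := by have := hAn s hsM a ha; rwa [hs1] at this
    have hw : (a * (s * a * s)) • c ∈ centres Ω M :=
      smul_mem_centres (M.mul_mem (hAM a ha) (hAM _ hsa)) hc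
    have hk : ⁅s * a * s, a⁆ ∈ K := hAA _ hsa a ha
    have hfix : s • (a * (s * a * s)) • c = (a * (s * a * s)) • c := by
      have h1 : s * (a * (s * a * s)) = ⁅s * a * s, a⁆ * (a * (s * a * s)) * s := by
        rw [commutatorElement_def]
        have hss : s * s = 1 := mul_self_eq_one hs.1
        calc s * (a * (s * a * s)) = (s * a * s) * a * s := by group
          _ = _ := by group
      calc s • (a * (s * a * s)) • c = (s * (a * (s * a * s))) • c := by rw [smul_smul]
        _ = ⁅s * a * s, a⁆ • (a * (s * a * s)) • c := by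
            rw [h1, mul_smul, mul_smul, hs.2]
        _ = (a * (s * a * s)) • c := (mem_kerIn.1 hk).2 _ hw
    have h2 := S.base.unique s hs.1 _ _ hfix hs.2
    rw [mul_smul, mul_smul, mul_smul, hs.2] at h2
    rw [eq_inv_smul_iff]
    exact h2
  obtain ⟨a, ha, hac⟩ : ∃ a ∈ A, a • c ≠ c := by
    by_contra hno
    push Not at hno
    refine hAK fun a ha => mem_kerIn.2 ⟨hAM a ha, fun x hx => ?_⟩
    rcases eq_or_ne x c with rfl | hxc
    · exact hno a ha
    · obtain ⟨w, hwM, hw⟩ := S.base.exists_swap_centres hc hx hxc.symm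
      have h1 := hno _ (hAn w⁻¹ (inv_mem hwM) a ha)
      rw [inv_inv, mul_smul, mul_smul, hw.2, inv_smul_eq_iff, hw.2] at h1
      exact h1
  -- the product fixes a second point
  obtain ⟨g, hg⟩ : ∃ g, g = s * t := ⟨_, rfl⟩
  rw [← hg] at hgO hgc
  have hgA : g * a * g⁻¹ ∈ A := hAn g (hg ▸ M.mul_mem hsM htM) a ha
  have hsg : s * g = g⁻¹ * s := by
    have hss : s * s = 1 := mul_self_eq_one hs.1
    rw [hg, mul_inv_rev, ht1, hs1]
    calc s * (s * t) = (s * s) * t := by group
      _ = t := by rw [hss, one_mul]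
      _ = t * (s * s) := by rw [hss, mul_one]
      _ = t * s * s := by group
  have hgi : g⁻¹ • c = c := inv_smul_eq_iff.2 hgc.symm
  have h3 : s • g • a • c = g • a⁻¹ • c := by
    have h1 := key _ hgA
    rw [conj_inv] at h1
    have e1 : ∀ b : G, (g * b * g⁻¹) • c = g • b • c := fun b => by
      rw [← smul_smul, hgi, ← smul_smul]
    rwa [e1, e1] at h1
  have h4' : g • g • a⁻¹ • c = a⁻¹ • c := by
    rw [smul_smul s, hsg, mul_smul, key a ha, inv_smul_eq_iff] at h3
    exact h3.symm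
  have h5 : a⁻¹ • c ≠ c := fun e => hac (by rw [inv_smul_eq_iff] at e; exact e.symm)
  have hg2 : g * g ∈ BenderTrans.two G c (a⁻¹ • c) :=
    mem_two_iff.2 ⟨by rw [mul_smul, hgc, hgc], by rw [mul_smul, h4']⟩
  have hodd' : Odd (orderOf g) := (odd_coreIn M).of_dvd_nat (Subgroup.orderOf_dvd_natCard _ hgO)
  obtain ⟨k, hk⟩ := RankOneInvol.exists_pow_sq_eq hodd'
  have hgy : g ∈ BenderTrans.two G c (a⁻¹ • c) := by
    have hsq : (g * g) ^ k = g := by rw [(Commute.refl g).mul_pow]; exact hk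
    rw [← hsq]; exact pow_mem hg2 k
  have hnorm : s ∈ Subgroup.normalizer (Subgroup.zpowers g : Set G) := by
    refine Coprime.mem_normalizer_of_forall_conj ?_
    rintro _ ⟨j, rfl⟩
    refine ⟨-j, ?_⟩
    show g ^ (-j) = s * g ^ j * s⁻¹
    rw [← conj_zpow, zpow_neg, ← inv_zpow]
    congr 1
    rw [hsg, mul_inv_cancel_right]
  have hcomm := S.commute_of_le_two hodd h5 (Subgroup.zpowers_le.2 hgy) hs hnorm g
    (Subgroup.mem_zpowers g)
  have hgg : g * g = 1 := by
    have h6 : g⁻¹ * s = g * s := by rw [← hsg, ← hcomm.eq]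
    have h7 : g⁻¹ = g := mul_right_cancel h6
    calc g * g = g * g⁻¹ := by rw [h7]
      _ = 1 := mul_inv_cancel g
  have hg1 : g = 1 := by
    have hd : orderOf g ∣ 2 := orderOf_dvd_of_pow_eq_one (by rw [pow_two, hgg])
    exact orderOf_eq_one_iff.1 (Nat.Coprime.eq_one_of_dvd (Nat.coprime_two_right.2 hodd') hd)
  refine hne ?_
  rw [hg] at hg1
  rw [eq_inv_of_mul_eq_one_left hg1, ht1]

/-- An element with three fixed points commutes with an involution at each of them. -/
theorem Step.exists_invAt_commute_of_three {d : G} (h3 : 2 < {w : Ω | d • w = w}.ncard) {c : Ω}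
    (hc : d • c = c) : ∃ t ∈ invAt G c, Commute d t := by
  classical
  rcases eq_or_ne d 1 with rfl | hd1
  · obtain ⟨t, ht⟩ := S.base.exists_invAt c
    exact ⟨t, ht, Commute.one_left t⟩
  have hne1 : orderOf d ≠ 1 := fun e => hd1 (orderOf_eq_one_iff.1 e)
  obtain ⟨p, hp, hpd⟩ := Nat.exists_prime_and_dvd hne1
  set x := d ^ (orderOf d / p) with hxdef
  have hxo : orderOf x = p := orderOf_pow_orderOf_div (orderOf_pos d).ne' hpd
  have hsub : {w : Ω | d • w = w} ⊆ {w : Ω | x • w = w} := fun w hw =>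
    mem_stabilizer_iff.1 (pow_mem (mem_stabilizer_iff.2 hw) _)
  have hx3 : 2 < {w : Ω | x • w = w}.ncard := h3.trans_le (Set.ncard_le_ncard hsub (Set.toFinite _))
  have hxp : (orderOf x).Prime := hxo.symm ▸ hp
  set M := Subgroup.centralizer ({x} : Set G) with hMdef
  have hcen : ∀ w : Ω, x • w = w → w ∈ centres Ω M := fun w hw => by
    obtain ⟨t, ht, htc⟩ := S.exists_invAt_commute hodd hxp hx3 hw
    exact mem_centres (Subgroup.mem_centralizer_singleton_iff.2 htc.symm.eq) ht
  obtain ⟨a₁, ha₁, a₂, ha₂, a₃, ha₃, h12, h13, h23⟩ := (Set.two_lt_ncard (Set.toFinite _)).1 h3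
  have hM : Multi Ω M := ⟨a₁, hcen _ (hsub ha₁), a₂, hcen _ (hsub ha₂), h12⟩
  have hne : M ≠ ⊤ :=
    S.centralizer_ne_top fun e => hp.ne_one (by rw [← hxo, e, orderOf_one])
  have hdx : Commute d x := Commute.self_pow d _
  have hdM : d ∈ M := Subgroup.mem_centralizer_singleton_iff.2 hdx.eq
  by_cases h4 : FourIn M
  · obtain ⟨Q, hQle, hQp, -, htr, hsemi, -, hn⟩ := Step.exists_sec S hne hM h4 (hcen c (hsub hc))
    obtain ⟨y, hy, y', hy', hyc, hy'c, hyy⟩ : ∃ y, d • y = y ∧ ∃ y', d • y' = y' ∧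
        y ≠ c ∧ y' ≠ c ∧ y ≠ y' := by
      rcases eq_or_ne a₁ c with e1 | e1
      · exact ⟨a₂, ha₂, a₃, ha₃, e1 ▸ h12.symm, e1 ▸ h13.symm, h23⟩
      rcases eq_or_ne a₂ c with e2 | e2
      · exact ⟨a₁, ha₁, a₃, ha₃, e1, e2 ▸ h23.symm, h13⟩
      exact ⟨a₁, ha₁, a₂, ha₂, e1, e2, h12⟩
    obtain ⟨g, hg, hgd, hgy⟩ := Step.exists_sec_fixed hsemi
      (hn d hc fun w hw => M.mul_mem (M.mul_mem hdM hw) (M.inv_mem hdM)) hyc hy hy'
      (htr y y' (hcen y (hsub hy)) (hcen y' (hsub hy')) hyc hy'c)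
    have hg1 : g ≠ 1 := fun e => hyy (by rw [← hgy, e, one_smul])
    obtain ⟨k, hk⟩ := hQp ⟨g, hg⟩
    have hk' : g ^ 2 ^ k = 1 := congrArg Subtype.val hk
    have h2 : Even (orderOf g) := by
      obtain ⟨i, -, hi⟩ := (Nat.dvd_prime_pow Nat.prime_two).1 (orderOf_dvd_of_pow_eq_one hk')
      have hi0 : i ≠ 0 := fun e => hg1 (orderOf_eq_one_iff.1 (by rw [hi, e, pow_zero]))
      rw [hi]
      exact (Nat.even_pow).2 ⟨even_two, hi0⟩
    have ho : orderOf (g ^ (orderOf g / 2)) = 2 :=
      orderOf_pow_orderOf_div (orderOf_pos g).ne' (even_iff_two_dvd.1 h2)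
    exact ⟨g ^ (orderOf g / 2),
      ⟨ho, mem_stabilizer_iff.1 (pow_mem (hQle hg).2 _)⟩, (hgd.symm).pow_right _⟩
  · obtain ⟨t, ht, htc⟩ := S.exists_invAt_commute hodd hxp hx3 (hsub hc)
    have htM : t ∈ M := Subgroup.mem_centralizer_singleton_iff.2 htc.symm.eq
    have ht' : d * t * d⁻¹ ∈ invAt G c := by
      have h1 := conj_mem_invAt (g := d) ht; rwa [hc] at h1
    have h1 := S.eq_of_not_four hodd hM h4
      (M.mul_mem (M.mul_mem hdM htM) (M.inv_mem hdM)) ht' htM ht
    exact ⟨t, ht, mul_inv_eq_iff_eq_mul.1 h1⟩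

/-- An element commuting with an involution at a point and fixing two points commutes with as many
swappers of the two points as with involutions at one of them. -/
theorem Step.ncard_swaps_commute_of_exists {c y : Ω} (hcy : c ≠ y) {d : G}
    (ht : ∃ t ∈ invAt G y, Commute d t) :
    {r | r ∈ swaps G c y ∧ Commute d r}.ncard = {s | s ∈ invAt G c ∧ Commute d s}.ncard := by
  classical
  obtain ⟨t, ht, hdt⟩ := ht
  have hinj : Set.InjOn (fun g => g * t * g⁻¹) (swaps G c y) := by
    refine Set.injOn_of_ncard_image_eq ?_ (Set.toFinite _)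
    refine le_antisymm (Set.ncard_image_le (Set.toFinite _)) ?_
    rw [S.base.ncard_swaps hcy]
    exact Set.ncard_le_ncard (S.base.surjOn_conj hcy ht) (Set.toFinite _)
  refine Set.ncard_congr (fun r _ => r * t * r⁻¹) ?_
    (fun a b ha hb e => hinj ha.1 hb.1 e) ?_
  · rintro r ⟨hr, hdr⟩
    refine ⟨?_, (hdr.mul_right hdt).mul_right hdr.inv_right⟩
    have h1 := conj_mem_invAt (g := r) ht
    rwa [swaps_symm hr] at h1
  · rintro s ⟨hs, hds⟩
    obtain ⟨r, hr, hrs, hcl⟩ := S.base.exists_mid hs ht hcy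
    have hdr : r ∈ Subgroup.centralizer ({d} : Set G) := (Subgroup.closure_le _).2
      (by rintro _ (rfl | rfl) <;> rw [SetLike.mem_coe, Subgroup.mem_centralizer_singleton_iff]
          exacts [hds.symm.eq, hdt.symm.eq]) hcl
    refine ⟨r, ⟨hr, (Subgroup.mem_centralizer_singleton_iff.1 hdr).symm⟩, ?_⟩
    have h2 : r * r = 1 := mul_self_eq_one hr.1
    rw [← hrs, inv_eq_self_of_involution hr.1]
    calc r * (r * s * r) * r = (r * r) * s * (r * r) := by group
      _ = s := by rw [h2, one_mul, mul_one]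

omit hodd in
/-- An element of a two point stabiliser commuting with a swapper fixes a third point. -/
theorem Step.three_of_swap_commute {c y : Ω} (hcy : c ≠ y) {d : G} (hd : d ∈ BenderTrans.two G c y)
    {r : G} (hr : r ∈ swaps G c y) (hdr : Commute d r) : 2 < {w : Ω | d • w = w}.ncard := by
  obtain ⟨e, he⟩ := S.base.exists_fix r hr.1
  obtain ⟨h1, h2⟩ := S.base.ne_of_swap hcy hr he
  exact (Set.two_lt_ncard (Set.toFinite _)).2 ⟨c, (mem_two_iff.1 hd).1, y, (mem_two_iff.1 hd).2,
    e, S.base.fix_of_commute ⟨hr.1, he⟩ hdr, hcy, h1.symm, h2.symm⟩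

/-- LINE: an element with three fixed points commutes with a swapper of any two of them. -/
theorem Step.exists_swap_commute_of_three {c y : Ω} (hcy : c ≠ y) {d : G}
    (hd : d ∈ BenderTrans.two G c y) (h3 : 2 < {w : Ω | d • w = w}.ncard) :
    ∃ r ∈ swaps G c y, Commute d r := by
  obtain ⟨s, hs⟩ := S.exists_invAt_commute_of_three hodd h3 (mem_two_iff.1 hd).1
  have h1 := S.ncard_swaps_commute_of_exists hodd hcy
    (S.exists_invAt_commute_of_three hodd h3 (mem_two_iff.1 hd).2)
  have h2 : 0 < {s | s ∈ invAt G c ∧ Commute d s}.ncard :=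
    (Set.ncard_pos (Set.toFinite _)).2 ⟨s, hs⟩
  rw [← h1, Set.ncard_pos (Set.toFinite _)] at h2
  exact h2

/-- Three fixed points are detected by the involutions at one of the points. -/
theorem Step.three_iff_invAt_commute {c y : Ω} (hcy : c ≠ y) {d : G}
    (hd : d ∈ BenderTrans.two G c y) :
    2 < {w : Ω | d • w = w}.ncard ↔ ∃ t ∈ invAt G c, Commute d t := by
  refine ⟨fun h3 => S.exists_invAt_commute_of_three hodd h3 (mem_two_iff.1 hd).1, ?_⟩
  intro hex
  have h1 := S.ncard_swaps_commute_of_exists hodd hcy.symm hex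
  obtain ⟨t, ht, hdt⟩ := hex
  refine (Set.two_lt_ncard (Set.toFinite _)).2 ⟨c, (mem_two_iff.1 hd).1, y, (mem_two_iff.1 hd).2,
    t • y, ?_, hcy, ?_, ?_⟩
  · show d • t • y = t • y
    rw [smul_smul, hdt.eq, mul_smul, (mem_two_iff.1 hd).2]
  · exact fun e => hcy (by
      have h2 := congrArg (t • ·) e
      simp only [smul_smul_self ht.1, ht.2] at h2
      exact h2)
  · exact fun e => hcy (S.base.unique t ht.1 c y ht.2 e.symm)

/-- PEQ: an element of a two point stabiliser commutes with as many swappers of the two points as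
with involutions at one of them. -/
theorem Step.ncard_invAt_commute_eq {c y : Ω} (hcy : c ≠ y) {d : G}
    (hd : d ∈ BenderTrans.two G c y) :
    {s | s ∈ invAt G c ∧ Commute d s}.ncard = {r | r ∈ swaps G c y ∧ Commute d r}.ncard := by
  by_cases h3 : 2 < {w : Ω | d • w = w}.ncard
  · exact (S.ncard_swaps_commute_of_exists hodd hcy
      (S.exists_invAt_commute_of_three hodd h3 (mem_two_iff.1 hd).2)).symm
  · have e1 : {s | s ∈ invAt G c ∧ Commute d s} = ∅ := Set.eq_empty_iff_forall_notMem.2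
      fun s hs => h3 ((S.three_iff_invAt_commute hodd hcy hd).2 ⟨s, hs⟩)
    have e2 : {r | r ∈ swaps G c y ∧ Commute d r} = ∅ := Set.eq_empty_iff_forall_notMem.2
      fun r hr => h3 (S.three_of_swap_commute hcy hd hr.1 hr.2)
    rw [e1, e2]

end CfsgLib.BenderQ
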