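import Cfsg.Agent.Lib.BenderQ.SymSpace
import Cfsg.Agent.Lib.BenderTrans.Basic

/-!
The stabiliser of two points on the involutions swapping them: the permutation character is
multiplicity free, its constituents are turned into their conjugates by a swapper, and only the
principal one is real; the others sum to zero over the products of two swappers.
-/

set_option autoImplicit false
set_option linter.unusedSectionVars false

namespace CfsgLib.BenderQ

open Cfsg CfsgLib.Characters CfsgLib.BenderTrans CfsgLib.Involutions MulAction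
open scoped ComplexConjugate

universe u v

variable {G : Type u} [Group G] {Ω : Type v} [MulAction G Ω] {c y : Ω} {r : G}

theorem swap_conj_mem [Finite G] (hr : r ∈ swaps G c y) {d : G}
    (hd : d ∈ BenderTrans.two G c y) : r * d * r⁻¹ ∈ BenderTrans.two G c y :=
  (Subgroup.mem_normalizer_iff.1 (OneFix.swap_normalizes hr) d).1 hd

/-- Conjugation by a swapper on the two point stabiliser. -/
def swapConj [Finite G] (hr : r ∈ swaps G c y) :
    ↥(BenderTrans.two G c y) →* ↥(BenderTrans.two G c y) where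
  toFun d := ⟨r * d * r⁻¹, swap_conj_mem hr d.2⟩
  map_one' := Subtype.ext (show r * ((1 : ↥(BenderTrans.two G c y)) : G) * r⁻¹ = 1 by simp)
  map_mul' a b := Subtype.ext (show r * ((a * b : ↥(BenderTrans.two G c y)) : G) * r⁻¹ =
    r * (a : G) * r⁻¹ * (r * (b : G) * r⁻¹) by simp [mul_assoc])

theorem swapConj_coe [Finite G] (hr : r ∈ swaps G c y) (d : BenderTrans.two G c y) :
    (swapConj hr d : G) = r * d * r⁻¹ := rfl

theorem swapConj_invol [Finite G] (hr : r ∈ swaps G c y) (d : BenderTrans.two G c y) :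
    swapConj hr (swapConj hr d) = d := Subtype.ext (by
  rw [swapConj_coe, swapConj_coe, inv_eq_self_of_involution hr.1]
  calc r * (r * d * r) * r = r * r * d * (r * r) := by group
    _ = d := by rw [mul_self_eq_one hr.1]; simp)

theorem mem_fixed_swapConj [Finite G] (hr : r ∈ swaps G c y) {d : BenderTrans.two G c y} :
    d ∈ fixedBy' (swapConj hr) ↔ Commute (d : G) r := by
  rw [mem_fixedBy', Subtype.ext_iff, swapConj_coe, mul_inv_eq_iff_eq_mul]
  exact ⟨fun h => h.symm, fun h => h.symm⟩

/-- The product of two swappers fixes both points. -/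
theorem swap_mul_mem {s t : G} (hs : s ∈ swaps G c y) (ht : t ∈ swaps G c y) :
    s * t ∈ BenderTrans.two G c y :=
  mem_two_iff.2 ⟨by rw [mul_smul, ht.2, swaps_symm hs], by rw [mul_smul, swaps_symm ht, hs.2]⟩

/-- The number of swappers commuting with an element. -/
noncomputable def swapCount (G : Type u) [Group G] {Ω : Type v} [MulAction G Ω] (c y : Ω)
    (d : BenderTrans.two G c y) : ℕ :=
  Nat.card {s : ↥(swaps G c y) // Commute (d : G) (s : G)}

variable [Finite G] (h : OneFix G Ω) (hcy : c ≠ y) (hr : r ∈ swaps G c y)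
include h hcy hr

/-- The stabiliser of two points is transitive on the swappers. -/
theorem exists_swap_conj (s : ↥(swaps G c y)) :
    ∃ a : BenderTrans.two G c y, (a : G) * r * (a : G)⁻¹ = s := by
  obtain ⟨d, hd, -, e⟩ := h.exists_conj_swaps hcy hr s.2
  exact ⟨⟨d, hd⟩, e⟩

/-- The conjugates of a swapper and its centralizer make up the two point stabiliser. -/
theorem card_swaps_mul_fixed :
    Nat.card ↥(swaps G c y) * Nat.card (fixedBy' (swapConj hr)) = Nat.card (BenderTrans.two G c y) := by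
  classical
  choose a ha using exists_swap_conj h hcy hr
  rw [← Nat.card_prod]
  refine Nat.card_eq_of_bijective (fun x => a x.1 * x.2.1) ⟨?_, ?_⟩
  · rintro ⟨s, k⟩ ⟨s', k'⟩ e
    simp only at e
    have hk : ∀ x : fixedBy' (swapConj hr), ((x : BenderTrans.two G c y) : G) * r *
        ((x : BenderTrans.two G c y) : G)⁻¹ = r := fun x =>
      mul_inv_eq_iff_eq_mul.2 ((mem_fixed_swapConj hr).1 x.2).eq
    have hs : ∀ (s : ↥(swaps G c y)) (k : fixedBy' (swapConj hr)),
        ((a s * k.1 : BenderTrans.two G c y) : G) * r * ((a s * k.1 : BenderTrans.two G c y) : G)⁻¹ =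
          s := fun s k => by
      calc ((a s * k.1 : BenderTrans.two G c y) : G) * r * ((a s * k.1 : BenderTrans.two G c y) : G)⁻¹
          = (a s : G) * ((k.1 : G) * r * (k.1 : G)⁻¹) * (a s : G)⁻¹ := by
            rw [Subgroup.coe_mul]; group
        _ = _ := by rw [hk k, ha]
    obtain rfl : s = s' := Subtype.ext (by rw [← hs s k, e, hs s' k'])
    exact Prod.ext rfl (Subtype.ext (mul_left_cancel e))
  · intro d
    have hd : (d : G) * r * (d : G)⁻¹ ∈ swaps G c y := by
      have := conj_mem_swaps (g := (d : G)) hr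
      rwa [(mem_two_iff.1 d.2).1, (mem_two_iff.1 d.2).2] at this
    refine ⟨(⟨_, hd⟩, ⟨(a ⟨_, hd⟩)⁻¹ * d, (mem_fixed_swapConj hr).2 ?_⟩), mul_inv_cancel_left _ _⟩
    have e := ha ⟨_, hd⟩
    simp only at e
    rw [commute_iff_eq, Subgroup.coe_mul, Subgroup.coe_inv, ← mul_inv_eq_iff_eq_mul, mul_inv_rev,
      inv_inv]
    generalize a ⟨_, hd⟩ = b at e ⊢
    calc (b : G)⁻¹ * d * r * ((d : G)⁻¹ * (b : G))
        = (b : G)⁻¹ * ((d : G) * r * (d : G)⁻¹) * (b : G) := by group
      _ = r := by rw [← e]; group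

variable [Fintype (BenderTrans.two G c y)]

/-- The inner product of the permutation character with a character is its average over the
centralizer of a swapper. -/
theorem classInner_swapCount [Fintype (fixedBy' (swapConj hr))]
    (ψ : IrrCharacter (BenderTrans.two G c y)) :
    classInner (fun d => (swapCount G c y d : ℂ)) (ψ : BenderTrans.two G c y → ℂ) =
      conj (∑ k : fixedBy' (swapConj hr), (ψ : BenderTrans.two G c y → ℂ) k) /
        Nat.card (fixedBy' (swapConj hr)) := by
  classical
  haveI : Fintype ↥(swaps G c y) := Fintype.ofFinite _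
  have h1 : ∀ d : BenderTrans.two G c y, (swapCount G c y d : ℂ) =
      ∑ s : ↥(swaps G c y), if Commute (d : G) (s : G) then (1 : ℂ) else 0 := fun d => by
    rw [swapCount, Nat.card_eq_fintype_card, Fintype.card_subtype, Finset.sum_boole]
  have h2 : ∀ s : ↥(swaps G c y), ∑ d : BenderTrans.two G c y,
      (if Commute (d : G) (s : G) then (1 : ℂ) else 0) * conj ((ψ : BenderTrans.two G c y → ℂ) d) =
      conj (∑ k : fixedBy' (swapConj hr), (ψ : BenderTrans.two G c y → ℂ) k) := by
    intro s
    obtain ⟨a, ha⟩ := exists_swap_conj h hcy hr s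
    simp only [ite_mul, one_mul, zero_mul, ← Finset.sum_filter, map_sum]
    symm
    refine Finset.sum_bij (fun k _ => a * (k : BenderTrans.two G c y) * a⁻¹)
      (fun k _ => Finset.mem_filter.2 ⟨Finset.mem_univ _, ?_⟩)
      (fun k _ k' _ e => Subtype.ext (mul_left_cancel (mul_right_cancel e))) ?_ fun k _ => ?_
    · rw [← ha]
      exact ((mem_fixed_swapConj hr).1 k.2).map (MulAut.conj (a : G)).toMonoidHom
    · intro d hd
      refine ⟨⟨a⁻¹ * d * a, (mem_fixed_swapConj hr).2 ?_⟩, Finset.mem_univ _, by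
        simp [mul_assoc]⟩
      have h3 := ((Finset.mem_filter.1 hd).2).map (MulAut.conj (a : G)⁻¹).toMonoidHom
      rw [← ha] at h3
      simpa [mul_assoc] using h3
    · rw [irr_isClassFunction ψ]
  have h3 : ∑ d : BenderTrans.two G c y,
      (swapCount G c y d : ℂ) * conj ((ψ : BenderTrans.two G c y → ℂ) d) =
      (Nat.card ↥(swaps G c y) : ℂ) *
        conj (∑ k : fixedBy' (swapConj hr), (ψ : BenderTrans.two G c y → ℂ) k) := by
    simp only [h1, Finset.sum_mul]
    rw [Finset.sum_comm, Finset.sum_congr rfl fun s _ => h2 s, Finset.sum_const, Finset.card_univ,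
      nsmul_eq_mul, Nat.card_eq_fintype_card]
  have hR : (Nat.card ↥(swaps G c y) : ℂ) ≠ 0 := by
    haveI : Nonempty ↥(swaps G c y) := ⟨⟨r, hr⟩⟩
    exact Nat.cast_ne_zero.2 Nat.card_pos.ne'
  have hF : (Nat.card (fixedBy' (swapConj hr)) : ℂ) ≠ 0 := Nat.cast_ne_zero.2 Nat.card_pos.ne'
  rw [classInner, h3, ← card_swaps_mul_fixed h hcy hr, Nat.cast_mul]
  field_simp

variable (ψ : IrrCharacter (BenderTrans.two G c y))

/-- The permutation character on the swappers is multiplicity free. -/
theorem classInner_swapCount_eq :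
    classInner (fun d => (swapCount G c y d : ℂ)) (ψ : BenderTrans.two G c y → ℂ) = 0 ∨
      classInner (fun d => (swapCount G c y d : ℂ)) (ψ : BenderTrans.two G c y → ℂ) = 1 := by
  haveI : Fintype (fixedBy' (swapConj hr)) := Fintype.ofFinite _
  rw [classInner_swapCount h hcy hr ψ]
  by_cases h0 : ∑ k : fixedBy' (swapConj hr), (ψ : BenderTrans.two G c y → ℂ) k = 0
  · left; rw [h0, map_zero, zero_div]
  · right
    rw [sum_fixed_eq_card (h.odd_two hcy) (swapConj_invol hr) ψ h0, map_natCast,
      div_self (Nat.cast_ne_zero.2 Nat.card_pos.ne')]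

variable (hψ : classInner (fun d => (swapCount G c y d : ℂ)) (ψ : BenderTrans.two G c y → ℂ) ≠ 0)
include hψ

theorem sum_fixed_ne_zero [Fintype (fixedBy' (swapConj hr))] :
    ∑ k : fixedBy' (swapConj hr), (ψ : BenderTrans.two G c y → ℂ) k ≠ 0 := fun e =>
  hψ (by rw [classInner_swapCount h hcy hr ψ, e, map_zero, zero_div])

/-- A swapper turns a constituent into its conjugate. -/
theorem irr_swapConj (d : BenderTrans.two G c y) :
    (ψ : BenderTrans.two G c y → ℂ) (swapConj hr d) =
      conj ((ψ : BenderTrans.two G c y → ℂ) d) := by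
  haveI : Fintype (fixedBy' (swapConj hr)) := Fintype.ofFinite _
  exact irr_conj_of_sum_fixed (h.odd_two hcy) (swapConj_invol hr) ψ
    (sum_fixed_ne_zero h hcy hr ψ hψ) d

/-- A constituent is real on the elements commuting with a swapper. -/
theorem irr_im_eq_zero {d : BenderTrans.two G c y} {s : G} (hs : s ∈ swaps G c y)
    (hc : Commute (d : G) s) : ((ψ : BenderTrans.two G c y → ℂ) d).im = 0 := by
  haveI : Fintype (fixedBy' (swapConj hr)) := Fintype.ofFinite _
  obtain ⟨a, ha⟩ := exists_swap_conj h hcy hr ⟨s, hs⟩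
  refine irr_im_eq_zero_of_fixed (h.odd_two hcy) (swapConj_invol hr) ψ
    (sum_fixed_ne_zero h hcy hr ψ hψ) (a := a⁻¹) ((mem_fixed_swapConj hr).2 ?_)
  simp only at ha
  have h3 := hc.map (MulAut.conj (a : G)⁻¹).toMonoidHom
  rw [← ha] at h3
  simpa [mul_assoc] using h3

variable (h1 : ψ ≠ principalIrr _)
include h1

/-- A nonprincipal constituent is moved by a swapper. -/
theorem exists_swapConj_ne : ∃ d, (ψ : BenderTrans.two G c y → ℂ) (swapConj hr d) ≠
    (ψ : BenderTrans.two G c y → ℂ) d := by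
  haveI : Fintype (fixedBy' (swapConj hr)) := Fintype.ofFinite _
  exact exists_irr_conj_ne (h.odd_two hcy) (swapConj_invol hr) ψ
    (sum_fixed_ne_zero h hcy hr ψ hψ) h1

/-- A nonprincipal constituent is not real. -/
theorem exists_irr_im_ne_zero : ∃ d, ((ψ : BenderTrans.two G c y → ℂ) d).im ≠ 0 := by
  obtain ⟨d, hd⟩ := exists_swapConj_ne h hcy hr ψ hψ h1
  refine ⟨d, fun e => hd ?_⟩
  rw [irr_swapConj h hcy hr ψ hψ d, Complex.conj_eq_iff_im.2 e]

/-- A nonprincipal constituent sums to zero over the products of two swappers. -/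
theorem sum_irr_swap_mul [Fintype ↥(swaps G c y)] :
    ∑ s : ↥(swaps G c y), ∑ t : ↥(swaps G c y),
      (ψ : BenderTrans.two G c y → ℂ) ⟨s * t, swap_mul_mem s.2 t.2⟩ = 0 := by
  classical
  haveI : Fintype (fixedBy' (swapConj hr)) := Fintype.ofFinite _
  set χ := (ψ : (BenderTrans.two G c y) → ℂ) with hχ
  have hsum : ∑ g : (BenderTrans.two G c y), χ (g⁻¹ * swapConj hr g) = 0 :=
    sum_irr_twist_of_constituent (h.odd_two hcy) (swapConj_invol hr) ψ
      (sum_fixed_ne_zero h hcy hr ψ hψ) h1
  choose a ha using exists_swap_conj h hcy hr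
  have hcl := irr_isClassFunction ψ
  have hrr : r * r = 1 := mul_self_eq_one hr.1
  have hk : ∀ (s : ↥(swaps G c y)) (k : fixedBy' (swapConj hr)),
      ((a s * k.1 : (BenderTrans.two G c y)) : G) * r * ((a s * k.1 : (BenderTrans.two G c y)) : G)⁻¹ = s := fun s k => by
    calc ((a s * k.1 : (BenderTrans.two G c y)) : G) * r * ((a s * k.1 : (BenderTrans.two G c y)) : G)⁻¹
        = (a s : G) * ((k.1 : G) * r * (k.1 : G)⁻¹) * (a s : G)⁻¹ := by rw [Subgroup.coe_mul]; group
      _ = _ := by rw [mul_inv_eq_iff_eq_mul.2 ((mem_fixed_swapConj hr).1 k.2).eq, ha]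
  -- every pair of swappers comes from the same number of pairs of elements
  have hbij : Function.Bijective fun x : ↥(swaps G c y) × fixedBy' (swapConj hr) => a x.1 * x.2.1 := by
    refine (Nat.bijective_iff_injective_and_card _).2
      ⟨?_, by rw [Nat.card_prod]; exact card_swaps_mul_fixed h hcy hr⟩
    rintro ⟨s, k⟩ ⟨s', k'⟩ e
    simp only at e
    obtain rfl : s = s' := Subtype.ext (by rw [← hk s k, e, hk s' k'])
    exact Prod.ext rfl (Subtype.ext (mul_left_cancel e))
  let H : (BenderTrans.two G c y) → (BenderTrans.two G c y) → ℂ := fun g g' => χ ((g * swapConj hr (g⁻¹ * g')) * g'⁻¹)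
  have hH : ∀ s t : ↥(swaps G c y), ∀ k k' : fixedBy' (swapConj hr),
      H (a s * k.1) (a t * k'.1) = χ ⟨s * t, swap_mul_mem s.2 t.2⟩ := by
    intro s t k k'
    refine congrArg χ (Subtype.ext ?_)
    simp only [← hk s k, ← hk t k', Subgroup.coe_mul, Subgroup.coe_inv, swapConj_coe,
      inv_eq_self_of_involution hr.1]
    group
  have htot : ∑ g : (BenderTrans.two G c y), ∑ g' : (BenderTrans.two G c y), H g g' = (Nat.card (BenderTrans.two G c y) : ℂ) * ∑ g : (BenderTrans.two G c y), χ (g⁻¹ * swapConj hr g) := by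
    have hcard : (Nat.card (BenderTrans.two G c y) : ℂ) = ∑ _g : (BenderTrans.two G c y), (1 : ℂ) := by
      rw [Finset.sum_const, Finset.card_univ, Nat.card_eq_fintype_card, nsmul_eq_mul, mul_one]
    rw [hcard, Finset.sum_mul]
    refine Finset.sum_congr rfl fun g _ => ?_
    rw [one_mul]
    refine Fintype.sum_equiv (Equiv.mulLeft g⁻¹) _ _ fun g' => ?_
    show χ (g * swapConj hr (g⁻¹ * g') * g'⁻¹) = χ ((g⁻¹ * g')⁻¹ * swapConj hr (g⁻¹ * g'))
    rw [hχ, classFunction_mul_comm hcl (g * swapConj hr (g⁻¹ * g')) g'⁻¹, mul_inv_rev, inv_inv,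
      mul_assoc g'⁻¹]
  rw [hsum, mul_zero] at htot
  have hexp : ∑ g : (BenderTrans.two G c y), ∑ g' : (BenderTrans.two G c y), H g g' =
      (Nat.card (fixedBy' (swapConj hr)) : ℂ) ^ 2 *
        ∑ s : ↥(swaps G c y), ∑ t : ↥(swaps G c y), χ ⟨s * t, swap_mul_mem s.2 t.2⟩ := by
    rw [← hbij.sum_comp fun g => ∑ g' : (BenderTrans.two G c y), H g g', Fintype.sum_prod_type, Finset.mul_sum]
    refine Finset.sum_congr rfl fun s _ => ?_
    rw [Finset.sum_congr rfl fun k _ => (hbij.sum_comp fun g' => H (a (s, k).1 * (s, k).2.1) g').symm]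
    simp only [Fintype.sum_prod_type, hH, Finset.sum_const, Finset.card_univ, nsmul_eq_mul,
      Nat.card_eq_fintype_card]
    rw [pow_two, mul_assoc, Finset.mul_sum (a := (Fintype.card (fixedBy' (swapConj hr)) : ℂ))
      (f := fun t : ↥(swaps G c y) => χ ⟨s * t, swap_mul_mem s.2 t.2⟩)]
    congr 1
    refine Finset.sum_congr rfl fun t _ => ?_
    rw [← Finset.card_univ, ← nsmul_eq_mul]
    exact (Finset.sum_congr rfl fun _ _ => rfl).trans (Finset.sum_const (χ ⟨s * t, swap_mul_mem s.2 t.2⟩))
  rw [hexp, mul_eq_zero] at htot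
  exact htot.resolve_left (pow_ne_zero 2 (Nat.cast_ne_zero.2 Nat.card_pos.ne'))

end CfsgLib.BenderQ
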