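import Cfsg.Agent.Lib.BenderQ.Inv
import Cfsg.Agent.Lib.BenderQ.SymSwaps
import Cfsg.Agent.Lib.InvChar.SolvableTwo

/-!
The subgroup generated by the inverted elements has order prime to every prime not dividing the
number of involutions at a point.
-/

set_option autoImplicit false
set_option linter.unusedSectionVars false
set_option linter.style.haveILetI false

namespace CfsgLib.BenderQ

open CfsgLib.BenderTrans MulAction

universe u

variable {D : Type u} [Group D] [Finite D]

/-- In a solvable group of odd order with an involutory automorphism inverting no nontrivial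
`q`-element, inverted elements lie in the `q'`-core. -/
theorem mem_pPrimeCore_of_inverted [Group.IsSolvable D] (hodd : Odd (Nat.card D)) {q : ℕ}
    [Fact q.Prime] (σ : D ≃* D) (hσ : ∀ x, σ (σ x) = x)
    (hno : ∀ x : D, σ x = x⁻¹ → (∃ k : ℕ, x ^ q ^ k = 1) → x = 1) {j : D} (hj : σ j = j⁻¹) :
    j ∈ Cfsg.pPrimeCore q D := by
  set K := Cfsg.pPrimeCore q D with hKdef
  set f := QuotientGroup.mk' K with hf
  set P := Cfsg.pCore q (D ⧸ K) with hP
  have hKσ : ∀ x ∈ K, σ x ∈ K := fun x hx =>
    ((Subgroup.characteristic_iff_le_comap.1 (inferInstance : K.Characteristic)) σ) hx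
  have heq : ∀ {a b : D}, f a = f b → f (σ a) = f (σ b) := by
    intro a b h
    rw [hf, QuotientGroup.mk'_apply, QuotientGroup.mk'_apply, QuotientGroup.eq] at h ⊢
    have h1 := hKσ _ h
    rwa [map_mul, map_inv] at h1
  let τ : (D ⧸ K) →* (D ⧸ K) := QuotientGroup.map K K σ.toMonoidHom fun x hx => hKσ x hx
  have hτ : ∀ x : D, τ (f x) = f (σ x) := fun x => rfl
  have hττ : ∀ z, τ (τ z) = z := by
    intro z
    obtain ⟨x, rfl⟩ := QuotientGroup.mk'_surjective K z
    rw [hτ, hτ, hσ]
  -- inverted elements of a `q`-power order modulo the core vanish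
  have hkey : ∀ y : D, σ y = y⁻¹ → f y ∈ P → f y = 1 := by
    intro y hy hyP
    obtain ⟨k, hk⟩ := CfsgLib.PCore.pCore_isPGroup (p := q) (G := D ⧸ K) ⟨f y, hyP⟩
    have hk' : f y ^ q ^ k = 1 := congrArg Subtype.val hk
    obtain ⟨a, n, hn, hno'⟩ := Nat.exists_eq_pow_mul_and_not_dvd (orderOf_pos y).ne' q
      (Fact.out : q.Prime).ne_one
    have h1 : y ^ n = 1 := by
      refine hno _ (by rw [map_pow, hy, inv_pow]) ⟨a, ?_⟩
      rw [← pow_mul, mul_comm, ← hno', pow_orderOf_eq_one]
    have hcop : Nat.Coprime n (q ^ k) :=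
      (((Nat.Prime.coprime_iff_not_dvd Fact.out).2 hn).symm).pow_right k
    exact orderOf_eq_one_iff.1 (Nat.eq_one_of_dvd_one (hcop.gcd_eq_one ▸ Nat.dvd_gcd
      ((orderOf_map_dvd f y).trans (orderOf_dvd_of_pow_eq_one h1))
      (orderOf_dvd_of_pow_eq_one hk')))
  have hτP : ∀ z ∈ P, τ z ∈ P := by
    intro z hz
    let e : (D ⧸ K) ≃* (D ⧸ K) :=
      { toFun := τ, invFun := τ, left_inv := hττ, right_inv := hττ, map_mul' := map_mul τ }
    exact ((Subgroup.characteristic_iff_le_comap.1 (inferInstance : P.Characteristic)) e) hz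
  have hfix : ∀ z ∈ P, τ z = z := by
    intro z hz
    obtain ⟨x, rfl⟩ := QuotientGroup.mk'_surjective K z
    have h1 := hkey (x⁻¹ * σ x) (by rw [map_mul, map_inv, hσ]; group)
      (by rw [map_mul, map_inv, ← hτ]; exact P.mul_mem (P.inv_mem hz) (hτP _ hz))
    rw [map_mul, map_inv, inv_mul_eq_one] at h1
    rw [hτ, ← h1]
  have hjj : f (j * j) ∈ Subgroup.centralizer (P : Set (D ⧸ K)) := by
    refine Subgroup.mem_centralizer_iff.2 fun z hz => ?_
    have hPn : P.Normal := inferInstance
    have h1 := hfix _ (hPn.conj_mem z hz (f j))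
    have hτj : τ (f j) = (f j)⁻¹ := by rw [hτ, hj, map_inv]
    rw [map_mul, map_mul, map_inv, hfix z hz, hτj, inv_inv] at h1
    rw [map_mul]
    calc z * (f j * f j) = f j * ((f j)⁻¹ * z * f j) * f j := by group
      _ = f j * (f j * z * (f j)⁻¹) * f j := by rw [h1]
      _ = f j * f j * z := by group
  haveI : Group.IsSolvable (D ⧸ K) :=
    solvable_of_surjective (QuotientGroup.mk'_surjective K)
  have hin := CfsgLib.InvChar.centralizer_pCore_le (p := q)
    (CfsgLib.PCore.pPrimeCore_quotient_pPrimeCore (G := D) (p := q)) hjj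
  have h4 : f (j * j) * f (j * j) = 1 := by
    have h2 := hfix _ hin
    rw [hτ, map_mul σ, hj, ← mul_inv_rev, map_inv] at h2
    nth_rw 1 [← h2]
    exact inv_mul_cancel _
  have h5 : orderOf (f j) ∣ 2 ^ 2 := orderOf_dvd_of_pow_eq_one (by
    rw [show (2 : ℕ) ^ 2 = 4 from rfl, pow_succ, pow_succ, pow_two]
    rw [map_mul] at h4
    simpa [mul_assoc] using h4)
  have h6 : Odd (orderOf (f j)) :=
    hodd.of_dvd_nat ((orderOf_map_dvd f j).trans (orderOf_dvd_natCard j))
  have h7 : f j = 1 := orderOf_eq_one_iff.1 (Nat.Coprime.eq_one_of_dvd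
    ((Nat.coprime_two_right.2 h6).pow_right 2) h5)
  exact (QuotientGroup.eq_one_iff j).1 h7

variable {G : Type u} [Group G] [Finite G] {Ω : Type u} [MulAction G Ω] [Finite Ω]

/-- The subgroup generated by the inverted elements is a `π(m)`-group. -/
theorem Step.not_dvd_card_closure_invSet (hS : Step G Ω) {c y : Ω} (hy : y ≠ c) {r : G}
    (hr : r ∈ swaps G c y) {q : ℕ} [Fact q.Prime] (hq : ¬ q ∣ (invAt G c).ncard) :
    ¬ q ∣ Nat.card (Subgroup.closure (invSet G Ω c y r)) := by
  set E := BenderTrans.two G c y with hE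
  haveI : Group.IsSolvable E :=
    @CfsgLib.PF.oddSolvable E _ _ (hS.base.odd_two hy.symm)
  have hle : Subgroup.closure (invSet G Ω c y r) ≤ (Cfsg.pPrimeCore q E).map E.subtype := by
    refine (Subgroup.closure_le _).2 fun j hj => ?_
    refine ⟨⟨j, hj.1⟩, mem_pPrimeCore_of_inverted (hS.base.odd_two hy.symm)
      ({ toFun := swapConj hr, invFun := swapConj hr, left_inv := swapConj_invol hr,
         right_inv := swapConj_invol hr, map_mul' := map_mul (swapConj hr) } : E ≃* E)
      (swapConj_invol hr) ?_ (Subtype.ext ?_), rfl⟩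
    · rintro x hx ⟨k, hk⟩
      by_contra h1
      have hxj : (x : G) ∈ invSet G Ω c y r :=
        ⟨x.2, (congrArg Subtype.val hx : _)⟩
      have hx1 : orderOf (x : G) ≠ 1 := fun e =>
        h1 (Subtype.ext (by simpa using orderOf_eq_one_iff.1 e))
      have hdvd : orderOf (x : G) ∣ q ^ k :=
        orderOf_dvd_of_pow_eq_one (congrArg Subtype.val hk)
      obtain ⟨i, -, hi⟩ := (Nat.dvd_prime_pow (Fact.out : q.Prime)).1 hdvd
      refine hq (hS.dvd_of_inverted hy hr hxj Fact.out ?_)
      rw [hi]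
      refine dvd_pow_self q fun e => hx1 ?_
      rw [hi, e, pow_zero]
    · exact hj.2
  intro hd
  have h1 := hd.trans (Subgroup.card_dvd_of_le hle)
  rw [Subgroup.card_map_of_injective E.subtype_injective] at h1
  exact CfsgLib.PCore.not_dvd_card_pPrimeCore h1

end CfsgLib.BenderQ
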