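import Cfsg.Agent.Lib.BenderQ.Kernel
import Cfsg.Agent.Lib.BenderTrans.Central
import Cfsg.Agent.Lib.BenderTrans.Kernel
import Cfsg.Agent.Lib.PF.OddOrder

/-!
Sections of a proper subgroup `M` with several centres and a four group: the 2-elements of `M`
fixing a centre form a subgroup regular on the other centres which centralises the kernel.
-/

set_option autoImplicit false
set_option linter.style.haveILetI false

namespace CfsgLib.BenderQ

open CfsgLib.Involutions CfsgLib.OddOrder CfsgLib.BenderTrans MulAction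

universe u

variable {G : Type u} [Group G]

/-- The subgroup generated by the involutions of `M`. -/
def involGen (M : Subgroup G) : Subgroup G := Subgroup.closure {t | t ∈ M ∧ orderOf t = 2}

theorem involGen_le (M : Subgroup G) : involGen M ≤ M := (Subgroup.closure_le M).2 fun _ ht => ht.1

theorem mem_involGen {M : Subgroup G} {t : G} (htM : t ∈ M) (ht : orderOf t = 2) : t ∈ involGen M :=
  Subgroup.subset_closure ⟨htM, ht⟩

theorem conj_mem_involGen {M : Subgroup G} {b : G} (hb : ∀ g ∈ M, b * g * b⁻¹ ∈ M) {g : G}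
    (hg : g ∈ involGen M) : b * g * b⁻¹ ∈ involGen M := by
  have h : involGen M ≤ (involGen M).comap (MulAut.conj b).toMonoidHom :=
    (Subgroup.closure_le _).2 fun t ht =>
      mem_involGen (hb t ht.1) ((orderOf_conj_eq b t).trans ht.2)
  exact h hg

variable [Finite G] {Ω : Type u} [MulAction G Ω] [Finite Ω]

namespace Step

variable (hS : Step G Ω)
include hS

/-- An involution centralises the odd groups it normalises at its centre and a further point. -/
theorem commute_of_odd {c z : Ω} (hzc : z ≠ c) {t : G} (ht : t ∈ invAt G c) {K : Subgroup G}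
    (hK : K ≤ two G c z) (hKn : t ∈ Subgroup.normalizer (K : Set G)) {k : G} (hk : k ∈ K) :
    Commute k t := by
  set C := K ⊓ Subgroup.centralizer ({t} : Set G) with hC
  have hodd : Odd (Nat.card K) := (hS.base.odd_two hzc.symm).of_dvd_nat (Subgroup.card_dvd_of_le hK)
  have hdvd : Nat.card K ∣ Nat.card C := by
    refine (Nat.factorization_prime_le_iff_dvd Nat.card_pos.ne' Nat.card_pos.ne').1 fun p hp => ?_
    haveI : Fact p.Prime := ⟨hp⟩
    obtain ⟨W, hW, -, hWn⟩ := exists_invariant_sylowOf_ge (q := p) hodd ht.1 hKn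
      (bot_le : (⊥ : Subgroup G) ≤ K) IsPGroup.of_bot
      (Coprime.mem_normalizer_of_forall_conj fun x hx => by
        rw [Subgroup.mem_bot.1 hx, mul_one, mul_inv_cancel]; exact one_mem _)
    have hcen := central_of_card_le _ G Ω le_rfl
      (fun X i i' hX => @CfsgLib.PF.oddSolvable X i i' hX) hS.base hS.faith hS.four p c z t hzc ht W
      hW.2.1 (hW.1.trans hK) hWn
    have h1 : W ≤ C :=
      le_inf hW.1 fun w hw => Subgroup.mem_centralizer_singleton_iff.2 (hcen w hw).eq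
    have h2 := Subgroup.card_dvd_of_le h1
    rw [card_sylowOf hW] at h2
    exact (hp.pow_dvd_iff_le_factorization Nat.card_pos.ne').1 h2
  have h : C = K := Subgroup.eq_of_le_of_card_ge inf_le_left (Nat.le_of_dvd Nat.card_pos hdvd)
  rw [← h] at hk
  exact Subgroup.mem_centralizer_singleton_iff.1 hk.2

theorem commute_kerIn {M : Subgroup G} (hM : Multi Ω M) {g k : G} (hg : g ∈ involGen M)
    (hk : k ∈ kerIn Ω M) : Commute k g := by
  have h : involGen M ≤ Subgroup.centralizer ({k} : Set G) := by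
    refine (Subgroup.closure_le _).2 fun t ht => ?_
    obtain ⟨a, ha⟩ := hS.base.exists_fix t ht.2
    have haM : a ∈ centres Ω M := mem_centres ht.1 ⟨ht.2, ha⟩
    obtain ⟨b, hbM, hba⟩ : ∃ b ∈ centres Ω M, b ≠ a := by
      obtain ⟨a₁, h₁, a₂, h₂, h12⟩ := hM
      rcases eq_or_ne a₁ a with rfl | e
      exacts [⟨a₂, h₂, h12.symm⟩, ⟨a₁, h₁, e⟩]
    exact Subgroup.mem_centralizer_singleton_iff.2 (hS.commute_of_odd hba ⟨ht.2, ha⟩
      (kerIn_le_two haM hbM) (le_normalizer_kerIn M ht.1) hk).symm.eq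
  exact (Subgroup.mem_centralizer_singleton_iff.1 (h hg)).symm

/-- In the group generated by the involutions of a proper subgroup with several centres and a four
group, the 2-elements fixing a centre form a subgroup transitive on the other centres. -/
theorem exists_twoPart {M : Subgroup G} (hne : M ≠ ⊤) (h4 : FourIn M) {c z : Ω} (hzc : z ≠ c)
    (hc : c ∈ centres Ω M) (hz : z ∈ centres Ω M) :
    ∃ S : Subgroup G, IsPGroup 2 S ∧ S ≤ involGen M ∧ S ≤ stabilizer G c ∧
      (∀ g ∈ involGen M, g • c = c → (∃ j : ℕ, g ^ 2 ^ j = 1) → g ∈ S) ∧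
      ∀ y y' : Ω, y ∈ centres Ω M → y' ∈ centres Ω M → y ≠ c → y' ≠ c → ∃ g ∈ S, g • y = y' := by
  set L := involGen M with hL
  have hLM : L ≤ M := involGen_le M
  have hcen : ∀ {w : Ω}, w ∈ centres Ω M → w ∈ centres Ω L := fun ⟨t, htM, ht, htw⟩ =>
    ⟨t, mem_involGen htM ht, ht, htw⟩
  have hcen' : ∀ {w : Ω}, w ∈ centres Ω L → w ∈ centres Ω M := fun ⟨t, htL, ht, htw⟩ =>
    ⟨t, hLM htL, ht, htw⟩
  have hmulti : Multi Ω L := ⟨c, hcen hc, z, hcen hz, hzc.symm⟩
  have hfour : FourIn L := by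
    obtain ⟨s, hs, t, ht, hs2, ht2, hne', hco⟩ := h4
    exact ⟨s, mem_involGen hs hs2, t, mem_involGen ht ht2, hs2, ht2, hne', hco⟩
  set c' : centres Ω L := ⟨c, hcen hc⟩ with hc'
  set z' : centres Ω L := ⟨z, hcen hz⟩ with hz'
  obtain ⟨Q, hQc, hQn, hQp, hQt, hQr⟩ :=
    hS.below L (fun e => hne (top_le_iff.1 (e ▸ hLM))) hmulti hfour c'
  set f := sect Ω L with hf
  have hkc : ∀ k ∈ f.ker, ∀ g : L, Commute k g := fun k hk g =>
    Subtype.ext (hS.commute_kerIn (M := M) ⟨c, hc, z, hz, hzc.symm⟩ g.2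
      (mem_kerIn.2 ⟨hLM k.2, fun w hw => sect_eq_one_iff.1 hk w (hcen hw)⟩) :)
  set P := Q.comap f with hP
  have hkP : f.ker ≤ P := fun k hk => by
    show f k ∈ Q
    rw [MonoidHom.mem_ker.1 hk]
    exact one_mem _
  obtain ⟨S⟩ : Nonempty (Sylow 2 P) := inferInstance
  have hnorm : (S : Subgroup P).Normal := by
    refine Subgroup.normalizer_eq_top_iff.1 ((Subgroup.eq_top_iff' _).2 fun g => ?_)
    set N := Subgroup.normalizer ((S : Subgroup P) : Set P) with hN
    have hK : f.ker.subgroupOf P ≤ N := fun k hk => by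
      refine Coprime.mem_normalizer_of_forall_conj fun s hs => ?_
      rw [(show Commute k s from Subtype.ext (hkc k hk s).eq).eq, mul_inv_cancel_right]
      exact hs
    -- the odd central kernel and a Sylow 2-subgroup give everything
    have hko : Odd (Nat.card (f.ker.subgroupOf P)) := by
      rw [Nat.card_congr (Subgroup.subgroupOfEquivOfLe hkP).toEquiv]
      exact hS.base.odd_card_ker_sect hmulti
    have hidx : ∃ j, (f.ker.subgroupOf P).index = 2 ^ j := by
      haveI : Fact (Nat.Prime 2) := ⟨Nat.prime_two⟩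
      have hk' : (f.comp P.subtype).ker = f.ker.subgroupOf P := rfl
      obtain ⟨n, hn⟩ := IsPGroup.iff_card.1 (hQp.to_le
        (show (f.comp P.subtype).range ≤ Q by rintro _ ⟨p, rfl⟩; exact p.2))
      exact ⟨n, by rw [← hk', Subgroup.index_ker, hn]⟩
    obtain ⟨j, hj⟩ := hidx
    have h1 : Nat.card (f.ker.subgroupOf P) ∣ Nat.card N := Subgroup.card_dvd_of_le hK
    have h2 : 2 ^ j ∣ Nat.card N := by
      refine dvd_trans ?_ (Subgroup.card_dvd_of_le
        (Subgroup.le_normalizer : (S : Subgroup P) ≤ N))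
      refine S.pow_dvd_card_of_pow_dvd_card ?_
      rw [← hj]
      exact Subgroup.index_dvd_card _
    have h3 : Nat.card P ∣ Nat.card N := by
      rw [← (f.ker.subgroupOf P).card_mul_index, hj]
      exact Nat.Coprime.mul_dvd_of_dvd_of_dvd
        (Nat.Coprime.pow_right _ (Nat.coprime_two_right.2 hko)) h1 h2
    have h4' : N = ⊤ := Subgroup.eq_top_of_card_eq _
      (Nat.dvd_antisymm (Subgroup.card_subgroup_dvd_card N) h3)
    rw [h4']
    exact Subgroup.mem_top g
  have hmem : ∀ g : L, f g ∈ Q → (∃ j : ℕ, g ^ 2 ^ j = 1) → ∃ s ∈ (S : Subgroup P), (s : L) = g := by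
    rintro g hg ⟨j, hj⟩
    haveI := hnorm
    refine ⟨⟨g, hg⟩, (QuotientGroup.eq_one_iff _).1 (orderOf_eq_one_iff.1 ?_), rfl⟩
    have hd : orderOf ((⟨g, hg⟩ : P) : P ⧸ (S : Subgroup P)) ∣ 2 ^ j :=
      orderOf_dvd_of_pow_eq_one (by
        rw [← QuotientGroup.mk_pow, show (⟨g, hg⟩ : P) ^ 2 ^ j = 1 from Subtype.ext hj,
          QuotientGroup.mk_one])
    refine Nat.Coprime.eq_one_of_dvd (Nat.Coprime.pow_right _ (Nat.coprime_two_right.2 ?_)) hd
    haveI : Fact (Nat.Prime 2) := ⟨Nat.prime_two⟩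
    exact (Nat.odd_iff.2 (Nat.two_dvd_ne_zero.1 S.not_dvd_index)).of_dvd_nat
      (Subgroup.index_eq_card (S : Subgroup P) ▸ orderOf_dvd_natCard _)
  set S₀ : Subgroup G := ((S : Subgroup P).map P.subtype).map L.subtype with hS₀
  refine ⟨S₀, (S.2.map _).map _, Subgroup.map_subtype_le _, ?_, ?_, ?_⟩
  · rintro _ ⟨_, ⟨p, -, rfl⟩, rfl⟩
    exact congrArg Subtype.val (hQc p.2 : f (p : L) • c' = c')
  · intro g hgL hgc hg2
    obtain ⟨j, hj⟩ := hg2
    have hd' := hS.base.oneFix_sect hmulti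
    have hsc : f ⟨g, hgL⟩ • c' = c' := Subtype.ext hgc
    set y' := f ⟨g, hgL⟩ • z' with hy'
    have hy'c : y' ≠ c' := fun e => hzc (congrArg Subtype.val (smul_left_cancel _ (e.trans hsc.symm)) :)
    obtain ⟨q, hq, hqy⟩ := hQt z' y' (fun e => hzc (congrArg Subtype.val e)) hy'c
    set d := q⁻¹ * f ⟨g, hgL⟩ with hd
    have hdc : d • c' = c' := by
      rw [hd, mul_smul, hsc]
      exact hQc (inv_mem hq)
    have hdz : d • z' = z' := by rw [hd, mul_smul, ← hy', ← hqy, inv_smul_smul]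
    have hpow : ∀ n : ℕ, (q * d) ^ n * (d ^ n)⁻¹ ∈ Q := by
      intro n
      induction n with
      | zero => simp
      | succ n ih =>
        have h1 : d ^ n * q * (d ^ n)⁻¹ ∈ Q :=
          Coprime.mem_normalizer_conj (hQn (pow_mem (show d ∈ stabilizer _ c' from hdc) n)) hq
        have e : (q * d) ^ (n + 1) * (d ^ (n + 1))⁻¹ =
            (q * d) ^ n * (d ^ n)⁻¹ * (d ^ n * q * (d ^ n)⁻¹) := by
          rw [pow_succ, pow_succ]; group
        rw [e]
        exact mul_mem ih h1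
    have hqd : q * d = f ⟨g, hgL⟩ := by rw [hd, mul_inv_cancel_left]
    have hdq : d ^ 2 ^ j = 1 := by
      refine hQr _ ?_ z' (fun e => hzc (congrArg Subtype.val e))
        (pow_mem (show d ∈ stabilizer _ z' from hdz) _)
      have h1 := hpow (2 ^ j)
      rwa [hqd, ← map_pow, show (⟨g, hgL⟩ : L) ^ 2 ^ j = 1 from Subtype.ext hj, map_one, one_mul,
        inv_mem_iff] at h1
    have hd1 : d = 1 := by
      have ho : Odd (orderOf d) :=
        (hd'.odd_two (x := c') (y := z') (fun e => hzc (congrArg Subtype.val e).symm)).of_dvd_nat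
          (Subgroup.orderOf_dvd_natCard _ (mem_two_iff.2 ⟨hdc, hdz⟩))
      exact orderOf_eq_one_iff.1 (Nat.Coprime.eq_one_of_dvd
        (Nat.Coprime.pow_right _ (Nat.coprime_two_right.2 ho)) (orderOf_dvd_of_pow_eq_one hdq))
    have hgQ : f ⟨g, hgL⟩ ∈ Q := by rw [← hqd, hd1, mul_one]; exact hq
    obtain ⟨s, hs, e⟩ := hmem _ hgQ ⟨j, Subtype.ext hj⟩
    exact ⟨_, ⟨s, hs, e⟩, rfl⟩
  · intro y y' hy hy' hyc hy'c
    obtain ⟨q, hq, hqy⟩ := hQt ⟨y, hcen hy⟩ ⟨y', hcen hy'⟩ (fun e => hyc (congrArg Subtype.val e))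
      (fun e => hy'c (congrArg Subtype.val e))
    obtain ⟨g, rfl⟩ := sect_surjective L q
    -- split off the odd part, which is in the kernel
    obtain ⟨a, m, hm, he⟩ := Nat.exists_eq_two_pow_mul_odd (orderOf_pos g).ne'
    obtain ⟨a', ha'⟩ := hQp ⟨f g, hq⟩
    have hfm : f g ^ 2 ^ a' = 1 := congrArg Subtype.val ha'
    obtain ⟨l, hl⟩ := exists_pow_eq_self_of_coprime (x := f g) (n := m)
      (((Nat.Coprime.pow_left a' (Nat.coprime_two_left.2 hm)).coprime_dvd_left
        (orderOf_dvd_of_pow_eq_one hfm)).symm)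
    have hs : f (g ^ (m * l)) = f g := by rw [map_pow, pow_mul, hl]
    obtain ⟨s, hsS, es⟩ := hmem (g ^ (m * l)) (hs.symm ▸ hq)
      ⟨a, by rw [← pow_mul, mul_right_comm, mul_comm m, ← he, pow_mul, pow_orderOf_eq_one, one_pow]⟩
    refine ⟨(s : L), ⟨_, ⟨s, hsS, rfl⟩, rfl⟩, ?_⟩
    rw [es]
    have h5 : f (g ^ (m * l)) • (⟨y, hcen hy⟩ : centres Ω L) = ⟨y', hcen hy'⟩ := by rw [hs]; exact hqy
    exact congrArg Subtype.val h5

/-- Sections: the 2-elements of a proper subgroup fixing a centre form a subgroup, regular on the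
other centres, semiregular on all other points, centralising the kernel and normalised by whatever
fixes the centre and normalises the subgroup. -/
theorem exists_sec {M : Subgroup G} (hne : M ≠ ⊤) (hM : Multi Ω M) (h4 : FourIn M) {c : Ω}
    (hc : c ∈ centres Ω M) :
    ∃ S : Subgroup G, S ≤ M ⊓ stabilizer G c ∧ IsPGroup 2 S ∧
      (∀ g ∈ M, g • c = c → (∃ j : ℕ, g ^ 2 ^ j = 1) → g ∈ S) ∧
      (∀ y y' : Ω, y ∈ centres Ω M → y' ∈ centres Ω M → y ≠ c → y' ≠ c → ∃ g ∈ S, g • y = y') ∧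
      (∀ g ∈ S, ∀ y : Ω, y ≠ c → g • y = y → g = 1) ∧
      (∀ g ∈ S, ∀ k ∈ kerIn Ω M, Commute g k) ∧
      ∀ b : G, b • c = c → (∀ g ∈ M, b * g * b⁻¹ ∈ M) → ∀ g ∈ S, b * g * b⁻¹ ∈ S := by
  obtain ⟨z, hz, hzc⟩ : ∃ z ∈ centres Ω M, z ≠ c := by
    obtain ⟨a₁, h₁, a₂, h₂, h12⟩ := hM
    rcases eq_or_ne a₁ c with rfl | e
    exacts [⟨a₂, h₂, h12.symm⟩, ⟨a₁, h₁, e⟩]
  obtain ⟨S, hSp, hSL, hSc, hmem, htr⟩ := hS.exists_twoPart hne h4 hzc hc hz
  have hsemi : ∀ g ∈ S, ∀ y : Ω, y ≠ c → g • y = y → g = 1 := by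
    intro g hg y hy hgy
    obtain ⟨j, hj⟩ := hSp ⟨g, hg⟩
    have ho : Odd (orderOf g) := (hS.base.odd_two hy.symm).of_dvd_nat
      (Subgroup.orderOf_dvd_natCard _ (mem_two_iff.2 ⟨hSc hg, hgy⟩))
    exact orderOf_eq_one_iff.1 (Nat.Coprime.eq_one_of_dvd
      (Nat.Coprime.pow_right _ (Nat.coprime_two_right.2 ho))
      (orderOf_dvd_of_pow_eq_one (congrArg Subtype.val hj)))
  have hconj : ∀ b : G, b • c = c → (∀ g ∈ M, b * g * b⁻¹ ∈ M) → ∀ g ∈ S, b * g * b⁻¹ ∈ S := by
    intro b hbc hbM g hg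
    refine hmem _ (conj_mem_involGen hbM (hSL hg)) ?_ ?_
    · have h1 := conj_smul_fixed (g := b) (show g • c = c from hSc hg)
      rwa [hbc] at h1
    · obtain ⟨j, hj⟩ := hSp ⟨g, hg⟩
      exact ⟨j, by rw [conj_pow, show g ^ 2 ^ j = 1 from congrArg Subtype.val hj, mul_one,
        mul_inv_cancel]⟩
  refine ⟨S, le_inf (hSL.trans (involGen_le M)) hSc, hSp, ?_, htr, hsemi,
    fun g hg k hk => (hS.commute_kerIn ⟨c, hc, z, hz, hzc.symm⟩ (hSL hg) hk).symm, hconj⟩
  intro g hgM hgc hg2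
  have hgz : g • z ≠ c := fun e => hzc (smul_left_cancel g (e.trans hgc.symm))
  obtain ⟨s, hs, hsz⟩ := htr z (g • z) hz (smul_mem_centres hgM hz) hzc hgz
  set U := S ⊔ Subgroup.zpowers g with hU
  have hUp : IsPGroup 2 U := by
    refine IsPGroup.to_sup_of_normal_left' hSp ?_ ?_
    · obtain ⟨j, hj⟩ := hg2
      exact (IsPGroup.of_card (n := Nat.log 2 (orderOf g)) (by
        obtain ⟨i, -, hi⟩ := (Nat.dvd_prime_pow Nat.prime_two).1 (orderOf_dvd_of_pow_eq_one hj)
        rw [Nat.card_zpowers, hi, Nat.log_pow Nat.one_lt_two]))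
    · refine Subgroup.zpowers_le.2 (Coprime.mem_normalizer_of_forall_conj ?_)
      exact hconj g hgc fun k hk => M.mul_mem (M.mul_mem hgM hk) (M.inv_mem hgM)
  have hd : s⁻¹ * g ∈ U :=
    mul_mem (inv_mem (le_sup_left (a := S) hs)) ((le_sup_right : Subgroup.zpowers g ≤ U) (Subgroup.mem_zpowers g))
  have hd1 : s⁻¹ * g = 1 := by
    obtain ⟨j, hj⟩ := hUp ⟨_, hd⟩
    have ho : Odd (orderOf (s⁻¹ * g)) := (hS.base.odd_two hzc.symm).of_dvd_nat
      (Subgroup.orderOf_dvd_natCard _ (mem_two_iff.2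
        ⟨by rw [mul_smul, hgc]; exact (inv_mem (hSc hs) : s⁻¹ ∈ stabilizer G c),
          by rw [mul_smul, ← hsz, inv_smul_smul]⟩))
    exact orderOf_eq_one_iff.1 (Nat.Coprime.eq_one_of_dvd
      (Nat.Coprime.pow_right _ (Nat.coprime_two_right.2 ho))
      (orderOf_dvd_of_pow_eq_one (congrArg Subtype.val hj)))
  rw [← inv_mul_eq_one.1 hd1]
  exact hs

omit hS [Finite G] [Finite Ω] in
/-- Invariant lifts: the fixed part is transitive on the fixed centres. -/
theorem exists_sec_fixed {S : Subgroup G} {c y y' : Ω} {b : G}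
    (hsemi : ∀ g ∈ S, ∀ w : Ω, w ≠ c → g • w = w → g = 1)
    (hb : ∀ g ∈ S, b * g * b⁻¹ ∈ S) (hy : y ≠ c) (hby : b • y = y) (hby' : b • y' = y')
    (htr : ∃ g ∈ S, g • y = y') : ∃ g ∈ S, Commute g b ∧ g • y = y' := by
  obtain ⟨g, hg, hgy⟩ := htr
  refine ⟨g, hg, ?_, hgy⟩
  have h1 : (b * g * b⁻¹) • y = y' := by
    rw [mul_smul, mul_smul, inv_smul_eq_iff.2 hby.symm, hgy, hby']
  have h2 : g⁻¹ * (b * g * b⁻¹) = 1 :=
    hsemi _ (mul_mem (inv_mem hg) (hb g hg)) y hy (by rw [mul_smul, h1, ← hgy, inv_smul_smul])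
  exact (mul_inv_eq_iff_eq_mul.1 (inv_mul_eq_one.1 h2).symm).symm

end Step

end CfsgLib.BenderQ
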