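import Mathlib
import Cfsg.Agent.Lib.BenderQ.CountEnough
import Cfsg.Agent.Lib.BenderQ.Sec
import Cfsg.Agent.Lib.BenderTrans.LineFix

/-!
The elements of a two point stabiliser: inverted elements fix exactly the two points, an element
with a third fixed point commutes with a swapper and with an involution at each of the two points,
the two numbers of commuting involutions agree, and the elements of prime order without a four
group in their centraliser commute with exactly one of each.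
-/

set_option autoImplicit false
set_option linter.unusedSectionVars false
set_option linter.style.haveILetI false

namespace CfsgLib.BenderQ

open CfsgLib.BenderTrans CfsgLib.Involutions CfsgLib.OddOrder MulAction

universe u

variable {G : Type u} [Group G] [Finite G] {Ω : Type u} [MulAction G Ω] [Finite Ω]

private theorem oddSolv :
    ∀ X : Type u, ∀ _ : Group X, ∀ _ : Finite X, Odd (Nat.card X) → Group.IsSolvable X :=
  fun X i i' hX => @CfsgLib.PF.oddSolvable X i i' hX

omit [Finite G] [Finite Ω] in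
/-- The quotient of two swappers fixes both points. -/
theorem swap_mul_swap_mem {c y : Ω} {r r' : G} (hr : r ∈ swaps G c y) (hr' : r' ∈ swaps G c y) :
    r * r' ∈ BenderTrans.two G c y :=
  mem_two_iff.2 ⟨by rw [mul_smul, hr'.2, swaps_symm hr], by rw [mul_smul, swaps_symm hr', hr.2]⟩

omit [Finite G] [Finite Ω] in
/-- A swapper of `c` and `y` conjugated by an element fixing both is again one. -/
theorem conj_swap_mem {c y : Ω} {r d : G} (hr : r ∈ swaps G c y)
    (hd : d ∈ BenderTrans.two G c y) : d * r * d⁻¹ ∈ swaps G c y := by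
  have h := conj_mem_swaps (g := d) hr
  rwa [(mem_two_iff.1 hd).1, (mem_two_iff.1 hd).2] at h

omit [Finite G] [Finite Ω] in
/-- An involution at `c` conjugated by an element fixing `c` is again one. -/
theorem conj_invAt_mem {c : Ω} {t d : G} (ht : t ∈ invAt G c) (hd : d • c = c) :
    d * t * d⁻¹ ∈ invAt G c := by
  have h := conj_mem_invAt (g := d) ht
  rwa [hd] at h

namespace Step

variable (hS : Step G Ω)
include hS

/-- An element commuting with an involution at one of two fixed points has a third fixed point. -/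
theorem two_lt_fix_of_commute_invAt {c y : Ω} (hy : y ≠ c) {d u : G}
    (hd : d ∈ BenderTrans.two G c y) (hu : u ∈ invAt G c) (hdu : Commute d u) :
    2 < {w : Ω | d • w = w}.ncard := by
  obtain ⟨hdc, hdy⟩ := mem_two_iff.1 hd
  have h1 : u • y ≠ y := fun e => hy (hS.base.unique u hu.1 y c e hu.2)
  have h2 : u • y ≠ c := fun e => hy (smul_left_cancel u (e.trans hu.2.symm))
  refine (Set.two_lt_ncard (Set.toFinite _)).2
    ⟨c, hdc, y, hdy, u • y, ?_, hy.symm, h2.symm, h1.symm⟩
  show d • u • y = u • y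
  rw [← mul_smul, hdu.eq, mul_smul, hdy]

/-- An element commuting with a swapper of two fixed points has a third fixed point. -/
theorem two_lt_fix_of_commute_swap {c y : Ω} (hy : y ≠ c) {d r : G}
    (hd : d ∈ BenderTrans.two G c y) (hr : r ∈ swaps G c y) (hdr : Commute d r) :
    2 < {w : Ω | d • w = w}.ncard := by
  obtain ⟨e, he⟩ := hS.base.exists_fix r hr.1
  obtain ⟨h1, h2⟩ := hS.base.ne_of_swap hy.symm hr he
  exact (Set.two_lt_ncard (Set.toFinite _)).2 ⟨c, (mem_two_iff.1 hd).1, y, (mem_two_iff.1 hd).2, e,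
    hS.base.fix_of_commute ⟨hr.1, he⟩ hdr, hy.symm, h1.symm, h2.symm⟩

omit hS in
private theorem odd_orderOf_two (h : OneFix G Ω) {c y : Ω} (hy : y ≠ c) {d : G}
    (hd : d ∈ BenderTrans.two G c y) : Odd (orderOf d) :=
  (h.odd_two hy.symm).of_dvd_nat (Subgroup.orderOf_dvd_natCard _ hd)

omit hS in
private theorem eq_one_of_odd {g : G} (ho : Odd (orderOf g)) (h : g * g = 1) : g = 1 := by
  have h1 : orderOf g ∣ 2 := orderOf_dvd_of_pow_eq_one (by rw [pow_two, h])
  rcases (Nat.dvd_prime Nat.prime_two).1 h1 with e | e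
  · exact orderOf_eq_one_iff.1 e
  · rw [e] at ho; exact absurd ho (by decide)

omit hS in
private theorem commute_of_commute_sq {a b : G} (ho : Odd (orderOf a)) (h : Commute (a * a) b) :
    Commute a b := by
  obtain ⟨k, hk⟩ := RankOneInvol.exists_pow_sq_eq ho
  rw [← hk, ← (Commute.refl a).mul_pow]
  exact h.pow_left k

/-- No swapper centralises a nontrivial element inverted by another one. -/
theorem eq_one_of_inverted_of_commute {c y : Ω} (hy : y ≠ c) {r r' j : G} (hr : r ∈ swaps G c y)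
    (hr' : r' ∈ swaps G c y) (hj : j ∈ invSet G Ω c y r) (hc : Commute j r') : j = 1 := by
  obtain ⟨hjD, hjr⟩ := hj
  set d := r * r' with hd
  have hdD : d ∈ BenderTrans.two G c y := swap_mul_swap_mem hr hr'
  have h1 : d * j * d⁻¹ = j⁻¹ := by
    rw [← hjr, hd]
    calc r * r' * j * (r * r')⁻¹ = r * (r' * j * r'⁻¹) * r⁻¹ := by group
      _ = r * j * r⁻¹ := by rw [← hc.eq, mul_inv_cancel_right]
  have h2 : (d * d) * j * (d * d)⁻¹ = j := by
    calc (d * d) * j * (d * d)⁻¹ = d * (d * j * d⁻¹) * d⁻¹ := by group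
      _ = d * j⁻¹ * d⁻¹ := by rw [h1]
      _ = (d * j * d⁻¹)⁻¹ := by group
      _ = j := by rw [h1, inv_inv]
  have h3 : Commute d j :=
    commute_of_commute_sq (odd_orderOf_two hS.base hy hdD) (mul_inv_eq_iff_eq_mul.1 h2)
  rw [h3.eq, mul_inv_cancel_right, eq_inv_iff_mul_eq_one] at h1
  exact eq_one_of_odd (odd_orderOf_two hS.base hy hjD) h1

/-- Two points with commuting involutions have a commuting swapper. -/
theorem exists_swap_of_invAt {c y : Ω} (hy : y ≠ c) {d u t : G} (hu : u ∈ invAt G c)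
    (ht : t ∈ invAt G y) (hdu : Commute d u) (hdt : Commute d t) :
    ∃ r ∈ swaps G c y, Commute d r ∧ r * u * r⁻¹ = t := by
  obtain ⟨r, hr, hrut, hcl⟩ := hS.base.exists_mid hu ht hy.symm
  refine ⟨r, hr, ?_, hrut⟩
  have h1 : Subgroup.closure ({u, t} : Set G) ≤ Subgroup.centralizer ({d} : Set G) := by
    refine (Subgroup.closure_le _).2 ?_
    rintro _ (rfl | rfl)
    exacts [Subgroup.mem_centralizer_singleton_iff.2 hdu.eq.symm,
      Subgroup.mem_centralizer_singleton_iff.2 hdt.eq.symm]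
  exact (Subgroup.mem_centralizer_singleton_iff.1 (h1 hcl)).symm

/-- **F1**: an inverted element fixes exactly the two points. -/
theorem fix_eq_pair_of_inverted {c y : Ω} (hy : y ≠ c) {r j : G} (hr : r ∈ swaps G c y)
    (hj : j ∈ invSet G Ω c y r) (hj1 : j ≠ 1) : {w : Ω | j • w = w} = {c, y} := by
  obtain ⟨hjc, hjy⟩ := mem_two_iff.1 hj.1
  refine Set.Subset.antisymm (fun w hw => ?_) ?_
  swap
  · rintro _ (rfl | rfl)
    exacts [hjc, hjy]
  by_contra hne
  simp only [Set.mem_insert_iff, Set.mem_singleton_iff, not_or] at hne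
  obtain ⟨k, hk⟩ := exists_prime_power_of_ne_one hj1
  have hxD : j ^ k ∈ BenderTrans.two G c y := pow_mem hj.1 k
  have hxr : r * j ^ k * r⁻¹ = (j ^ k)⁻¹ := by rw [← conj_pow, hj.2, inv_pow]
  have hxw : j ^ k • w = w :=
    mem_stabilizer_iff.1 ((stabilizer G w).pow_mem (mem_stabilizer_iff.2 hw) k)
  have h3 : 2 < {z : Ω | j ^ k • z = z}.ncard := (Set.two_lt_ncard (Set.toFinite _)).2
    ⟨c, (mem_two_iff.1 hxD).1, y, (mem_two_iff.1 hxD).2, w, hxw, hy.symm, Ne.symm hne.1,
      Ne.symm hne.2⟩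
  obtain ⟨u, hu, hxu⟩ := hS.exists_invAt_commute oddSolv hk h3 (mem_two_iff.1 hxD).1
  obtain ⟨t, ht, hxt⟩ := hS.exists_invAt_commute oddSolv hk h3 (mem_two_iff.1 hxD).2
  obtain ⟨r', hr', hxr', -⟩ := hS.exists_swap_of_invAt hy hu ht hxu hxt
  exact hk.ne_one (orderOf_eq_one_iff.2
    (hS.eq_one_of_inverted_of_commute hy hr hr' ⟨hxD, hxr⟩ hxr'))

/-- The centraliser of an inverted element fixes both points. -/
theorem centralizer_le_two_of_inverted {c y : Ω} (hy : y ≠ c) {r j : G} (hr : r ∈ swaps G c y)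
    (hj : j ∈ invSet G Ω c y r) (hj1 : j ≠ 1) :
    Subgroup.centralizer ({j} : Set G) ≤ BenderTrans.two G c y := by
  intro g hg
  have hgj : Commute g j := Subgroup.mem_centralizer_singleton_iff.1 hg
  have hfix := hS.fix_eq_pair_of_inverted hy hr hj hj1
  have hmem : ∀ w ∈ ({c, y} : Set Ω), g • w ∈ ({c, y} : Set Ω) := by
    intro w hw
    rw [← hfix] at hw ⊢
    show j • g • w = g • w
    rw [← mul_smul, ← hgj.eq, mul_smul, show j • w = w from hw]
  rcases hmem c (Or.inl rfl) with hgc | hgc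
  · rcases hmem y (Or.inr rfl) with hgy | hgy
    · exact absurd (smul_left_cancel g (hgy.trans hgc.symm)) hy
    · exact mem_two_iff.2 ⟨hgc, hgy⟩
  · exfalso
    have hgy : g • y = c := by
      rcases hmem y (Or.inr rfl) with e | e
      · exact e
      · exact absurd (smul_left_cancel g (e.trans hgc.symm)) hy
    set d := r * g with hd
    have hdD : d ∈ BenderTrans.two G c y :=
      mem_two_iff.2 ⟨by rw [mul_smul, hgc, swaps_symm hr], by rw [mul_smul, hgy, hr.2]⟩
    have h1 : d * j * d⁻¹ = j⁻¹ := by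
      rw [← hj.2, hd]
      calc r * g * j * (r * g)⁻¹ = r * (g * j * g⁻¹) * r⁻¹ := by group
        _ = r * j * r⁻¹ := by rw [hgj.eq, mul_inv_cancel_right]
    have h2 : (d * d) * j * (d * d)⁻¹ = j := by
      calc (d * d) * j * (d * d)⁻¹ = d * (d * j * d⁻¹) * d⁻¹ := by group
        _ = d * j⁻¹ * d⁻¹ := by rw [h1]
        _ = (d * j * d⁻¹)⁻¹ := by group
        _ = j := by rw [h1, inv_inv]
    have h3 : Commute d j :=
      commute_of_commute_sq (odd_orderOf_two hS.base hy hdD) (mul_inv_eq_iff_eq_mul.1 h2)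
    rw [h3.eq, mul_inv_cancel_right, eq_inv_iff_mul_eq_one] at h1
    exact hj1 (eq_one_of_odd (odd_orderOf_two hS.base hy hj.1) h1)

theorem odd_centralizer_of_inverted {c y : Ω} (hy : y ≠ c) {r j : G} (hr : r ∈ swaps G c y)
    (hj : j ∈ invSet G Ω c y r) (hj1 : j ≠ 1) :
    Odd (Nat.card (Subgroup.centralizer ({j} : Set G))) :=
  (hS.base.odd_two hy.symm).of_dvd_nat
    (Subgroup.card_dvd_of_le (hS.centralizer_le_two_of_inverted hy hr hj hj1))

/-- Without a four group in the centraliser only one commuting swapper exists. -/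
theorem unique_swap_of_not_four {c y : Ω} (hy : y ≠ c) {x r r' u : G}
    (h4 : ¬ FourIn (Subgroup.centralizer ({x} : Set G)))
    (hr : r ∈ swaps G c y) (hr' : r' ∈ swaps G c y) (hxr : Commute x r) (hxr' : Commute x r')
    (hu : u ∈ invAt G c) (hxu : Commute x u) : r = r' := by
  by_contra hne
  set M := Subgroup.centralizer ({x} : Set G) with hM
  have hmem : ∀ {g : G}, Commute x g → g ∈ M := fun h =>
    Subgroup.mem_centralizer_singleton_iff.2 h.eq.symm
  set a := r * r' with ha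
  have haO : a ∈ coreIn M := mul_mem_coreIn_of_not_four h4 (hmem hxr) (hmem hxr') hr.1 hr'.1
  have haJ : a ∈ invSet G Ω c y r :=
    ⟨swap_mul_swap_mem hr hr', by
      rw [ha, mul_inv_rev, inv_eq_self_of_involution hr.1, inv_eq_self_of_involution hr'.1,
        ← mul_assoc, mul_self_eq_one hr.1, one_mul]⟩
  have ha1 : a ≠ 1 := fun e => hne (by
    rw [ha, mul_eq_one_iff_eq_inv, inv_eq_self_of_involution hr'.1] at e
    exact e)
  have hto : r * u ∈ coreIn M := mul_mem_coreIn_of_not_four h4 (hmem hxr) (hmem hxu) hr.1 hu.1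
  have htoc : (r * u) • c = y := by rw [mul_smul, hu.2, hr.2]
  obtain ⟨k, hk⟩ := exists_prime_power_of_ne_one ha1
  set p := orderOf (a ^ k) with hp
  haveI : Fact p.Prime := ⟨hk⟩
  have hbD : a ^ k ∈ BenderTrans.two G c y := pow_mem haJ.1 k
  have hbJ : a ^ k ∈ invSet G Ω c y r :=
    ⟨hbD, by rw [← conj_pow, haJ.2, inv_pow]⟩
  have hb1 : a ^ k ≠ 1 := fun e => hk.ne_one (orderOf_eq_one_iff.2 e)
  set O := coreIn M with hO
  obtain ⟨P, hP, hbP⟩ := exists_sylowOf_ge (p := p) (M := O ⊓ BenderTrans.two G c y)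
    (Q := Subgroup.zpowers (a ^ k))
    (Subgroup.zpowers_le.2 ⟨O.pow_mem haO k, hbD⟩)
    (IsPGroup.of_card (n := 1) (by rw [Nat.card_zpowers, pow_one]))
  have hfix : fixSet Ω P ⊆ {c, y} := by
    intro w hw
    rw [← hS.fix_eq_pair_of_inverted hy hr hbJ hb1]
    exact hw _ (hbP (Subgroup.mem_zpowers _))
  have hcP : c ∈ fixSet Ω P := fun g hg => (mem_two_iff.1 (hP.1 hg).2).1
  have hyP : y ∈ fixSet Ω P := fun g hg => (mem_two_iff.1 (hP.1 hg).2).2
  have hOodd : ∀ g ∈ O, Odd (orderOf g) := fun g hg =>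
    (odd_coreIn M).of_dvd_nat (Subgroup.orderOf_dvd_natCard _ hg)
  have hnorm : ∀ g ∈ O, g ∈ Subgroup.normalizer (P : Set G) → g • c = c ∧ g • y = y := by
    intro g hg hgn
    have h1 := hfix (smul_mem_fixSet hgn hcP)
    have h2 := hfix (smul_mem_fixSet hgn hyP)
    rcases h1 with e1 | e1
    · rcases h2 with e2 | e2
      · exact absurd (smul_left_cancel g (e2.trans e1.symm)) hy
      · exact ⟨e1, e2⟩
    · exfalso
      rcases h2 with e2 | e2
      · refine Nat.not_even_iff_odd.2 (hOodd g hg) (even_orderOf_of_swap hy.symm e1 e2)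
      · exact hy (smul_left_cancel g (e2.trans e1.symm))
  -- a Sylow subgroup of the pair is one of the whole core
  obtain ⟨P₂, hP₂, hPP₂⟩ := exists_sylowOf_ge (p := p) (M := O) (Q := P)
    (hP.1.trans inf_le_left) hP.2.1
  have hPeq : P₂ = P := by
    by_contra hne2
    have hlt : P.subgroupOf P₂ < ⊤ := lt_top_iff_ne_top.2 fun e =>
      hne2 (le_antisymm (Subgroup.subgroupOf_eq_top.1 e) hPP₂)
    have h1 := hP₂.2.1
    haveI : Group.IsNilpotent P₂ := h1.isNilpotent
    obtain ⟨g, hgn, hgP⟩ :=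
      SetLike.exists_of_lt (Group.normalizerCondition_of_isNilpotent (G := ↥P₂) _ hlt)
    have hgN : (g : G) ∈ Subgroup.normalizer (P : Set G) := by
      refine Coprime.mem_normalizer_of_forall_conj fun z hz => ?_
      exact Subgroup.mem_subgroupOf.1 ((Subgroup.mem_normalizer_iff.1 hgn ⟨z, hPP₂ hz⟩).1
        (Subgroup.mem_subgroupOf.2 hz))
    obtain ⟨hgc, hgy⟩ := hnorm g (hP₂.1 g.2) hgN
    set U := P ⊔ Subgroup.zpowers (g : G)
    have hUP₂ : U ≤ P₂ := sup_le hPP₂ (Subgroup.zpowers_le.2 g.2)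
    have hU : P = U := (hP.2.2 U (le_inf (hUP₂.trans hP₂.1)
      (sup_le (hP.1.trans inf_le_right) (Subgroup.zpowers_le.2 (mem_two_iff.2 ⟨hgc, hgy⟩))))
      (h1.to_le hUP₂) le_sup_left).symm
    exact hgP (Subgroup.mem_subgroupOf.2
      (hU ▸ (le_sup_right : Subgroup.zpowers (g : G) ≤ U) (Subgroup.mem_zpowers _)))
  rw [hPeq] at hP₂
  -- move `c` to `y` inside the normaliser
  set o := r * u with ho
  set Oy := O ⊓ stabilizer G y with hOy
  have hP' : P.map (MulAut.conj o).toMonoidHom ≤ Oy := by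
    rintro _ ⟨z, hz, rfl⟩
    refine ⟨O.mul_mem (O.mul_mem hto (hP₂.1 hz)) (O.inv_mem hto), ?_⟩
    have h1 := conj_smul_fixed (g := o) (hcP z hz)
    rwa [htoc] at h1
  have hPy : P ≤ Oy := le_inf hP₂.1 fun g hg => hyP g hg
  have hsyl : SylowOf p P Oy := hP₂.mono inf_le_left hPy
  have hcardP : Nat.card (P.map (MulAut.conj o).toMonoidHom) = Nat.card P :=
    Subgroup.card_map_of_injective (MulAut.conj o).injective
  have hsyl' : SylowOf p (P.map (MulAut.conj o).toMonoidHom) Oy :=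
    sylowOf_of_card hP' (hP.2.1.map _) (by rw [hcardP]; exact (card_sylowOf hsyl).ge)
  obtain ⟨e, he, heP⟩ := exists_conj_sylowOf hsyl' hsyl
  set g := e * o with hg
  have hgn : g ∈ Subgroup.normalizer (P : Set G) := by
    refine Coprime.mem_normalizer_of_forall_conj fun z hz => ?_
    rw [heP, show g * z * g⁻¹ = e * (o * z * o⁻¹) * e⁻¹ by rw [hg]; group]
    exact ⟨_, ⟨z, hz, rfl⟩, rfl⟩
  have hgc : g • c = y := by rw [hg, mul_smul, htoc]; exact he.2
  exact hy ((hnorm g (O.mul_mem he.1 hto) hgn).1.symm.trans hgc).symm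

/-- Without a four group in the centraliser only one commuting involution exists at a point. -/
theorem unique_invAt_of_not_four {c y : Ω} (hy : y ≠ c) {x u u' t : G}
    (h4 : ¬ FourIn (Subgroup.centralizer ({x} : Set G)))
    (hu : u ∈ invAt G c) (hu' : u' ∈ invAt G c) (ht : t ∈ invAt G y)
    (hxu : Commute x u) (hxu' : Commute x u') (hxt : Commute x t) : u = u' := by
  obtain ⟨r, hr, hxr, hrt⟩ := hS.exists_swap_of_invAt hy hu ht hxu hxt
  obtain ⟨r', hr', hxr', hrt'⟩ := hS.exists_swap_of_invAt hy hu' ht hxu' hxt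
  rw [← hS.unique_swap_of_not_four hy h4 hr hr' hxr hxr' hu hxu] at hrt'
  have h1 := hrt.trans hrt'.symm
  exact mul_left_cancel (mul_right_cancel h1)

/-- The centres of the centraliser of an element of prime order with three fixed points are its fixed
points. -/
theorem centres_centralizer_eq {x : G} (hx : (orderOf x).Prime)
    (h3 : 2 < {w : Ω | x • w = w}.ncard) :
    centres Ω (Subgroup.centralizer ({x} : Set G)) = {w : Ω | x • w = w} := by
  ext w
  constructor
  · rintro ⟨t, htC, ht, htw⟩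
    exact hS.base.fix_of_commute ⟨ht, htw⟩ (Subgroup.mem_centralizer_singleton_iff.1 htC).symm
  · intro hw
    obtain ⟨t, ht, hxt⟩ := hS.exists_invAt_commute oddSolv hx h3 hw
    exact mem_centres (Subgroup.mem_centralizer_singleton_iff.2 hxt.eq.symm) ht

theorem multi_centralizer {x : G} (hx : (orderOf x).Prime)
    (h3 : 2 < {w : Ω | x • w = w}.ncard) : Multi Ω (Subgroup.centralizer ({x} : Set G)) := by
  obtain ⟨a, ha, b, hb, hab⟩ := (Set.one_lt_ncard (Set.toFinite _)).1
    (show 1 < {w : Ω | x • w = w}.ncard by omega)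
  rw [← hS.centres_centralizer_eq hx h3] at ha hb
  exact ⟨a, ha, b, hb, hab⟩

/-- An element with three fixed points commutes with an involution at each of them. -/
theorem exists_invAt_commute_of_fix {d : G} (h3 : 2 < {w : Ω | d • w = w}.ncard) {c : Ω}
    (hdc : d • c = c) : ∃ u ∈ invAt G c, Commute d u := by
  by_cases hd1 : d = 1
  · obtain ⟨u, hu⟩ := hS.base.exists_invAt c
    exact ⟨u, hu, hd1 ▸ Commute.one_left u⟩
  obtain ⟨k, hk⟩ := exists_prime_power_of_ne_one hd1
  set x := d ^ k with hx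
  have hfix : ∀ w : Ω, d • w = w → x • w = w := fun w hw =>
    mem_stabilizer_iff.1 ((stabilizer G w).pow_mem (mem_stabilizer_iff.2 hw) k)
  have h3x : 2 < {w : Ω | x • w = w}.ncard :=
    lt_of_lt_of_le h3 (Set.ncard_le_ncard hfix (Set.toFinite _))
  obtain ⟨y, hdy, w, hdw, hyw, hyc, hwc⟩ : ∃ y : Ω, d • y = y ∧ ∃ w : Ω, d • w = w ∧ y ≠ w ∧ y ≠ c ∧ w ≠ c := by
    obtain ⟨a, b, e, ha, hb, he, hab, hae, hbe⟩ := (Set.two_lt_ncard_iff (Set.toFinite _)).1 h3
    by_cases h1 : a = c
    · exact ⟨b, hb, e, he, hbe, fun h => hab (h1.trans h.symm), fun h => hae (h1.trans h.symm)⟩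
    by_cases h2 : b = c
    · exact ⟨a, ha, e, he, hae, h1, fun h => hbe (h2.trans h.symm)⟩
    exact ⟨a, ha, b, hb, hab, h1, h2⟩
  set M := Subgroup.centralizer ({x} : Set G) with hM
  have hdx : Commute d x := (Commute.refl d).pow_right k
  have hdM : ∀ g ∈ M, d * g * d⁻¹ ∈ M := fun g hg => by
    have hdm : d ∈ M := Subgroup.mem_centralizer_singleton_iff.2 hdx.eq
    exact M.mul_mem (M.mul_mem hdm hg) (M.inv_mem hdm)
  by_cases h4 : FourIn M
  · have hx1 : x ≠ 1 := fun e => hk.ne_one (orderOf_eq_one_iff.2 e)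
    have hcM : ∀ z : Ω, d • z = z → z ∈ centres Ω M := fun z hz => by
      rw [hS.centres_centralizer_eq hk h3x]; exact hfix z hz
    obtain ⟨S, hSle, hSp, -, htr, hsemi, -, hconj⟩ :=
      hS.exists_sec (hS.centralizer_ne_top hx1) (hS.multi_centralizer hk h3x) h4 (hcM c hdc)
    obtain ⟨g, hg, hgd, hgy⟩ := exists_sec_fixed hsemi (hconj d hdc hdM) hyc hdy hdw
      (htr y w (hcM y hdy) (hcM w hdw) hyc hwc)
    have hg1 : g ≠ 1 := fun e => hyw (by rw [← hgy, e, one_smul])
    obtain ⟨j, hj⟩ := hSp ⟨g, hg⟩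
    have heven : Even (orderOf g) := by
      rw [← Nat.not_odd_iff_even]
      intro ho
      refine hg1 (orderOf_eq_one_iff.1 (Nat.Coprime.eq_one_of_dvd
        (Nat.Coprime.pow_right j (Nat.coprime_two_right.2 ho))
        (orderOf_dvd_of_pow_eq_one (congrArg Subtype.val hj))))
    obtain ⟨i, hi⟩ := exists_involution_pow heven
    exact ⟨g ^ i, ⟨hi, ((stabilizer G c).pow_mem (hSle hg).2 i : _)⟩, (hgd.pow_left i).symm⟩
  · obtain ⟨u, hu, hxu⟩ := hS.exists_invAt_commute oddSolv hk h3x (hfix c hdc)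
    obtain ⟨t, ht, hxt⟩ := hS.exists_invAt_commute oddSolv hk h3x (hfix y hdy)
    refine ⟨u, hu, ?_⟩
    have h1 : Commute x (d * u * d⁻¹) := (hdx.symm.mul_right hxu).mul_right hdx.symm.inv_right
    exact (mul_inv_eq_iff_eq_mul.1
      (hS.unique_invAt_of_not_four hyc h4 hu (conj_invAt_mem hu hdc) ht hxu h1 hxt).symm)

/-- **LINE**: an element fixing two points and a third one commutes with a swapper of the two. -/
theorem exists_swap_commute {c y : Ω} (hy : y ≠ c) {d : G} (hd : d ∈ BenderTrans.two G c y)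
    (h3 : 2 < {w : Ω | d • w = w}.ncard) : ∃ r ∈ swaps G c y, Commute d r := by
  obtain ⟨u, hu, hdu⟩ := hS.exists_invAt_commute_of_fix h3 (mem_two_iff.1 hd).1
  obtain ⟨t, ht, hdt⟩ := hS.exists_invAt_commute_of_fix h3 (mem_two_iff.1 hd).2
  obtain ⟨r, hr, hdr, -⟩ := hS.exists_swap_of_invAt hy hu ht hdu hdt
  exact ⟨r, hr, hdr⟩

theorem exists_swap_commute_iff {c y : Ω} (hy : y ≠ c) {d : G}
    (hd : d ∈ BenderTrans.two G c y) :
    (∃ r ∈ swaps G c y, Commute d r) ↔ 2 < {w : Ω | d • w = w}.ncard :=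
  ⟨fun ⟨_, hr, hdr⟩ => hS.two_lt_fix_of_commute_swap hy hd hr hdr, hS.exists_swap_commute hy hd⟩

/-- **PEQ**: as many involutions at a point as swappers commute with an element fixing both. -/
theorem ncard_commute_invAt_eq {c y : Ω} (hy : y ≠ c) {d : G} (hd : d ∈ BenderTrans.two G c y) :
    {u | u ∈ invAt G c ∧ Commute d u}.ncard = {r | r ∈ swaps G c y ∧ Commute d r}.ncard := by
  have h := hS.base
  by_cases h3 : 2 < {w : Ω | d • w = w}.ncard
  swap
  · have e1 : {u | u ∈ invAt G c ∧ Commute d u} = ∅ :=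
      Set.eq_empty_of_forall_notMem fun u hu => h3 (hS.two_lt_fix_of_commute_invAt hy hd hu.1 hu.2)
    have e2 : {r | r ∈ swaps G c y ∧ Commute d r} = ∅ :=
      Set.eq_empty_of_forall_notMem fun r hr => h3 (hS.two_lt_fix_of_commute_swap hy hd hr.1 hr.2)
    rw [e1, e2]
  obtain ⟨t, ht, hdt⟩ := hS.exists_invAt_commute_of_fix h3 (mem_two_iff.1 hd).2
  have hsurj := h.surjOn_conj hy.symm ht
  have hinj : Set.InjOn (fun g => g * t * g⁻¹) (swaps G c y) := by
    refine Set.injOn_of_ncard_image_eq ?_ (Set.toFinite _)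
    refine le_antisymm (Set.ncard_image_le (Set.toFinite _)) ?_
    rw [h.ncard_swaps hy.symm]
    exact Set.ncard_le_ncard hsurj (Set.toFinite _)
  symm
  refine Set.ncard_congr (fun r _ => r * t * r⁻¹) ?_ (fun a b ha hb e => hinj ha.1 hb.1 e) ?_
  · rintro r ⟨hr, hdr⟩
    refine ⟨?_, (hdr.mul_right hdt).mul_right hdr.inv_right⟩
    have h1 := conj_mem_invAt (g := r) ht
    rwa [swaps_symm hr] at h1
  · rintro u ⟨hu, hdu⟩
    obtain ⟨r, hr, hru⟩ := hsurj hu
    refine ⟨r, ⟨hr, ?_⟩, hru⟩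
    have h1 : (d * r * d⁻¹) * t * (d * r * d⁻¹)⁻¹ = r * t * r⁻¹ := by
      calc (d * r * d⁻¹) * t * (d * r * d⁻¹)⁻¹ = d * (r * (d⁻¹ * t * d) * r⁻¹) * d⁻¹ := by group
        _ = d * (r * t * r⁻¹) * d⁻¹ := by rw [mul_assoc d⁻¹, ← hdt.eq, inv_mul_cancel_left]
        _ = r * t * r⁻¹ := by
          rw [show r * t * r⁻¹ = u from hru, hdu.eq, mul_inv_cancel_right]
    exact mul_inv_eq_iff_eq_mul.1 (hinj (conj_swap_mem hr hd) hr h1)

/-- A prime dividing the number of involutions at a point has no bad elements. -/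
theorem fourIn_of_dvd {x : G} (hx : (orderOf x).Prime) (h3 : 2 < {w : Ω | x • w = w}.ncard) {c : Ω}
    (hdvd : orderOf x ∣ (invAt G c).ncard) : FourIn (Subgroup.centralizer ({x} : Set G)) := by
  haveI : Fact (orderOf x).Prime := ⟨hx⟩
  have C : Ctx G Ω (orderOf x) := ⟨hS.base, hS.faith, hS.four, hS.concl,
    fun z => hS.base.ncard_invAt_eq z c ▸ hdvd, oddSolv⟩
  have hfix : fixSet Ω (Subgroup.zpowers x) = {w : Ω | x • w = w} :=
    Set.ext fun w => mem_fixSet_zpowers
  obtain ⟨s, hs, t, ht, hs2, ht2, hne, hst⟩ := (C.lineFix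
    (central_of_card_le _ G Ω le_rfl oddSolv hS.base hS.faith hS.four _)
    (IsPGroup.of_card (n := 1) (show Nat.card (Subgroup.zpowers x) = _ by
      rw [Nat.card_zpowers, pow_one]))
    (by rw [hfix]; exact h3)).1
  exact ⟨s, Subgroup.mem_centralizer_singleton_iff.2 (hs x (Subgroup.mem_zpowers x)).symm, t,
    Subgroup.mem_centralizer_singleton_iff.2 (ht x (Subgroup.mem_zpowers x)).symm, hs2, ht2, hne,
    hst⟩

/-- A four group in the centraliser gives two commuting involutions at each fixed point. -/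
theorem exists_two_invAt_of_four {x : G} (hx : (orderOf x).Prime)
    (h3 : 2 < {w : Ω | x • w = w}.ncard) (h4 : FourIn (Subgroup.centralizer ({x} : Set G))) {c : Ω}
    (hc : x • c = c) :
    ∃ u ∈ invAt G c, ∃ u' ∈ invAt G c, u ≠ u' ∧ Commute x u ∧ Commute x u' ∧ Commute u u' := by
  obtain ⟨s, hs, t, ht, hs2, ht2, hne, hst⟩ := h4
  obtain ⟨e, he⟩ := hS.base.exists_fix s hs2
  have hte : t • e = e := hS.base.fix_of_commute ⟨hs2, he⟩ hst.symm
  have hcM : c ∈ centres Ω (Subgroup.centralizer ({x} : Set G)) := by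
    rw [hS.centres_centralizer_eq hx h3]; exact hc
  obtain ⟨g, hgM, hge⟩ : ∃ g ∈ Subgroup.centralizer ({x} : Set G), g • e = c := by
    rcases eq_or_ne e c with e' | e'
    · exact ⟨1, one_mem _, by rw [one_smul, e']⟩
    · obtain ⟨r, hrM, hr⟩ := hS.base.exists_swap_centres (mem_centres hs ⟨hs2, he⟩) hcM e'
      exact ⟨r, hrM, hr.2⟩
  have key : ∀ w ∈ Subgroup.centralizer ({x} : Set G), orderOf w = 2 → w • e = e →
      g * w * g⁻¹ ∈ invAt G c ∧ Commute x (g * w * g⁻¹) := fun w hw hw2 hwe =>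
    ⟨hge ▸ conj_mem_invAt ⟨hw2, hwe⟩,
      (Subgroup.mem_centralizer_singleton_iff.1
        ((Subgroup.centralizer ({x} : Set G)).mul_mem
          ((Subgroup.centralizer ({x} : Set G)).mul_mem hgM hw)
          ((Subgroup.centralizer ({x} : Set G)).inv_mem hgM))).symm⟩
  obtain ⟨h1, h2⟩ := key s hs hs2 he
  obtain ⟨h1', h2'⟩ := key t ht ht2 hte
  exact ⟨_, h1, _, h1', fun e' => hne (by simpa using e'), h2, h2',
    hst.map (MulAut.conj g).toMonoidHom⟩

/-- Bad elements are those of prime order with three fixed points and no four group in the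
centraliser. -/
theorem isBad_iff {q : ℕ} {x : G} :
    IsBad G Ω q x ↔ q.Prime ∧ orderOf x = q ∧ 2 < {z : Ω | x • z = z}.ncard ∧
      ¬ FourIn (Subgroup.centralizer ({x} : Set G)) := by
  constructor
  · rintro ⟨hq, hxq, h3, c, hc, hu⟩
    refine ⟨hq, hxq, h3, fun h4 => ?_⟩
    obtain ⟨u, hu1, u', hu1', hne, hxu, hxu', -⟩ :=
      hS.exists_two_invAt_of_four (hxq ▸ hq) h3 h4 hc
    exact hne (hu.unique ⟨hu1, hxu⟩ ⟨hu1', hxu'⟩)
  · rintro ⟨hq, hxq, h3, h4⟩
    have hx : (orderOf x).Prime := hxq ▸ hq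
    obtain ⟨a, b, e, ha, hb, -, hab, -, -⟩ := (Set.two_lt_ncard_iff (Set.toFinite _)).1 h3
    obtain ⟨u, hu, hxu⟩ := hS.exists_invAt_commute oddSolv hx h3 ha
    obtain ⟨t, ht, hxt⟩ := hS.exists_invAt_commute oddSolv hx h3 hb
    exact ⟨hq, hxq, h3, a, ha, u, ⟨hu, hxu⟩, fun u' hu' =>
      (hS.unique_invAt_of_not_four hab.symm h4 hu hu'.1 ht hxu hu'.2 hxt).symm⟩

/-- A bad element fixing two points commutes with exactly one involution at the first one and with
exactly one swapper. -/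
theorem bad_unique {q : ℕ} {x : G} (hb : IsBad G Ω q x) {c y : Ω} (hy : y ≠ c)
    (hx : x ∈ BenderTrans.two G c y) :
    (∃! u : G, u ∈ invAt G c ∧ Commute x u) ∧ ∃! r : G, r ∈ swaps G c y ∧ Commute x r := by
  obtain ⟨hq, hxq, h3, h4⟩ := hS.isBad_iff.1 hb
  obtain ⟨u, hu, hxu⟩ := hS.exists_invAt_commute_of_fix h3 (mem_two_iff.1 hx).1
  obtain ⟨t, ht, hxt⟩ := hS.exists_invAt_commute_of_fix h3 (mem_two_iff.1 hx).2
  obtain ⟨r, hr, hxr⟩ := hS.exists_swap_commute hy hx h3
  exact ⟨⟨u, ⟨hu, hxu⟩, fun u' hu' =>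
      (hS.unique_invAt_of_not_four hy h4 hu hu'.1 ht hxu hu'.2 hxt).symm⟩,
    ⟨r, ⟨hr, hxr⟩, fun r' hr' =>
      (hS.unique_swap_of_not_four hy h4 hr hr'.1 hxr hr'.2 hu hxu).symm⟩⟩

/-- The prime of a bad element does not divide the number of involutions at a point. -/
theorem bad_not_dvd {q : ℕ} {x : G} (hb : IsBad G Ω q x) (c : Ω) :
    ¬ q ∣ (invAt G c).ncard := by
  obtain ⟨hq, hxq, h3, h4⟩ := hS.isBad_iff.1 hb
  exact fun hd => h4 (hS.fourIn_of_dvd (hxq ▸ hq) h3 (hxq ▸ hd))

/-- A bad element centralises no nontrivial inverted element. -/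
theorem bad_inverted_eq_one {q : ℕ} {x : G} (hb : IsBad G Ω q x) {c y : Ω} (hy : y ≠ c)
    (hx : x ∈ BenderTrans.two G c y) {r j : G} (hr : r ∈ swaps G c y) (hxr : Commute x r)
    (hj : j ∈ invSet G Ω c y r) (hxj : Commute x j) : j = 1 := by
  obtain ⟨-, ⟨r₀, -, huniq⟩⟩ := hS.bad_unique hb hy hx
  have h1 : j * r * j⁻¹ = r :=
    (huniq _ ⟨conj_swap_mem hr hj.1, (hxj.mul_right hxr).mul_right hxj.inv_right⟩).trans
      (huniq r ⟨hr, hxr⟩).symm
  exact hS.eq_one_of_inverted_of_commute hy hr hr hj (mul_inv_eq_iff_eq_mul.1 h1)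

/-- Two commuting swappers force a four group in the centraliser. -/
theorem fourIn_of_two_swaps {c y : Ω} (hy : y ≠ c) {x r r' : G} (hx : x ∈ BenderTrans.two G c y)
    (hr : r ∈ swaps G c y) (hr' : r' ∈ swaps G c y) (hxr : Commute x r) (hxr' : Commute x r')
    (hne : r ≠ r') : FourIn (Subgroup.centralizer ({x} : Set G)) := by
  by_contra h4
  obtain ⟨u, hu, hxu⟩ := hS.exists_invAt_commute_of_fix
    (hS.two_lt_fix_of_commute_swap hy hx hr hxr) (mem_two_iff.1 hx).1
  exact hne (hS.unique_swap_of_not_four hy h4 hr hr' hxr hxr' hu hxu)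

/-- A group of prime power order for a prime not dividing the number of involutions at a point
centralises one of them and a swapper. -/
theorem exists_fixed_of_not_dvd {c y : Ω} (hy : y ≠ c) {q : ℕ} [Fact q.Prime] {S : Subgroup G}
    (hSq : IsPGroup q S) (hS2 : S ≤ BenderTrans.two G c y) (hq : ¬ q ∣ (invAt G c).ncard) :
    (∃ u ∈ invAt G c, ∀ s ∈ S, Commute s u) ∧ ∃ r ∈ swaps G c y, ∀ s ∈ S, Commute s r := by
  constructor
  · letI : MulAction S (invAt G c) :=
      { smul := fun g u => ⟨(g : G) * u * (g : G)⁻¹,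
          conj_invAt_mem u.2 (mem_two_iff.1 (hS2 g.2)).1⟩
        one_smul := fun u => Subtype.ext (show (1 : G) * u * (1 : G)⁻¹ = u by simp)
        mul_smul := fun g g' u => Subtype.ext (by
          show ((g : G) * g') * u * ((g : G) * g')⁻¹ = (g : G) * ((g' : G) * u * (g' : G)⁻¹) * (g : G)⁻¹
          group) }
    obtain ⟨u, hu⟩ := hSq.nonempty_fixed_point_of_prime_not_dvd_card (invAt G c)
      (by rwa [Nat.card_coe_set_eq])
    exact ⟨u, u.2, fun s hs => mul_inv_eq_iff_eq_mul.1 (congrArg Subtype.val (hu ⟨s, hs⟩))⟩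
  · letI : MulAction S (swaps G c y) :=
      { smul := fun g r => ⟨(g : G) * r * (g : G)⁻¹, conj_swap_mem r.2 (hS2 g.2)⟩
        one_smul := fun r => Subtype.ext (show (1 : G) * r * (1 : G)⁻¹ = r by simp)
        mul_smul := fun g g' r => Subtype.ext (by
          show ((g : G) * g') * r * ((g : G) * g')⁻¹ = (g : G) * ((g' : G) * r * (g' : G)⁻¹) * (g : G)⁻¹
          group) }
    obtain ⟨r, hr⟩ := hSq.nonempty_fixed_point_of_prime_not_dvd_card (swaps G c y)
      (by rw [Nat.card_coe_set_eq, hS.base.ncard_swaps hy.symm]; exact hq)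
    exact ⟨r, r.2, fun s hs => mul_inv_eq_iff_eq_mul.1 (congrArg Subtype.val (hr ⟨s, hs⟩))⟩

/-- The prime divisors of the order of an inverted element divide the number of involutions at a
point. -/
theorem dvd_of_inverted {c y : Ω} (hy : y ≠ c) {r j : G} (hr : r ∈ swaps G c y)
    (hj : j ∈ invSet G Ω c y r) {q : ℕ} (hq : q.Prime) (hqj : q ∣ orderOf j) :
    q ∣ (invAt G c).ncard := by
  by_contra hnd
  haveI : Fact q.Prime := ⟨hq⟩
  set x := j ^ (orderOf j / q) with hx
  have hxo : orderOf x = q := orderOf_pow_orderOf_div (orderOf_pos j).ne' hqj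
  have hxD : x ∈ BenderTrans.two G c y := pow_mem hj.1 _
  obtain ⟨-, r', hr', hc⟩ := hS.exists_fixed_of_not_dvd hy (q := q)
    (S := Subgroup.zpowers x) (IsPGroup.of_card (n := 1) (by rw [Nat.card_zpowers, hxo, pow_one]))
    (Subgroup.zpowers_le.2 hxD) hnd
  have h1 := hS.eq_one_of_inverted_of_commute hy hr hr'
    ⟨hxD, by rw [hx, ← conj_pow, hj.2, inv_pow]⟩ (hc x (Subgroup.mem_zpowers x))
  rw [h1, orderOf_one] at hxo
  exact hq.ne_one hxo.symm

end Step

end CfsgLib.BenderQ
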