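import Mathlib
import Cfsg.Agent.Lib.BenderTrans.Basic

/-!
Commuting involutions at a point form, with the identity, an elementary abelian group on which the
point stabiliser acts.
-/

set_option autoImplicit false
set_option linter.style.haveILetI false

namespace CfsgLib.BenderQ

open CfsgLib.BenderTrans CfsgLib.Involutions MulAction

universe u v

variable {G : Type u} [Group G] {Ω : Type v} [MulAction G Ω]

/-- The group of the identity and the commuting involutions at `c`. -/
def invSub (c : Ω) (hcomm : ∀ u ∈ invAt G c, ∀ w ∈ invAt G c, Commute u w) : Subgroup G where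
  carrier := {g | g = 1 ∨ g ∈ invAt G c}
  one_mem' := Or.inl rfl
  mul_mem' := by
    rintro a b (rfl | ha) (rfl | hb)
    · exact Or.inl (one_mul 1)
    · exact Or.inr (by rwa [one_mul])
    · exact Or.inr (by rwa [mul_one])
    · rcases eq_or_ne a b with rfl | hne
      · exact Or.inl (mul_self_eq_one ha.1)
      · refine Or.inr ⟨orderOf_eq_two_iff_mul.2 ⟨fun e => hne ?_, ?_⟩, ?_⟩
        · rw [mul_eq_one_iff_eq_inv.1 e, inv_eq_self_of_involution hb.1]
        · calc a * b * (a * b) = a * (b * a) * b := by group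
            _ = a * (a * b) * b := by rw [(hcomm b hb a ha).eq]
            _ = a * a * (b * b) := by group
            _ = 1 := by rw [mul_self_eq_one ha.1, mul_self_eq_one hb.1, one_mul]
        · rw [mul_smul, hb.2, ha.2]
  inv_mem' := by
    rintro a (rfl | ha)
    · exact Or.inl inv_one
    · exact Or.inr (by rwa [inv_eq_self_of_involution ha.1])

variable {c : Ω} (hcomm : ∀ u ∈ invAt G c, ∀ w ∈ invAt G c, Commute u w)

theorem mem_invSub {g : G} : g ∈ invSub c hcomm ↔ g = 1 ∨ g ∈ invAt G c := Iff.rfl

theorem invSub_comm : ∀ x y : invSub c hcomm, x * y = y * x := by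
  rintro ⟨x, hx⟩ ⟨y, hy⟩
  refine Subtype.ext ?_
  show x * y = y * x
  rcases hx with rfl | hx
  · simp
  rcases hy with rfl | hy
  · simp
  exact (hcomm x hx y hy).eq

theorem invSub_sq : ∀ x : invSub c hcomm, x * x = 1 := by
  rintro ⟨x, hx⟩
  refine Subtype.ext ?_
  show x * x = 1
  rcases hx with rfl | hx
  · simp
  exact mul_self_eq_one hx.1

theorem card_invSub [Finite G] : Nat.card (invSub c hcomm) = (invAt G c).ncard + 1 := by
  have h1 : (invSub c hcomm : Set G) = insert 1 (invAt G c) := by
    ext g; simp [mem_invSub]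
  calc Nat.card (invSub c hcomm) = (invSub c hcomm : Set G).ncard := Nat.card_coe_set_eq _
    _ = (invAt G c).ncard + 1 := by
      rw [h1, Set.ncard_insert_of_notMem (fun h => ne_one_of_involution h.1 rfl) (Set.toFinite _)]

theorem conj_mem_invSub {g : G} (hg : g • c = c) {x : G} (hx : x ∈ invSub c hcomm) :
    g * x * g⁻¹ ∈ invSub c hcomm := by
  rcases hx with rfl | hx
  · exact Or.inl (by group)
  · refine Or.inr ?_
    have := conj_mem_invAt (g := g) hx
    rwa [hg] at this

/-- The conjugation action of the point stabiliser. -/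
def rho : stabilizer G c →* MulAut (invSub c hcomm) where
  toFun g :=
    { toFun := fun x => ⟨(g : G) * x * (g : G)⁻¹, conj_mem_invSub hcomm g.2 x.2⟩
      invFun := fun x => ⟨((g⁻¹ : stabilizer G c) : G) * x * ((g⁻¹ : stabilizer G c) : G)⁻¹,
        conj_mem_invSub hcomm (g⁻¹).2 x.2⟩
      left_inv := fun x => Subtype.ext (by
        show (g : G)⁻¹ * ((g : G) * x * (g : G)⁻¹) * (g : G)⁻¹⁻¹ = x
        group)
      right_inv := fun x => Subtype.ext (by
        show (g : G) * ((g : G)⁻¹ * x * (g : G)⁻¹⁻¹) * (g : G)⁻¹ = x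
        group)
      map_mul' := fun x y => Subtype.ext (by
        show (g : G) * (x * y) * (g : G)⁻¹ = (g : G) * x * (g : G)⁻¹ * ((g : G) * y * (g : G)⁻¹)
        group) }
  map_one' := MulEquiv.ext fun x => Subtype.ext (by
    show ((1 : stabilizer G c) : G) * x * ((1 : stabilizer G c) : G)⁻¹ = x
    simp)
  map_mul' g k := MulEquiv.ext fun x => Subtype.ext (by
    show ((g * k : stabilizer G c) : G) * x * ((g * k : stabilizer G c) : G)⁻¹ =
      (g : G) * ((k : G) * x * (k : G)⁻¹) * (g : G)⁻¹
    simp only [Subgroup.coe_mul]; group)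

theorem rho_coe (g : stabilizer G c) (x : invSub c hcomm) :
    ((rho hcomm g x : invSub c hcomm) : G) = (g : G) * x * (g : G)⁻¹ := rfl

theorem rho_eq_one_iff {g : stabilizer G c} :
    rho hcomm g = 1 ↔ ∀ t ∈ invAt G c, Commute (g : G) t := by
  constructor
  · intro h t ht
    have := congrArg Subtype.val (DFunLike.congr_fun h (⟨t, Or.inr ht⟩ : invSub c hcomm))
    exact mul_inv_eq_iff_eq_mul.1 this
  · intro h
    refine MulEquiv.ext fun x => Subtype.ext ?_
    rw [rho_coe]
    rcases x.2 with e | ht
    · rw [e]; simp [MulAut.one_apply, e]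
    · rw [(h _ ht).eq, mul_inv_cancel_right]; rfl

end CfsgLib.BenderQ
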