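import Mathlib
import Cfsg.Agent.Lib.BenderQ.Kernel
import Cfsg.Agent.Lib.BenderQ.SingerConj
import Cfsg.Agent.Lib.BenderTrans.Central
import Cfsg.Agent.Lib.FTCons.TransitiveFitting

/-!
When the involutions at a point commute, the elements of the two point stabiliser inverted by a
swapper form a cyclic subgroup.
-/

set_option autoImplicit false
set_option linter.style.haveILetI false

namespace CfsgLib.BenderQ

open CfsgLib.BenderTrans CfsgLib.Involutions CfsgLib.OddOrder MulAction

universe u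

variable {G : Type u} [Group G] [Finite G] {Ω : Type u} [MulAction G Ω] [Finite Ω]
  {c y : Ω}

/-- An element of the two point stabiliser centralising the commuting involutions at one of the two
points centralises all swappers of the two points. -/
theorem commute_swaps_of_commute_invAt
    (hodd : ∀ X : Type u, ∀ _ : Group X, ∀ _ : Finite X, Odd (Nat.card X) → Group.IsSolvable X)
    (h : OneFix G Ω) (hfaith : ∀ g : G, (∀ x : Ω, g • x = x) → g = 1) (hf : HasFour G)
    (hcon : Concl G Ω) (hy : y ≠ c) {d : G} (hd : d ∈ BenderTrans.two G c y)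
    (hdX : ∀ t ∈ invAt G c, Commute d t) : ∀ r ∈ swaps G c y, Commute d r := by
  set K : Subgroup G := BenderTrans.two G c y ⊓ Subgroup.centralizer (invAt G c) with hK
  set R : Subgroup G := Subgroup.centralizer (swaps G c y) with hR
  suffices hKR : K ≤ R from fun r hr =>
    (Subgroup.mem_centralizer_iff.1
      (hKR ⟨hd, Subgroup.mem_centralizer_iff.2 fun t ht => (hdX t ht).eq.symm⟩) r hr).symm
  -- it is enough to find one centralised involution at the second point
  have hone : ∀ e ∈ K, (∃ t ∈ invAt G y, Commute e t) → e ∈ R := by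
    rintro e he ⟨t, ht, het⟩
    have hec := mem_two_iff.1 he.1
    refine Subgroup.mem_centralizer_iff.2 fun r hr => ?_
    have hinj : Set.InjOn (fun g => g * t * g⁻¹) (swaps G c y) := by
      refine Set.injOn_of_ncard_image_eq ?_ (Set.toFinite _)
      refine le_antisymm (Set.ncard_image_le (Set.toFinite _)) ?_
      rw [h.ncard_swaps hy.symm]
      exact Set.ncard_le_ncard (h.surjOn_conj hy.symm ht) (Set.toFinite _)
    have hr' : e * r * e⁻¹ ∈ swaps G c y := by
      have := conj_mem_swaps (g := e) hr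
      rwa [hec.1, hec.2] at this
    have hs : r * t * r⁻¹ ∈ invAt G c := by
      have h1 := conj_mem_invAt (g := r) ht
      rwa [swaps_symm hr] at h1
    have h2 : Commute e (r * t * r⁻¹) :=
      (Subgroup.mem_centralizer_iff.1 he.2 _ hs).symm
    have h3 : (e * r * e⁻¹) * t * (e * r * e⁻¹)⁻¹ = r * t * r⁻¹ := by
      calc (e * r * e⁻¹) * t * (e * r * e⁻¹)⁻¹ = e * (r * (e⁻¹ * t * e) * r⁻¹) * e⁻¹ := by group
        _ = e * (r * t * r⁻¹) * e⁻¹ := by
          rw [mul_assoc e⁻¹, ← het.eq, inv_mul_cancel_left]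
        _ = r * t * r⁻¹ := by rw [h2.eq, mul_inv_cancel_right]
    exact ((mul_inv_eq_iff_eq_mul.1 (hinj hr' hr h3))).symm
  have hKodd : Odd (Nat.card K) :=
    (h.odd_two hy.symm).of_dvd_nat (Subgroup.card_dvd_of_le inf_le_left)
  refine Subgroup.subgroupOf_eq_top.1 (Fitting.eq_top_of_forall_sylow_le fun p hp _ => ?_)
  haveI : Fact p.Prime := ⟨hp⟩
  obtain ⟨P⟩ : Nonempty (Sylow p K) := inferInstance
  refine ⟨P, fun k hk => Subgroup.mem_subgroupOf.2 ?_⟩
  set e : G := (k : G) with he_def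
  refine hone e k.2 ?_
  set S := Subgroup.zpowers e with hS
  have hSp : IsPGroup p S := (P.2.map K.subtype).to_le ((Subgroup.zpowers_le).2 ⟨k, hk, rfl⟩)
  have heK : e ∈ K := k.2
  have hec := mem_two_iff.1 heK.1
  have hco : ∀ t ∈ invAt G c, Commute e t := fun t ht =>
    (Subgroup.mem_centralizer_iff.1 heK.2 t ht).symm
  by_cases hdvd : p ∣ (invAt G c).ncard
  · have C : Ctx G Ω p := ⟨h, hfaith, hf, hcon, fun x => h.ncard_invAt_eq x c ▸ hdvd, hodd⟩
    obtain ⟨v, hv⟩ := h.exists_invAt c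
    have hvy : v • y ≠ y := fun e' => hy (h.unique v hv.1 y c e' hv.2)
    have hvc : v • y ≠ c := fun e' => hy (smul_left_cancel v (e'.trans hv.2.symm))
    have hmem : ∀ z : Ω, e • z = z → z ∈ fixSet Ω S := fun z hz =>
      mem_fixSet_iff_le.2 ((Subgroup.zpowers_le).2 hz)
    have h3 : 2 < (fixSet Ω S).ncard := (Set.two_lt_ncard (Set.toFinite _)).2
      ⟨c, hmem c hec.1, y, hmem y hec.2, v • y,
        hmem _ (by rw [← mul_smul, (hco v hv).eq, mul_smul, hec.2]), hy.symm, hvc.symm, hvy.symm⟩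
    obtain ⟨-, hcen⟩ :=
      C.lineFix (central_of_card_le _ G Ω le_rfl hodd h hfaith hf p) hSp h3
    have hy' := hmem y hec.2
    rw [← hcen] at hy'
    obtain ⟨t, htC, ht⟩ := hy'
    exact ⟨t, ht, htC e (Subgroup.mem_zpowers e)⟩
  · letI : MulAction S (swaps G c y) :=
      { smul := fun g r => ⟨(g : G) * r * (g : G)⁻¹, by
          have hg : (g : G) ∈ K := (Subgroup.zpowers_le).2 heK g.2
          have := conj_mem_swaps (g := (g : G)) r.2
          rwa [(mem_two_iff.1 hg.1).1, (mem_two_iff.1 hg.1).2] at this⟩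
        one_smul := fun r => Subtype.ext (show (1 : G) * r * (1 : G)⁻¹ = r by simp)
        mul_smul := fun g g' r => Subtype.ext (by
          show ((g : G) * g') * r * ((g : G) * g')⁻¹ = (g : G) * ((g' : G) * r * (g' : G)⁻¹) * (g : G)⁻¹
          group) }
    obtain ⟨r, hr⟩ := hSp.nonempty_fixed_point_of_prime_not_dvd_card (swaps G c y)
      (by rw [Nat.card_coe_set_eq, h.ncard_swaps hy.symm]; exact hdvd)
    have her : Commute e r :=
      mul_inv_eq_iff_eq_mul.1 (congrArg Subtype.val (hr ⟨e, Subgroup.mem_zpowers e⟩))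
    obtain ⟨v, hv⟩ := h.exists_invAt c
    refine ⟨(r : G) * v * (r : G)⁻¹, ?_, (her.mul_right (hco v hv)).mul_right her.inv_right⟩
    have h1 := conj_mem_invAt (g := (r : G)) hv
    rwa [show (r : G) • c = y from r.2.2] at h1

/-- The inverted elements form a cyclic subgroup when the involutions at a point commute. -/
theorem exists_cyclic_invSet_of_oneFix
    (hodd : ∀ X : Type u, ∀ _ : Group X, ∀ _ : Finite X, Odd (Nat.card X) → Group.IsSolvable X)
    (h : OneFix G Ω) (hfaith : ∀ g : G, (∀ x : Ω, g • x = x) → g = 1) (hf : HasFour G)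
    (hcon : Concl G Ω) (hcomm : ∀ s ∈ invAt G c, ∀ t ∈ invAt G c, Commute s t) (hy : y ≠ c) {r : G}
    (hr : r ∈ swaps G c y) :
    ∃ J : Subgroup G, (J : Set G) = invSet G Ω c y r ∧ IsCyclic J := by
  classical
  set D := BenderTrans.two G c y with hD
  let ρ : D →* MulAut (invSub c hcomm) := (rho hcomm).comp (Subgroup.inclusion inf_le_left)
  have hker : ∀ d : D, d ∈ ρ.ker ↔ ∀ t ∈ invAt G c, Commute (d : G) t := fun d =>
    MonoidHom.mem_ker.trans (rho_eq_one_iff hcomm)
  have hkerR : ∀ d : D, d ∈ ρ.ker → ∀ s ∈ swaps G c y, Commute (d : G) s := fun d hd =>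
    commute_swaps_of_commute_invAt hodd h hfaith hf hcon hy d.2 ((hker d).1 hd)
  have hr2 : r * r = 1 := mul_self_eq_one hr.1
  -- conjugation by the swapper
  have hrD : ∀ d ∈ D, r * d * r⁻¹ ∈ D := fun d hd =>
    (Subgroup.mem_normalizer_iff.1 (OneFix.swap_normalizes hr) d).1 hd
  have hrr : ∀ d : G, r * (r * d * r⁻¹) * r⁻¹ = d := fun d => by
    rw [show r * (r * d * r⁻¹) * r⁻¹ = (r * r) * d * (r * r)⁻¹ by group, hr2]; simp
  let ι : D ≃* D :=
    { toFun := fun d => ⟨r * d * r⁻¹, hrD d d.2⟩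
      invFun := fun d => ⟨r * d * r⁻¹, hrD d d.2⟩
      left_inv := fun d => Subtype.ext (hrr d)
      right_inv := fun d => Subtype.ext (hrr d)
      map_mul' := fun d e => Subtype.ext (by
        show r * ((d : G) * e) * r⁻¹ = r * d * r⁻¹ * (r * e * r⁻¹)
        group) }
  have hfixker : ∀ d : D, d ∈ ρ.ker → ι d = d := fun d hd => Subtype.ext (by
    show r * (d : G) * r⁻¹ = d
    rw [← (hkerR d hd r hr).eq, mul_inv_cancel_right])
  have hι : ρ.ker.map (ι : D ≃* D).toMonoidHom = ρ.ker := by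
    ext d
    constructor
    · rintro ⟨e, he, rfl⟩
      show ι e ∈ ρ.ker
      rwa [hfixker e he]
    · exact fun hd => ⟨d, hd, hfixker d hd⟩
  let θ : (D ⧸ ρ.ker) ≃* (D ⧸ ρ.ker) := QuotientGroup.congr ρ.ker ρ.ker ι hι
  -- the image acts faithfully and transitively on the commuting involutions
  let M := D ⧸ ρ.ker
  let π : M →* MulAut (invSub c hcomm) := QuotientGroup.kerLift ρ
  have hπ : Function.Injective π := QuotientGroup.kerLift_injective ρ
  letI : CommGroup (invSub c hcomm) :=
    { (inferInstance : Group (invSub c hcomm)) with mul_comm := invSub_comm hcomm }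
  letI : DistribMulAction M (Additive (invSub c hcomm)) :=
    { smul := fun g x => Additive.ofMul (π g x.toMul)
      one_smul := fun x => congrArg Additive.ofMul (by rw [map_one]; rfl)
      mul_smul := fun g g' x => congrArg Additive.ofMul (by rw [map_mul]; rfl)
      smul_zero := fun g => congrArg Additive.ofMul (map_one (π g))
      smul_add := fun g x z => congrArg Additive.ofMul (map_mul (π g) x.toMul z.toMul) }
  haveI : FaithfulSMul M (Additive (invSub c hcomm)) := ⟨fun {a b} hab => hπ (MulEquiv.ext fun x =>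
    congrArg Additive.toMul (hab (Additive.ofMul x)))⟩
  have hModd : Odd (Nat.card M) :=
    (h.odd_two hy.symm).of_dvd_nat (Subgroup.card_quotient_dvd_card _)
  haveI : Group.IsSolvable M := hodd _ inferInstance inferInstance hModd
  have hexp : ∀ e : Additive (invSub c hcomm), 2 • e = 0 := fun e => by
    rw [two_nsmul]; exact congrArg Additive.ofMul (invSub_sq hcomm e.toMul)
  have htrans : ∀ a b : Additive (invSub c hcomm), a ≠ 0 → b ≠ 0 → ∃ g : M, g • a = b := by
    intro a b ha hb
    have hm : ∀ e : Additive (invSub c hcomm), e ≠ 0 → (e.toMul : G) ∈ invAt G c := fun e he =>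
      e.toMul.2.resolve_left fun h1 => he
        (show e = Additive.ofMul 1 from congrArg Additive.ofMul (Subtype.ext h1 : e.toMul = 1))
    obtain ⟨d, hd, e⟩ := h.exists_conj_invAt hy.symm (hm a ha) (hm b hb)
    refine ⟨((⟨d, hd⟩ : D) : M), congrArg Additive.ofMul (Subtype.ext ?_)⟩
    exact e
  obtain ⟨hcyc, -⟩ := CfsgLib.FTCons.TransitiveFitting.fitting_cyclic (D := M)
    (E := Additive (invSub c hcomm)) hModd Nat.prime_two hexp
    (fun N hN => haveI := hN; CfsgLib.FTCons.TransitiveFitting.constCard_of_transitive htrans N)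
  set F := Cfsg.fittingSubgroup M with hF
  haveI hFn : F.Normal := Fitting.fitting_normal
  haveI := hcyc
  obtain ⟨g, hg⟩ := IsCyclic.exists_generator (α := F)
  have hpow : ∀ φ : M ≃* M, (∀ f ∈ F, φ f ∈ F) → ∃ k : ℤ, ∀ f ∈ F, φ f = f ^ k := by
    intro φ hφ
    obtain ⟨k, hk⟩ := hg ⟨φ g, hφ _ g.2⟩
    refine ⟨k, fun f hf => ?_⟩
    obtain ⟨n, hn⟩ := hg ⟨f, hf⟩
    have h1 : (g : M) ^ n = f := congrArg Subtype.val hn
    have h2 : (g : M) ^ k = φ g := congrArg Subtype.val hk
    rw [← h1, map_zpow, ← h2, ← zpow_mul, ← zpow_mul, mul_comm]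
  -- the inverted elements map into the Fitting subgroup
  have hJF : ∀ d : D, r * (d : G) * r⁻¹ = (d : G)⁻¹ → (d : M) ∈ F := by
    intro d hd
    have hθd : θ (d : M) = (d : M)⁻¹ := by
      rw [← QuotientGroup.mk_inv]
      show ((ι d : D) : M) = _
      exact congrArg _ (Subtype.ext hd)
    obtain ⟨k, hk⟩ := hpow (MulAut.conj (d : M)) fun f hf => hFn.conj_mem f hf _
    have hθF : ∀ f ∈ F, θ f ∈ F := fun f hf => by
      rw [hF, ← Fitting.fitting_map_mulEquiv θ]; exact ⟨f, hf, rfl⟩
    obtain ⟨l, hl⟩ := hpow θ hθF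
    have hconj : ∀ f ∈ F, (d : M) * f * (d : M)⁻¹ = f ^ k := fun f hf => hk f hf
    have hsq : ∀ f ∈ F, (d : M)⁻¹ * f * (d : M) = (d : M) * f * (d : M)⁻¹ := by
      intro f hf
      obtain ⟨f₀, hf₀, rfl⟩ : ∃ f₀ ∈ F, θ f₀ = f := by
        have : f ∈ F.map θ.toMonoidHom := by rw [Fitting.fitting_map_mulEquiv]; exact hf
        exact this
      have h1 : θ ((d : M) * f₀ * (d : M)⁻¹) = (d : M)⁻¹ * θ f₀ * (d : M) := by
        rw [map_mul, map_mul, map_inv, hθd, inv_inv]
      rw [← h1, hconj _ hf₀, hconj _ hf, map_zpow]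
    have hcen : (d : M) ^ 2 ∈ Subgroup.centralizer (F : Set M) := by
      refine Subgroup.mem_centralizer_iff.2 fun f hf => ?_
      have h1 := hsq f hf
      rw [pow_two]
      calc f * ((d : M) * d) = (d : M) * ((d : M)⁻¹ * f * (d : M)) * (d : M) := by group
        _ = (d : M) * ((d : M) * f * (d : M)⁻¹) * (d : M) := by rw [h1]
        _ = (d : M) * d * f := by group
    have h2 : (d : M) ^ 2 ∈ F := Fitting.centralizer_fitting_le hcen
    obtain ⟨j, hj⟩ := hModd
    have h3 : ((d : M) ^ 2) ^ (j + 1) = d := by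
      rw [← pow_mul, show 2 * (j + 1) = Nat.card M + 1 by omega, pow_succ, pow_card_eq_one', one_mul]
    exact h3 ▸ pow_mem h2 _
  -- the generated subgroup is abelian
  let S : Set D := {d | r * (d : G) * r⁻¹ = (d : G)⁻¹}
  have hLF : Subgroup.closure S ≤ F.comap (QuotientGroup.mk' ρ.ker) :=
    (Subgroup.closure_le _).2 hJF
  have hSker : ∀ e ∈ ρ.ker, ∀ d ∈ Subgroup.closure S, Commute (e : D) d := by
    intro e he d hd
    have hle : Subgroup.closure S ≤ Subgroup.centralizer ({e} : Set D) := by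
      refine (Subgroup.closure_le _).2 fun s hs => Subgroup.mem_centralizer_singleton_iff.2 ?_
      have hsc := mem_two_iff.1 s.2
      have hrs : r * s ∈ swaps G c y := by
        refine ⟨orderOf_eq_two_iff_mul.2 ⟨fun e' => hy ?_, ?_⟩, ?_⟩
        · calc y = r • c := hr.2.symm
            _ = r • ((s : G) • c) := by rw [hsc.1]
            _ = c := by rw [← mul_smul, e', one_smul]
        · calc r * s * (r * s) = (r * (s : G) * r⁻¹) * s := by
                rw [inv_eq_self_of_involution hr.1, ← mul_assoc]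
            _ = 1 := by rw [show r * (s : G) * r⁻¹ = (s : G)⁻¹ from hs, inv_mul_cancel]
        · rw [mul_smul, hsc.1]; exact hr.2
      refine Subtype.ext ?_
      show (s : G) * (e : G) = (e : G) * s
      have := ((hkerR e he r hr).inv_right.mul_right (hkerR e he _ hrs))
      rw [inv_mul_cancel_left] at this
      exact this.eq.symm
    exact (Subgroup.mem_centralizer_singleton_iff.1 (hle hd)).symm
  let f : Subgroup.closure S →* F :=
    ((QuotientGroup.mk' ρ.ker).comp (Subgroup.closure S).subtype).codRestrict F fun d => hLF d.2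
  have hfker : f.ker ≤ Subgroup.center (Subgroup.closure S) := by
    intro d hd
    have hd1 : (d : D) ∈ ρ.ker :=
      (QuotientGroup.eq_one_iff (d : D)).1 (congrArg Subtype.val (MonoidHom.mem_ker.1 hd))
    exact Subgroup.mem_center_iff.2 fun e => Subtype.ext (hSker _ hd1 _ e.2).eq.symm
  haveI := f.isMulCommutative_of_isCyclic_of_ker_le_center hfker
  have hab : ∀ a b : Subgroup.closure S, a * b = b * a := mul_comm'  
  let J : Subgroup G :=
    { carrier := invSet G Ω c y r
      one_mem' := ⟨one_mem _, by simp⟩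
      mul_mem' := by
        rintro a b ⟨ha, ha'⟩ ⟨hb, hb'⟩
        refine ⟨mul_mem ha hb, ?_⟩
        have h1 : (⟨a, ha⟩ : D) * ⟨b, hb⟩ = ⟨b, hb⟩ * ⟨a, ha⟩ := congrArg Subtype.val
          (hab ⟨⟨a, ha⟩, Subgroup.subset_closure ha'⟩ ⟨⟨b, hb⟩, Subgroup.subset_closure hb'⟩)
        have h2 : a * b = b * a := congrArg Subtype.val h1
        calc r * (a * b) * r⁻¹ = (r * a * r⁻¹) * (r * b * r⁻¹) := by group
          _ = (b * a)⁻¹ := by rw [ha', hb', mul_inv_rev]
          _ = (a * b)⁻¹ := by rw [h2]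
      inv_mem' := by
        rintro a ⟨ha, ha'⟩
        refine ⟨inv_mem ha, ?_⟩
        rw [show r * a⁻¹ * r⁻¹ = (r * a * r⁻¹)⁻¹ by group, ha'] }
  refine ⟨J, rfl, ?_⟩
  let φ : J →* F :=
    ((QuotientGroup.mk' ρ.ker).comp (Subgroup.inclusion (show J ≤ D from fun a ha => ha.1))).codRestrict
      F fun d => hJF _ d.2.2
  refine isCyclic_of_injective φ ((injective_iff_map_eq_one φ).2 fun d hd => ?_)
  have hd1 : (⟨d, d.2.1⟩ : D) ∈ ρ.ker :=
    (QuotientGroup.eq_one_iff _).1 (congrArg Subtype.val hd)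
  have h1 : r * (d : G) * r⁻¹ = d := congrArg Subtype.val (hfixker _ hd1)
  have h2 : (d : G) = (d : G)⁻¹ := h1.symm.trans d.2.2
  have h3 : orderOf (d : G) ∣ 2 := orderOf_dvd_of_pow_eq_one (by rw [pow_two]; nth_rw 1 [h2]; exact inv_mul_cancel _)
  refine Subtype.ext (orderOf_eq_one_iff.1 ?_)
  rcases (Nat.dvd_prime Nat.prime_two).1 h3 with e | e
  · exact e
  · exact absurd e (h.not_involution_of_two hy.symm d.2.1)

/-- The form for the induction step. -/
theorem exists_cyclic_invSet
    (hodd : ∀ X : Type u, ∀ _ : Group X, ∀ _ : Finite X, Odd (Nat.card X) → Group.IsSolvable X)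
    (hS : Step G Ω) (hcomm : ∀ s ∈ invAt G c, ∀ t ∈ invAt G c, Commute s t) (hy : y ≠ c) {r : G}
    (hr : r ∈ swaps G c y) :
    ∃ J : Subgroup G, (J : Set G) = invSet G Ω c y r ∧ IsCyclic J :=
  exists_cyclic_invSet_of_oneFix hodd hS.base hS.faith hS.four hS.concl hcomm hy hr

/-- The form with `CommAt`. -/
theorem exists_cyclic_invSet_of_commAt
    (hodd : ∀ X : Type u, ∀ _ : Group X, ∀ _ : Finite X, Odd (Nat.card X) → Group.IsSolvable X)
    (hS : Step G Ω) (hC : CommAt G Ω) (hy : y ≠ c) {r : G} (hr : r ∈ swaps G c y) :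
    ∃ J : Subgroup G, (J : Set G) = invSet G Ω c y r ∧ IsCyclic J :=
  exists_cyclic_invSet hodd hS (fun s hs t ht => hC c s hs t ht) hy hr

end CfsgLib.BenderQ
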