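import Cfsg.Agent.Lib.BenderQ.Sec
import Cfsg.Agent.Lib.BenderQ.Linear
import Cfsg.Agent.Lib.BenderComp.Base
import Cfsg.Agent.Lib.PF.OddOrder

/-!
In a proper subgroup with a four group and two given centres, the elements fixing both centres that
are inverted by a swapper inside the subgroup form a cyclic subgroup.
-/

set_option autoImplicit false
set_option linter.style.haveILetI false

namespace CfsgLib.BenderQ

open CfsgLib.Involutions CfsgLib.OddOrder CfsgLib.BenderTrans MulAction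

universe u

variable {G : Type u} [Group G] [Finite G] {Ω : Type u} [MulAction G Ω] [Finite Ω]

namespace Step

variable (hS : Step G Ω)
include hS

/-- The elements of `M` fixing two centres and inverted by a swapper in `M` form a cyclic subgroup. -/
theorem exists_sec_cyclic {M : Subgroup G} (hne : M ≠ ⊤) (h4 : FourIn M) {c y : Ω}
    (hc : c ∈ centres Ω M) (hy : y ∈ centres Ω M) (hyc : y ≠ c) {r : G} (hrM : r ∈ M)
    (hr : r ∈ swaps G c y) :
    ∃ J : Subgroup G, (J : Set G) = {d | d ∈ invSet G Ω c y r ∧ d ∈ M} ∧ IsCyclic J := by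
  classical
  have hodd : ∀ X : Type u, ∀ _ : Group X, ∀ _ : Finite X, Odd (Nat.card X) → Group.IsSolvable X :=
    fun X i i' hX => @CfsgLib.PF.oddSolvable X i i' hX
  have hMulti : Multi Ω M := ⟨c, hc, y, hy, hyc.symm⟩
  set f := sect Ω M with hf
  let c' : centres Ω M := ⟨c, hc⟩
  let y' : centres Ω M := ⟨y, hy⟩
  have hyc' : y' ≠ c' := fun e => hyc (congrArg Subtype.val e)
  have h' := hS.base.oneFix_sect hMulti
  have hfour : HasFour (Sect Ω M) := by
    obtain ⟨s, hsM, t, htM, hs, ht, hne', hcm⟩ := h4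
    exact hS.base.hasFour_sect hMulti hsM htM hs ht hne' hcm
  have hcon : Concl (Sect Ω M) (centres Ω M) :=
    concl_of_card_le _ _ _ le_rfl hodd h' (hfaith_sect M) hfour
  obtain ⟨Q, q1, q2, q3, q4, q5⟩ := hS.below M hne hMulti h4 c'
  have hQ : BenderComp.Reg2 Q c' := ⟨q1, q2, q3, q4, q5⟩
  have hcomm : ∀ s ∈ invAt (Sect Ω M) c', ∀ t ∈ invAt (Sect Ω M) c', Commute s t := fun s hs t ht =>
    (hQ.commute h' ht (hQ.mem_of_two_pow h' hs.2 (k := 1)
      (by rw [pow_one, pow_two]; exact mul_self_eq_one hs.1)))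
  obtain ⟨J', hJ', hJc⟩ := exists_cyclic_invSet_of_oneFix hodd h' (hfaith_sect M) hfour hcon hcomm hyc'
    (hS.base.sect_mem_swaps hMulti hrM (a := c') (b := y') hr)
  set S : Set M := {d | (d : G) ∈ invSet G Ω c y r} with hSdef
  -- inverted elements are products of two involutions of `M`
  have hgen : ∀ d ∈ S, (d : G) ∈ involGen M := by
    rintro d ⟨hd, hdr⟩
    have hrs : orderOf (r * d) = 2 := by
      refine orderOf_eq_two_iff_mul.2 ⟨fun e' => hyc ?_, ?_⟩
      · calc y = r • c := hr.2.symm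
          _ = r • ((d : G) • c) := by rw [(mem_two_iff.1 hd).1]
          _ = c := by rw [← mul_smul, e', one_smul]
      · calc r * d * (r * d) = (r * (d : G) * r⁻¹) * d := by
              rw [inv_eq_self_of_involution hr.1, ← mul_assoc]
          _ = 1 := by rw [hdr, inv_mul_cancel]
    have h1 : r * (r * (d : G)) = d := by rw [← mul_assoc, mul_self_eq_one hr.1, one_mul]
    rw [← h1]
    exact mul_mem (mem_involGen hrM hr.1) (mem_involGen (M.mul_mem hrM d.2) hrs)
  have hker : ∀ k : M, f k = 1 → (k : G) ∈ kerIn Ω M := fun k hk =>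
    mem_kerIn.2 ⟨k.2, sect_eq_one_iff.1 hk⟩
  have himg : ∀ d ∈ S, f d ∈ J' := by
    rintro d ⟨hd, hdr⟩
    show f d ∈ (J' : Set (Sect Ω M))
    rw [hJ']
    refine ⟨mem_two_iff.2 ⟨Subtype.ext (mem_two_iff.1 hd).1, Subtype.ext (mem_two_iff.1 hd).2⟩, ?_⟩
    rw [← map_inv f, ← map_inv f, ← map_mul, ← map_mul]
    exact congrArg f (Subtype.ext hdr)
  have hW : Subgroup.closure S ≤ J'.comap f := (Subgroup.closure_le _).2 himg
  have hWgen : ∀ d ∈ Subgroup.closure S, (d : G) ∈ involGen M := fun d hd =>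
    ((Subgroup.closure_le ((involGen M).comap M.subtype)).2 hgen) hd
  let φ : Subgroup.closure S →* J' :=
    (f.comp (Subgroup.closure S).subtype).codRestrict J' fun d => hW d.2
  have hφker : φ.ker ≤ Subgroup.center (Subgroup.closure S) := fun d hd =>
    Subgroup.mem_center_iff.2 fun e => Subtype.ext (Subtype.ext
      (hS.commute_kerIn hMulti (hWgen _ e.2)
        (hker _ (congrArg Subtype.val (MonoidHom.mem_ker.1 hd)))).eq.symm)
  haveI := φ.isMulCommutative_of_isCyclic_of_ker_le_center hφker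
  have hab : ∀ a b : Subgroup.closure S, a * b = b * a := mul_comm'
  let J : Subgroup G :=
    { carrier := {d | d ∈ invSet G Ω c y r ∧ d ∈ M}
      one_mem' := ⟨⟨one_mem _, by simp⟩, one_mem _⟩
      mul_mem' := by
        rintro a b ⟨⟨ha, ha'⟩, haM⟩ ⟨⟨hb, hb'⟩, hbM⟩
        refine ⟨⟨mul_mem ha hb, ?_⟩, mul_mem haM hbM⟩
        have h2 : a * b = b * a := congrArg (fun w : Subgroup.closure S => ((w : M) : G))
          (hab ⟨⟨a, haM⟩, Subgroup.subset_closure ⟨ha, ha'⟩⟩
            ⟨⟨b, hbM⟩, Subgroup.subset_closure ⟨hb, hb'⟩⟩)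
        calc r * (a * b) * r⁻¹ = (r * a * r⁻¹) * (r * b * r⁻¹) := by group
          _ = (b * a)⁻¹ := by rw [ha', hb', mul_inv_rev]
          _ = (a * b)⁻¹ := by rw [h2]
      inv_mem' := by
        rintro a ⟨⟨ha, ha'⟩, haM⟩
        refine ⟨⟨inv_mem ha, ?_⟩, inv_mem haM⟩
        rw [show r * a⁻¹ * r⁻¹ = (r * a * r⁻¹)⁻¹ by group, ha'] }
  refine ⟨J, rfl, ?_⟩
  let ψ : J →* J' := (f.comp (Subgroup.inclusion (show J ≤ M from fun a ha => ha.2))).codRestrict J'
    fun d => himg _ d.2.1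
  refine isCyclic_of_injective ψ ((injective_iff_map_eq_one ψ).2 fun d hd => ?_)
  have hk : (d : G) ∈ kerIn Ω M := hker ⟨d, d.2.2⟩ (congrArg Subtype.val hd)
  have h1 : r * (d : G) * r⁻¹ = d := by
    rw [← (hS.commute_kerIn hMulti (mem_involGen hrM hr.1) hk).eq, mul_inv_cancel_right]
  have h2 : (d : G) = (d : G)⁻¹ := h1.symm.trans d.2.1.2
  have h3 : orderOf (d : G) ∣ 2 := orderOf_dvd_of_pow_eq_one (by
    rw [pow_two]; nth_rw 1 [h2]; exact inv_mul_cancel _)
  refine Subtype.ext (orderOf_eq_one_iff.1 ?_)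
  rcases (Nat.dvd_prime Nat.prime_two).1 h3 with e | e
  · exact e
  · exact absurd e (hS.base.not_involution_of_two hyc.symm d.2.1.1)

end Step

end CfsgLib.BenderQ
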