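import Cfsg.Agent.Lib.BenderQ.Core
import Cfsg.Agent.Lib.BenderQ.Residual.CommAtStep

/-!
Bender's theorem on the regular normal 2-subgroup of a point stabiliser.
-/

set_option autoImplicit false

namespace CfsgLib.BenderQ

universe u

/-- **Bender's theorem**: every faithful action with a four group in which each involution fixes exactly one point
has a regular normal 2-subgroup in each point stabiliser. -/
theorem benderKernel : BenderKernel.{u} :=
  benderKernel_of_commAt fun _ _ _ _ _ _ S =>
    Residual.commAt_of_step S fun X i i' h => @CfsgLib.PF.oddSolvable X i i' h

end CfsgLib.BenderQ
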