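import Mathlib

/-!
Congruences between small integers modulo `2 ^ q - 1`.
-/

set_option autoImplicit false

namespace CfsgLib.BenderQ.SingerArith

theorem two_pow_lower {q : ℕ} (h : 7 ≤ q) : 11 * q + 4 ≤ 2 ^ q := by
  induction q, h using Nat.le_induction with
  | base => norm_num
  | succ n hn ih => rw [pow_succ]; omega

theorem eq_zero_of_small {m x : ℤ} (h : m ∣ x) (h1 : -m < x) (h2 : x < m) : x = 0 :=
  Int.eq_zero_of_abs_lt_dvd h (abs_lt.2 ⟨h1, h2⟩)

/-- The value of a non-exceptional constituent. -/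
theorem rest_eq {q f m K : ℕ} {b : ℤ} (hm : m + 1 = 2 ^ q) (hq : q = 3 ∨ q = 5 ∨ 7 ≤ q)
    (hf : f = 1 ∨ f = q) (hne : ¬ (q = 3 ∧ f = 3)) (hK : K * K < m * f) (hb : b * b ≤ (m : ℤ))
    (hd : (m : ℤ) ∣ 2 * (K : ℤ) - b) : b = 2 * K := by
  suffices h : -(m : ℤ) < 2 * (K : ℤ) - b ∧ 2 * (K : ℤ) - b < m by
    have := eq_zero_of_small hd h.1 h.2
    linarith
  rcases hq with rfl | rfl | h7
  · obtain rfl : f = 1 := by omega
    obtain rfl : m = 7 := by norm_num at hm; omega
    push_cast at hb hd ⊢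
    have hK' : K ≤ 2 := by nlinarith
    have hb1 : b ≤ 2 := by nlinarith
    have hb2 : -2 ≤ b := by nlinarith
    omega
  · obtain rfl : m = 31 := by norm_num at hm; omega
    push_cast at hb hd ⊢
    have hf5 : f ≤ 5 := by omega
    have hK' : K ≤ 12 := by nlinarith
    have hb1 : b ≤ 5 := by nlinarith
    have hb2 : -5 ≤ b := by nlinarith
    omega
  · have hp := two_pow_lower h7
    rw [← hm] at hp
    have hfq : f ≤ q := by omega
    have hmf : m * f ≤ m * q := Nat.mul_le_mul_left m hfq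
    have hKK : (K : ℤ) * K < (m : ℤ) * q := by exact_mod_cast hK.trans_le hmf
    have hm8 : (8 : ℤ) * q + 3 ≤ m := by omega
    have hsq : (2 * (K : ℤ) - b) ^ 2 < (m : ℤ) ^ 2 := by
      nlinarith [sq_nonneg (2 * (K : ℤ) + b)]
    exact abs_lt.1 (by rwa [sq_lt_sq, Nat.abs_cast] at hsq)

/-- The value of the exceptional constituents. -/
theorem exc_eq {q f m s K : ℕ} {e ε : ℤ} (hm : m + 1 = 2 ^ q) (hq : q = 3 ∨ q = 5 ∨ 7 ≤ q)
    (hf : f = 1 ∨ f = q) (hne : ¬ (q = 3 ∧ f = 3)) (hs : 2 * f * s + 1 = m)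
    (hK : s * (K * K) < m * f) (hε : ε = 1 ∨ ε = -1)
    (he : ((s : ℤ) * e - ε) * ((s : ℤ) * e - ε) ≤ (s : ℤ) * m)
    (hd : (m : ℤ) ∣ 2 * (K : ℤ) - e - 2 * f * ε) : e = 2 * K - 2 * f * ε := by
  suffices h : -(m : ℤ) < 2 * (K : ℤ) - e - 2 * f * ε ∧ 2 * (K : ℤ) - e - 2 * f * ε < m by
    have := eq_zero_of_small hd h.1 h.2
    linarith
  rcases hq with rfl | rfl | h7
  · obtain rfl : f = 1 := by omega
    obtain rfl : m = 7 := by norm_num at hm; omega
    obtain rfl : s = 3 := by omega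
    have hK' : K ≤ 1 := by nlinarith
    push_cast at he
    have he1 : e ≤ 2 := by rcases hε with rfl | rfl <;> nlinarith
    have he2 : -2 ≤ e := by rcases hε with rfl | rfl <;> nlinarith
    rcases hε with rfl | rfl <;> push_cast <;> omega
  · obtain rfl : m = 31 := by norm_num at hm; omega
    rcases hf with rfl | rfl
    · obtain rfl : s = 15 := by omega
      have hK' : K ≤ 1 := by nlinarith
      push_cast at he
      have he1 : e ≤ 2 := by rcases hε with rfl | rfl <;> nlinarith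
      have he2 : -2 ≤ e := by rcases hε with rfl | rfl <;> nlinarith
      rcases hε with rfl | rfl <;> push_cast <;> omega
    · obtain rfl : s = 3 := by omega
      have hK' : K ≤ 7 := by nlinarith
      push_cast at he
      have he1 : e ≤ 3 := by rcases hε with rfl | rfl <;> nlinarith
      have he2 : -3 ≤ e := by rcases hε with rfl | rfl <;> nlinarith
      rcases hε with rfl | rfl <;> push_cast <;> omega
  · have hp := two_pow_lower h7
    rw [← hm] at hp
    have hfq : f ≤ q := by omega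
    have hf1 : 1 ≤ f := by omega
    have hs1 : 1 ≤ s := by
      rcases Nat.eq_zero_or_pos s with rfl | h
      · omega
      · exact h
    have hK' : K < 2 * f := by
      by_contra hc
      push Not at hc
      have h4 : 4 * (f * f) * s ≤ s * (K * K) := by
        have : 2 * f * (2 * f) ≤ K * K := Nat.mul_le_mul hc hc
        nlinarith
      have : 4 * (f * f) * s < m * f := lt_of_le_of_lt h4 hK
      have h5 : f * (4 * f * s) < f * m := by linarith
      have := Nat.lt_of_mul_lt_mul_left h5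
      nlinarith
    have hsZ : (2 : ℤ) * f * s + 1 = m := by exact_mod_cast hs
    have hεsq : ε * ε = 1 := by rcases hε with rfl | rfl <;> norm_num
    have he' : (s : ℤ) * s * (e * e) ≤ 2 * (s * m) + 2 := by
      nlinarith [sq_nonneg ((s : ℤ) * e - 2 * ε)]
    have heq : e * e < 5 * (q : ℤ) * (5 * q) := by
      by_contra hc
      push Not at hc
      have hsZ1 : (1 : ℤ) ≤ s := by exact_mod_cast hs1
      have hfZ : (f : ℤ) ≤ q := by exact_mod_cast hfq
      have hf1Z : (1 : ℤ) ≤ f := by exact_mod_cast hf1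
      have h1 : (s : ℤ) * s * (25 * (q * q)) ≤ 2 * (s * (2 * f * s + 1)) + 2 := by
        rw [hsZ]
        exact le_trans (mul_le_mul_of_nonneg_left (by linarith) (by positivity)) he'
      have h2 : (s : ℤ) * (2 * (s * (f : ℤ))) ≤ s * (2 * (s * (q : ℤ))) :=
        mul_le_mul_of_nonneg_left (by nlinarith) (by positivity)
      have hq7 : (7 : ℤ) ≤ q := by exact_mod_cast h7
      nlinarith [mul_le_mul_of_nonneg_left hq7 (show (0 : ℤ) ≤ s * s * q by positivity),
        mul_le_mul hsZ1 hsZ1 zero_le_one (by positivity : (0 : ℤ) ≤ s)]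
    have he3 : |e| < 5 * (q : ℤ) := by
      rw [← sq, ← sq, sq_lt_sq] at heq
      rwa [abs_of_nonneg (by positivity : (0 : ℤ) ≤ 5 * (q : ℤ))] at heq
    obtain ⟨he4, he5⟩ := abs_lt.1 he3
    have hKZ : (K : ℤ) < 2 * f := by exact_mod_cast hK'
    have hfZ : (f : ℤ) ≤ q := by exact_mod_cast hfq
    rcases hε with rfl | rfl <;> omega

/-- The small case. -/
theorem small_val {K : ℕ} {b : ℤ} (hK : K * K < 21) (hK1 : 1 ≤ K) (hb : b * b ≤ 7)
    (hd : (7 : ℤ) ∣ 2 * (K : ℤ) - b) :
    7 + 2 * (2 * (K : ℤ) - b) ≤ 7 * K := by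
  have hK' : K ≤ 4 := by nlinarith
  have hb1 : b ≤ 2 := by nlinarith
  have hb2 : -2 ≤ b := by nlinarith
  interval_cases K <;> interval_cases b <;> omega

end CfsgLib.BenderQ.SingerArith
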