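import Cfsg.Agent.Lib.BenderQ.SingerExceptional
import Cfsg.Agent.Lib.BenderQ.SingerArith

/-!
No element of the point stabiliser interchanges two involutions at the point in the Singer
configuration.
-/

set_option autoImplicit false
set_option linter.unusedSectionVars false

noncomputable section

namespace CfsgLib.BenderQ

open CfsgLib.BenderTrans CfsgLib.Involutions MulAction Cfsg CfsgLib.Characters CfsgLib.FrobKernelChar
open scoped ComplexConjugate Classical

universe u v

variable {G : Type u} [Group G] {Ω : Type v} [MulAction G Ω]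

namespace Singer

variable {c y : Ω} {q f : ℕ} {A : Subgroup G} {r : G} (S : Singer G c y q f A r)
include S

variable [Finite Ω]

section Fin

variable [Fintype G]

theorem sum_normSq {a : G} (ha : a ∈ A) (ha1 : a ≠ 1) :
    ∑ ψ : IrrCharacter G, Complex.normSq ((ψ : G → ℂ) a) = ((invAt G c).ncard : ℝ) := by
  have hC : Subgroup.centralizer ({a} : Set G) = A :=
    le_antisymm (S.cent a ha ha1) fun b hb =>
      Subgroup.mem_centralizer_singleton_iff.2 (S.abelian b hb a ha)
  have h := column_orth a a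
  rw [if_pos (IsConj.refl a), hC, S.card_A, Finset.sum_congr rfl fun ψ _ => Complex.mul_conj _] at h
  exact_mod_cast h

theorem two_le_orbits {u w : G} (hu : u ∈ invAt G c) (hw : w ∈ invAt G c) (hne : u ≠ w) :
    2 ≤ Nat.card (Quotient (orbitRel (stabilizer G c) (invAt G c × invAt G c))) := by
  refine Nat.succ_le_of_lt (Finite.one_lt_card_iff_nontrivial.2
    ⟨Quotient.mk _ (⟨u, hu⟩, ⟨u, hu⟩), Quotient.mk _ (⟨u, hu⟩, ⟨w, hw⟩), fun e => hne ?_⟩)
  obtain ⟨g, hg⟩ := orbitRel_apply.mp (Quotient.exact e)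
  exact congrArg Subtype.val
    (smul_left_cancel g ((congrArg Prod.fst hg).trans (congrArg Prod.snd hg).symm))

theorem no_swap_fintype {g u w : G} (hg : g • c = c) (hu : u ∈ invAt G c) (hw : w ∈ invAt G c)
    (hne : u ≠ w) (h1 : g * u * g⁻¹ = w) (h2 : g * w * g⁻¹ = u) : False := by
  set m := (invAt G c).ncard with hm
  set n := Nat.card Ω with hn
  set R := Nat.card (Quotient (orbitRel (stabilizer G c) (invAt G c × invAt G c))) with hR
  have hRf : R * f < m := S.card_orbits_mul_le hg hu hw hne h1 h2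
  have hR2 : 2 ≤ R := S.two_le_orbits hu hw hne
  have hm7 : 7 ≤ m := S.seven_le
  have hn2 : 2 ≤ n := S.exists_three
  have hn0 : (n : ℂ) ≠ 0 := Nat.cast_ne_zero.2 (by omega)
  have hf := S.f_pos
  obtain ⟨v, hv⟩ := S.oneFix.exists_invAt c
  obtain ⟨ε, F, b, hε, hF, hdeg, hbF, hcF, hval, hcong⟩ := S.exists_values
  have hcard_rel := S.card_rel
  set s := (relSet (Subgroup.subgroupOf A (Subgroup.normalizer (A : Set G)))).card with hs
  have hscard : (Finset.univ : Finset {χ : IrrCharacter (Subgroup.normalizer (A : Set G)) //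
      χ ∈ relSet (Subgroup.subgroupOf A (Subgroup.normalizer (A : Set G)))}).card = s := by
    rw [Finset.card_univ, hs]; exact Fintype.card_coe _
  obtain ⟨i₀⟩ : Nonempty {χ : IrrCharacter (Subgroup.normalizer (A : Set G)) //
      χ ∈ relSet (Subgroup.subgroupOf A (Subgroup.normalizer (A : Set G)))} := by
    refine Fintype.card_pos_iff.1 ?_
    rw [← Finset.card_univ, hscard]
    rcases Nat.eq_zero_or_pos s with h | h
    · rw [← hm, h] at hcard_rel; omega
    · exact h
  -- coefficients, degrees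
  choose cN hcN using fun ψ : IrrCharacter G =>
    classInner_char_nat S.isCharacter_phi (irr_isCharacter ψ)
  choose D hD hD0 _ using fun ψ : IrrCharacter G => irr_degree_dvd_card ψ
  have hK : ∀ ψ : IrrCharacter G, ∃ K : ℕ, cN ψ ≠ 0 → D ψ = n * K := by
    intro ψ
    by_cases h0 : cN ψ = 0
    · exact ⟨0, fun h => absurd h0 h⟩
    have h := S.apply_inv_of_constituent hv (χ := ψ) (by rw [hcN]; exact_mod_cast h0)
    rw [hD, ← hn] at h
    have hq : (ψ : G → ℂ) v = ((((D ψ : ℕ) : ℚ) / (n : ℚ) : ℚ) : ℂ) := by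
      push_cast
      rw [eq_div_iff hn0, h, mul_comm]
    obtain ⟨z, hz⟩ := exists_int_of_isIntegral_rat (hq ▸ isIntegral_of_isCharacter (irr_isCharacter ψ) v)
    have hz' : (ψ : G → ℂ) v = (z : ℂ) := by rw [hq, ← hz]; simp
    rw [hz'] at h
    have h' : (D ψ : ℤ) = (n : ℤ) * z := by exact_mod_cast h
    have hz0 : 0 ≤ z := by
      by_contra hc
      have : (n : ℤ) * z < 0 := mul_neg_of_pos_of_neg (by omega) (by omega)
      omega
    refine ⟨z.toNat, fun _ => ?_⟩
    have : (D ψ : ℤ) = ((n * z.toNat : ℕ) : ℤ) := by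
      rw [Nat.cast_mul, Int.toNat_of_nonneg hz0, h']
    exact_mod_cast this
  choose K hK using hK
  have hK1 : ∀ ψ, cN ψ ≠ 0 → 1 ≤ K ψ := by
    intro ψ h
    by_contra hc
    have := hD0 ψ
    rw [hK ψ h, show K ψ = 0 by omega, mul_zero] at this
    omega
  have hexp : ∀ x : G, phi G c x = ∑ ψ : IrrCharacter G, (cN ψ : ℂ) * (ψ : G → ℂ) x := by
    intro x
    conv_lhs => rw [classFunction_eq_sum S.isClassFunction_phi]
    simp only [Finset.sum_apply, Pi.smul_apply, smul_eq_mul, hcN]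
  -- degree sum
  have hS1 : ∑ ψ, cN ψ * K ψ + 1 = m := by
    have h := hexp 1
    rw [S.phi_one, ← hn, ← hm, Finset.sum_congr rfl (g := fun ψ => (n : ℂ) * ((cN ψ * K ψ : ℕ) : ℂ))
      (fun ψ _ => ?_), ← Finset.mul_sum, ← Nat.cast_sum] at h
    · have h' := mul_left_cancel₀ hn0 h
      rw [sub_eq_iff_eq_add] at h'
      exact_mod_cast h'.symm
    · by_cases h0 : cN ψ = 0
      · simp [h0]
      · rw [hD, hK ψ h0]; push_cast; ring
  -- the value at an element of `A`
  obtain ⟨a, ha, ha1⟩ := S.exists_ne_one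
  set k : Subgroup.normalizer (A : Set G) := ⟨a, Subgroup.le_normalizer ha⟩ with hk
  have hk' : k ∈ Subgroup.subgroupOf A (Subgroup.normalizer (A : Set G)) := ha
  have hk1 : k ≠ 1 := fun e => ha1 (congrArg Subtype.val e)
  set c0 := cN (F i₀) with hc0
  have hcF' : ∀ i, cN (F i) = c0 := fun i => by
    have h := hcF i i₀
    rw [hcN, hcN] at h
    exact_mod_cast h
  have hsum1 : ∑ i : {χ : IrrCharacter (Subgroup.normalizer (A : Set G)) //
      χ ∈ relSet (Subgroup.subgroupOf A (Subgroup.normalizer (A : Set G)))},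
      (i.1 : Subgroup.normalizer (A : Set G) → ℂ) k = -1 := by
    rw [← S.sum_rel hk' hk1, ← Finset.sum_attach (relSet _), Finset.attach_eq_univ]
  have hS2 : ∑ ψ, (cN ψ : ℤ) * b ψ = ε * c0 - 2 := by
    have h := hexp a
    rw [S.phi_A ha ha1, Finset.sum_congr rfl fun ψ _ => by rw [show a = (k : G) from rfl, hval ψ k hk' hk1],
      Finset.sum_congr rfl (fun ψ _ => mul_add _ _ _), Finset.sum_add_distrib] at h
    have hX : ∑ ψ, (cN ψ : ℂ) * ((ε : ℂ) * ∑ i, (if ψ = F i then
        (i.1 : Subgroup.normalizer (A : Set G) → ℂ) k else 0)) = -((ε : ℂ) * c0) := by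
      simp only [Finset.mul_sum]
      rw [Finset.sum_comm, Finset.sum_congr rfl (g := fun i => (ε : ℂ) * c0 *
        (i.1 : Subgroup.normalizer (A : Set G) → ℂ) k) (fun i _ => ?_), ← Finset.mul_sum, hsum1]
      · ring
      · rw [Finset.sum_eq_single (F i) (fun ψ _ hψ => by rw [if_neg hψ, mul_zero, mul_zero])
          (fun h => absurd (Finset.mem_univ _) h), if_pos rfl, hcF']
        ring
    rw [hX] at h
    have h' : ((∑ ψ, (cN ψ : ℤ) * b ψ : ℤ) : ℂ) = ((ε * c0 - 2 : ℤ) : ℂ) := by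
      push_cast
      linear_combination -h
    exact_mod_cast h'
  -- the norm
  have hnorm : f * ∑ ψ, cN ψ * cN ψ + f + 1 = f * R + m := by
    have h := S.norm_phi
    rw [classInner_self_eq_sum_sq S.isClassFunction_phi (m := fun ψ => (cN ψ : ℤ))
      (fun ψ => by rw [hcN]; simp), ← hR, ← hm] at h
    have hf0 : (f : ℂ) ≠ 0 := Nat.cast_ne_zero.2 hf.ne'
    push_cast at h
    field_simp at h
    have h' : ((f * ∑ ψ, cN ψ * cN ψ + f + 1 : ℕ) : ℂ) = ((f * R + m : ℕ) : ℂ) := by
      push_cast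
      simp only [← sq]
      linear_combination h
    exact_mod_cast h'
  -- bounds
  obtain ⟨l, hl⟩ := S.card_points
  rw [← hn, ← hm] at hl
  have hdegsq : ∀ T : Finset (IrrCharacter G), ∑ ψ ∈ T, D ψ * D ψ ≤ n * ((n - 1) * (m * f)) := by
    intro T
    refine (Finset.sum_le_sum_of_subset (Finset.subset_univ T)).trans (le_of_eq ?_)
    have h := sum_sq_degrees (G := G)
    simp only [hD, sq] at h
    rw [S.card_group, S.card_stabilizer, S.card_two, ← hn, ← hm] at h
    exact_mod_cast h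
  have hbound : ∀ {M : ℕ}, n * n * M ≤ n * ((n - 1) * (m * f)) → M < m * f := by
    intro M h
    by_contra hc
    push Not at hc
    have h1 : n * n * (m * f) ≤ n * ((n - 1) * (m * f)) := (Nat.mul_le_mul_left _ hc).trans h
    have h2 : n * ((n - 1) * (m * f)) < n * n * (m * f) := by
      rw [← mul_assoc]
      exact Nat.mul_lt_mul_of_pos_right (Nat.mul_lt_mul_of_pos_left (by omega) (by omega))
        (Nat.mul_pos (by omega) hf)
    omega
  have hKsq : ∀ ψ, cN ψ ≠ 0 → K ψ * K ψ < m * f := fun ψ h => by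
    refine hbound ?_
    have := hdegsq {ψ}
    rw [Finset.sum_singleton, hK ψ h] at this
    linarith
  have hcol := S.sum_normSq ha ha1
  rw [← hm] at hcol
  have hdiv : ∀ ψ, cN ψ ≠ 0 →
      (m : ℤ) ∣ 2 * (K ψ : ℤ) - b ψ - 2 * f * ε * (∑ i, if ψ = F i then 1 else 0) := by
    intro ψ h
    have hc := hcong ψ (D ψ) (hD ψ)
    rw [← hm] at hc
    have e : (2 * (K ψ : ℤ) - b ψ - 2 * f * ε * (∑ i, if ψ = F i then (1 : ℤ) else 0)) =
        ((D ψ : ℤ) - b ψ - 2 * f * ε * (∑ i, if ψ = F i then (1 : ℤ) else 0)) - (m : ℤ) * (l * K ψ) := by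
      rw [hK ψ h, hl]; push_cast; ring
    rw [e]
    exact dvd_sub hc (Dvd.intro _ rfl)
  by_cases hsmall : q = 3 ∧ f = 3
  · -- `q = f = 3`
    obtain ⟨hq3, hf3⟩ := hsmall
    have hcard_inv := S.card_inv
    rw [← hm, hq3] at hcard_inv
    have hm7' : m = 7 := by norm_num at hcard_inv; omega
    clear_value m
    subst hm7'
    have hs1 : s = 1 := by rw [← hm, hf3] at hcard_rel; omega
    have huniv : ∀ i, i = i₀ := fun i =>
      Finset.card_le_one.1 (by rw [hscard, hs1]) i (Finset.mem_univ _) i₀ (Finset.mem_univ _)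
    let d : IrrCharacter G → ℤ := fun ψ => if ψ = F i₀ then 1 else 0
    have hd : ∀ ψ, (∑ i, if ψ = F i then (1 : ℤ) else 0) = d ψ := fun ψ =>
      Fintype.sum_eq_single i₀ fun i hi => absurd (huniv i) hi
    have hχ : (i₀.1 : Subgroup.normalizer (A : Set G) → ℂ) k = -1 := by
      rw [← hsum1]
      exact Eq.symm (Fintype.sum_eq_single i₀ fun i hi => absurd (huniv i) hi)
    have hv' : ∀ ψ : IrrCharacter G, (ψ : G → ℂ) a = ((b ψ - ε * d ψ : ℤ) : ℂ) := by
      intro ψ
      rw [show a = (k : G) from rfl, hval ψ k hk' hk1,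
        Fintype.sum_eq_single i₀ fun i hi => absurd (huniv i) hi, hχ]
      simp only [d]
      split_ifs <;> push_cast <;> ring
    have hb7 : ∀ ψ, (b ψ - ε * d ψ) * (b ψ - ε * d ψ) ≤ (7 : ℤ) := by
      intro ψ
      have h := Finset.single_le_sum (f := fun η : IrrCharacter G => Complex.normSq ((η : G → ℂ) a))
        (fun η _ => Complex.normSq_nonneg _) (Finset.mem_univ ψ)
      rw [hcol, hv', ← Complex.ofReal_intCast, Complex.normSq_ofReal] at h
      exact_mod_cast h
    have hterm : ∀ ψ, (cN ψ : ℤ) * (7 + 2 * (2 * (K ψ : ℤ) - (b ψ - ε * d ψ))) ≤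
        (cN ψ : ℤ) * (7 * K ψ) := by
      intro ψ
      by_cases h0 : cN ψ = 0
      · simp [h0]
      refine mul_le_mul_of_nonneg_left (SingerArith.small_val ?_ (hK1 ψ h0) (hb7 ψ) ?_) (Int.natCast_nonneg _)
      · have := hKsq ψ h0; rw [hf3] at this; linarith
      · have h := hdiv ψ h0
        rw [hd, hf3] at h
        push_cast at h
        have e : 2 * (K ψ : ℤ) - (b ψ - ε * d ψ) =
            (2 * (K ψ : ℤ) - b ψ - 2 * 3 * ε * d ψ) + 7 * (ε * d ψ) := by ring
        rw [e]
        exact dvd_add h (Dvd.intro _ rfl)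
    have hsumd : ∑ ψ, (cN ψ : ℤ) * d ψ = c0 := by
      rw [Fintype.sum_eq_single (F i₀) fun ψ hψ => by simp [d, hψ]]
      simp [d, hc0]
    have htot := Finset.sum_le_sum (s := Finset.univ) fun ψ _ => hterm ψ
    have e1 : ∑ ψ, (cN ψ : ℤ) * (7 + 2 * (2 * (K ψ : ℤ) - (b ψ - ε * d ψ))) =
        7 * ∑ ψ, (cN ψ : ℤ) + 4 * ∑ ψ, (cN ψ : ℤ) * K ψ - 2 * ∑ ψ, (cN ψ : ℤ) * b ψ +
          2 * ε * ∑ ψ, (cN ψ : ℤ) * d ψ := by
      simp only [Finset.mul_sum, ← Finset.sum_add_distrib, ← Finset.sum_sub_distrib]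
      exact Finset.sum_congr rfl fun ψ _ => by ring
    have e2 : ∑ ψ, (cN ψ : ℤ) * (7 * K ψ) = 7 * ∑ ψ, (cN ψ : ℤ) * K ψ := by
      rw [Finset.mul_sum]
      exact Finset.sum_congr rfl fun ψ _ => by ring
    rw [e1, e2, hS2, hsumd] at htot
    have hS1' : ∑ ψ, (cN ψ : ℤ) * K ψ = 6 := by
      have : ∑ ψ, cN ψ * K ψ = 6 := by omega
      exact_mod_cast this
    rw [hS1'] at htot
    have hc2 : ∑ ψ, cN ψ ≤ 2 := by
      have : ∑ ψ, (cN ψ : ℤ) ≤ 2 := by linarith
      exact_mod_cast this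
    have hsq3 : ∑ ψ, cN ψ * cN ψ = 3 := by
      rw [hf3] at hnorm hRf
      omega
    have hsumsq : ∑ ψ, cN ψ * cN ψ ≤ (∑ ψ, cN ψ) * (∑ ψ, cN ψ) := by
      rw [Finset.sum_mul]
      exact Finset.sum_le_sum fun ψ _ => Nat.mul_le_mul_left _
        (Finset.single_le_sum (fun _ _ => Nat.zero_le _) (Finset.mem_univ ψ))
    have hpar : (∑ ψ, cN ψ * cN ψ) % 2 = (∑ ψ, cN ψ) % 2 := by
      rw [Finset.sum_nat_mod]
      conv_rhs => rw [Finset.sum_nat_mod]
      congr 1
      refine Finset.sum_congr rfl fun ψ _ => ?_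
      rcases Nat.mod_two_eq_zero_or_one (cN ψ) with h | h <;> simp [Nat.mul_mod, h]
    rw [hsq3] at hsumsq hpar
    interval_cases hh : ∑ ψ, cN ψ <;> omega
  -- the general case
  have hq7 : q = 3 ∨ q = 5 ∨ 7 ≤ q := by
    rcases S.five_le_or with h | h
    · exact Or.inl h
    · have h6 : q ≠ 6 := fun e => by have := S.prime; rw [e] at this; norm_num at this
      omega
  let d : IrrCharacter G → ℤ := fun ψ => ∑ i, if ψ = F i then 1 else 0
  have hkey : ∀ ψ, (cN ψ : ℤ) * b ψ =
      2 * ((cN ψ : ℤ) * K ψ) - 2 * f * ε * ((cN ψ : ℤ) * d ψ) := by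
    intro ψ
    by_cases h0 : cN ψ = 0
    · simp [h0]
    suffices h : b ψ = 2 * K ψ - 2 * f * ε * d ψ by rw [h]; ring
    by_cases hexc : ∃ i, ψ = F i
    · obtain ⟨i, rfl⟩ := hexc
      have hd1 : d (F i) = 1 := by
        simp only [d]
        rw [Fintype.sum_eq_single i fun j hj => if_neg fun e => hj (hF e).symm, if_pos rfl]
      rw [hd1, mul_one]
      have hdv := hdiv (F i) h0
      rw [show (∑ j, if F i = F j then (1 : ℤ) else 0) = 1 from hd1, mul_one] at hdv
      refine SingerArith.exc_eq S.card_inv hq7 S.f_cases hsmall (s := s) hcard_rel ?_ hε ?_ hdv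
      · refine hbound ?_
        have hT := hdegsq (Finset.univ.image F)
        rw [Finset.sum_image fun x _ z _ e => hF e,
          Finset.sum_congr rfl (g := fun _ => n * K (F i) * (n * K (F i))) (fun j _ => by
            have : D (F j) = D (F i) := by
              have h := hdeg j i; rw [hD, hD] at h; exact_mod_cast h
            rw [this, hK _ h0]), Finset.sum_const, hscard, smul_eq_mul] at hT
        linarith
      · have hre : (∑ j, ((F j : G → ℂ) a)).re = ((s : ℝ) * b (F i) - ε) := by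
          have hj : ∀ j, (F j : G → ℂ) a = (b (F i) : ℂ) +
              (ε : ℂ) * (j.1 : Subgroup.normalizer (A : Set G) → ℂ) k := fun j => by
            rw [show a = (k : G) from rfl, hval _ k hk' hk1, hbF j i,
              Fintype.sum_eq_single j fun j' hj' => if_neg fun e => hj' (hF e).symm, if_pos rfl]
          rw [Finset.sum_congr rfl fun j _ => hj j, Finset.sum_add_distrib, ← Finset.mul_sum, hsum1,
            Finset.sum_const, hscard, nsmul_eq_mul]
          simp
          ring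
        have h1 : (∑ j, ((F j : G → ℂ) a).re) ^ 2 ≤ (s : ℝ) * ∑ j, Complex.normSq ((F j : G → ℂ) a) := by
          refine (sq_sum_le_card_mul_sum_sq).trans ?_
          rw [hscard]
          refine mul_le_mul_of_nonneg_left (Finset.sum_le_sum fun j _ => ?_) (Nat.cast_nonneg _)
          rw [Complex.normSq_apply, sq]
          nlinarith [mul_self_nonneg ((F j : G → ℂ) a).im]
        have h2 : ∑ j, Complex.normSq ((F j : G → ℂ) a) ≤ (m : ℝ) := by
          rw [← hcol, ← Finset.sum_image (f := fun ψ : IrrCharacter G => Complex.normSq ((ψ : G → ℂ) a))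
            fun x _ z _ e => hF e]
          exact Finset.sum_le_sum_of_subset_of_nonneg (Finset.subset_univ _) fun _ _ _ => Complex.normSq_nonneg _
        rw [← Complex.re_sum, hre] at h1
        have h3 := h1.trans (mul_le_mul_of_nonneg_left h2 (Nat.cast_nonneg s))
        have h4 : ((((s : ℤ) * b (F i) - ε) * ((s : ℤ) * b (F i) - ε) : ℤ) : ℝ) ≤
            (((s : ℤ) * (m : ℤ) : ℤ) : ℝ) := by
          push_cast
          linarith [sq ((s : ℝ) * b (F i) - ε)]
        exact_mod_cast h4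
    · have hd0 : d ψ = 0 := Finset.sum_eq_zero fun i _ => if_neg fun e => hexc ⟨i, e⟩
      rw [hd0, mul_zero, sub_zero]
      have hdv := hdiv ψ h0
      rw [show (∑ j, if ψ = F j then (1 : ℤ) else 0) = 0 from hd0, mul_zero, sub_zero] at hdv
      refine SingerArith.rest_eq S.card_inv hq7 S.f_cases hsmall (hKsq ψ h0) ?_ hdv
      have h := Finset.single_le_sum (f := fun η : IrrCharacter G => Complex.normSq ((η : G → ℂ) a))
        (fun η _ => Complex.normSq_nonneg _) (Finset.mem_univ ψ)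
      have hv0 : (ψ : G → ℂ) a = (b ψ : ℂ) := by
        rw [show a = (k : G) from rfl, hval ψ k hk' hk1,
          Finset.sum_eq_zero fun i _ => if_neg fun e => hexc ⟨i, e⟩, mul_zero, add_zero]
      rw [hcol, hv0, ← Complex.ofReal_intCast, Complex.normSq_ofReal] at h
      exact_mod_cast h
  have hsumd : ∑ ψ, (cN ψ : ℤ) * d ψ = (s : ℤ) * c0 := by
    simp only [d, Finset.mul_sum, mul_ite, mul_one, mul_zero]
    rw [Finset.sum_comm, Finset.sum_congr rfl (g := fun _ => (c0 : ℤ)) (fun i _ => by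
      rw [Fintype.sum_eq_single (F i) fun ψ hψ => if_neg hψ, if_pos rfl, hcF']),
      Finset.sum_const, hscard, nsmul_eq_mul]
  have hS1' : ∑ ψ, (cN ψ : ℤ) * K ψ + 1 = (m : ℤ) := by exact_mod_cast hS1
  have htot := hS2
  rw [Finset.sum_congr rfl fun ψ _ => hkey ψ, Finset.sum_sub_distrib, ← Finset.mul_sum,
    ← Finset.mul_sum, hsumd] at htot
  have hcardZ : 2 * (f : ℤ) * s + 1 = m := by exact_mod_cast hcard_rel
  have hc02 : ε * (c0 : ℤ) = 2 := by
    have h : (m : ℤ) * (ε * c0) = (m : ℤ) * 2 := by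
      linear_combination -htot + 2 * hS1' - (ε * (c0 : ℤ)) * hcardZ
    exact mul_left_cancel₀ (by omega) h
  have hc0' : c0 = 2 := by rcases hε with rfl | rfl <;> omega
  have hle : 4 * s ≤ ∑ ψ, cN ψ * cN ψ := by
    refine le_trans (le_of_eq ?_) (Finset.sum_le_sum_of_subset (Finset.subset_univ (Finset.univ.image F)))
    rw [Finset.sum_image fun x _ z _ e => hF e, Finset.sum_congr rfl (g := fun _ => 4) (fun i _ => by
      rw [hcF', hc0']), Finset.sum_const, hscard, smul_eq_mul, mul_comm]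
  have hfle : f * (4 * s) ≤ f * ∑ ψ, cN ψ * cN ψ := Nat.mul_le_mul_left f hle
  have hRf' : f * R < m := by rwa [mul_comm]
  rw [← hm] at hcard_rel
  linarith

end Fin

variable [Finite G]

/-- No element of the point stabiliser interchanges two involutions at the point. -/
theorem no_swap {g u w : G} (hg : g • c = c) (hu : u ∈ invAt G c) (hw : w ∈ invAt G c)
    (hne : u ≠ w) (h1 : g * u * g⁻¹ = w) (h2 : g * w * g⁻¹ = u) : False :=
  haveI := Fintype.ofFinite G
  S.no_swap_fintype hg hu hw hne h1 h2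

end Singer

end CfsgLib.BenderQ
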