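import Cfsg.Agent.Lib.BenderQ.SingerDecomp
import Cfsg.Agent.Lib.BenderQ.SingerCore

/-!
The decomposition of the point stabiliser in the prime case.
-/

set_option autoImplicit false

namespace CfsgLib.BenderQ

open CfsgLib.BenderTrans CfsgLib.Involutions MulAction

universe u

variable {G : Type u} [Group G] [Finite G] {Ω : Type u} [MulAction G Ω] [Finite Ω]

/-- The stabiliser is the product of the centraliser of its involutions and the two point stabiliser. -/
theorem PrimeCase.decomp {c y : Ω} {q : ℕ} (P : PrimeCase G c y q) :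
    ∀ g ∈ stabilizer G c, ∃ k ∈ stabilizer G c, (∀ t ∈ invAt G c, Commute k t) ∧
      ∃ e ∈ BenderTrans.two G c y, g = k * e :=
  P.decomp_of_core fun _ _ _ S _ _ _ hg hu hw hne h1 h2 => S.no_swap hg hu hw hne h1 h2

end CfsgLib.BenderQ
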