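import Cfsg.Agent.Lib.BenderQ.Kernel
import Cfsg.Agent.Lib.BenderTrans.Semireg.Main
import Cfsg.Agent.Lib.CoreSplit.Decomp
import Cfsg.Agent.Lib.PF.OddOrder

/-!
The point stabilisers have no nontrivial normal subgroup of odd order.
-/

set_option autoImplicit false

namespace CfsgLib.BenderQ

universe u

/-- `CoreTrivialAll` holds. -/
theorem coreTrivialAll : CoreTrivialAll.{u} :=
  fun G _ _ Ω _ _ h hfaith hf => BenderTrans.coreFree_of_card_le CoreSplit.decompFaithful _ G Ω le_rfl
    (fun X i j hX => @PF.oddSolvable X i j hX) h hfaith hf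

end CfsgLib.BenderQ
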