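import Cfsg.Agent.Lib.BenderQ.Bridge
import Cfsg.Agent.Lib.BenderQ.CoreTrivialProof
import Cfsg.Agent.Lib.SuzukiGroup.Group
import Cfsg.Agent.Lib.ClassicalGroups.UnitarySimple
import Cfsg.Agent.Lib.StrongEmbedding.PSLTwo
import Cfsg.Agent.Lib.LocalEven.SylowIn
import Cfsg.Prelude.Def_LieRecognition

/-!
Bender's classification of groups with a strongly embedded subgroup from the kernel theorem and
Suzuki's classification of split rank one groups.
-/

set_option autoImplicit false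

namespace CfsgLib.BenderQ

open CfsgLib.BenderTrans CfsgLib.Involutions MulAction

universe u v

/-- The three families. -/
def IsBenderType (L : Type u) [Group L] : Prop :=
  (∃ (F : Type) (_ : Field F) (_ : Fintype F), (∃ n : ℕ, 2 ≤ n ∧ Fintype.card F = 2 ^ n) ∧
      Nonempty (L ≃* Matrix.ProjectiveSpecialLinearGroup (Fin 2) F)) ∨
    Cfsg.Lie.IsoSuzuki L ∨
    (∃ (F : Type) (_ : Field F) (_ : Fintype F) (n : ℕ), 2 ≤ n ∧ Fintype.card F = (2 ^ n) ^ 2 ∧
      Nonempty (L ≃* Cfsg.PSU 3 F (2 ^ n)))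

/-- Suzuki's classification of split rank one groups in characteristic two, as a proposition. -/
def RankOneClass : Prop :=
  ∀ (G : Type u) [Group G] [Finite G] (Ω : Type u) [MulAction G Ω] [FaithfulSMul G Ω] (a : Ω) (t : G)
    (Q : Subgroup G), Cfsg.IsRankOneSetup G Ω a t Q →
    (∃ x y : G, x ≠ 1 ∧ y ≠ 1 ∧ x ≠ y ∧ x * x = 1 ∧ y * y = 1 ∧ x * y = y * x) →
    ∃ L : Subgroup G, L.Normal ∧ Odd L.index ∧ IsBenderType L

theorem IsBenderType.of_equiv {L M : Type u} [Group L] [Group M] (e : M ≃* L) (h : IsBenderType L) :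
    IsBenderType M := by
  rcases h with ⟨F, i1, i2, hn, ⟨f⟩⟩ | ⟨F, i1, i2, n, hn, hF, ⟨f⟩⟩ | ⟨F, i1, i2, n, hn, hF, ⟨f⟩⟩
  · exact Or.inl ⟨F, i1, i2, hn, ⟨e.trans f⟩⟩
  · exact Or.inr (Or.inl ⟨F, i1, i2, n, hn, hF, ⟨e.trans f⟩⟩)
  · exact Or.inr (Or.inr ⟨F, i1, i2, n, hn, hF, ⟨e.trans f⟩⟩)

theorem IsBenderType.isSimple {L : Type u} [Group L] (h : IsBenderType L) : IsSimpleGroup L := by
  rcases h with ⟨F, i1, i2, ⟨n, hn, hF⟩, ⟨f⟩⟩ | ⟨F, i1, i2, n, hn, hF, ⟨f⟩⟩ |
    ⟨F, i1, i2, n, hn, hF, ⟨f⟩⟩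
  · have : IsSimpleGroup (Matrix.ProjectiveSpecialLinearGroup (Fin 2) F) :=
      Matrix.ProjectiveSpecialLinearGroup.rank_two_simple (F := F) (by
        have : 2 ^ 2 ≤ 2 ^ n := Nat.pow_le_pow_right (by norm_num) hn
        rw [Nat.card_eq_fintype_card, hF]; omega)
    exact f.isSimpleGroup
  · obtain ⟨hc, ⟨P⟩⟩ := SuzukiGroup.exists_params hF
    have := SuzukiGroup.isSimple P (by
      rw [hF]
      calc 2 = 2 ^ 1 := (pow_one 2).symm
        _ < 2 ^ (2 * n + 1) := Nat.pow_lt_pow_right one_lt_two (by omega))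
    exact f.isSimpleGroup
  · have := ClassicalGroups.psu_isSimpleGroup (n := 3) hF le_rfl (fun h => by
      have : 2 ^ 2 ≤ 2 ^ n := Nat.pow_le_pow_right (by norm_num) hn
      omega)
    exact f.isSimpleGroup

theorem isSuzuki_of_isoSuzuki {L : Type u} [Group L] (h : Cfsg.Lie.IsoSuzuki L) :
    Cfsg.IsSuzuki L := by
  refine ⟨IsBenderType.isSimple (Or.inr (Or.inl h)), ?_⟩
  obtain ⟨F, i1, i2, m, hm, hF, ⟨f⟩⟩ := h
  obtain ⟨hc, ⟨P⟩⟩ := SuzukiGroup.exists_params hF
  refine ⟨m, hm, ?_⟩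
  rw [Nat.card_congr f.toEquiv, SuzukiGroup.card_sz P, hF]
  ring

section action

variable {G : Type u} [Group G] [Finite G] {Ω : Type u} [MulAction G Ω] [Finite Ω]

/-- The kernel gives a split rank one set-up. -/
theorem exists_rankOneSetup (h : OneFix G Ω) {c : Ω} {Q : Subgroup G} (hQ : IsKernelAt c Q) :
    ∃ t : G, Cfsg.IsRankOneSetup G Ω c t Q := by
  obtain ⟨y, hy⟩ := h.nontriv c
  obtain ⟨s, hs⟩ := h.exists_invAt c
  obtain ⟨s', hs'⟩ := h.exists_invAt y
  obtain ⟨t, ht, -⟩ := h.exists_mid hs hs' hy.symm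
  have hty : t • c = y := ht.2
  refine ⟨t, ?_, mul_self_eq_one ht.1, fun e => absurd ht.1 (by rw [e, orderOf_one]; decide), fun e => hy ?_, hQ.le,
    fun g hg x hx => hQ.conj g hg x hx, ?_, ?_, ?_, ?_⟩
  · rw [is_two_pretransitive_iff]
    intro a b a' b' hab hab'
    obtain ⟨g₁, hg₁⟩ := h.trans a c
    obtain ⟨g₂, hg₂⟩ := h.trans a' c
    obtain ⟨x, hxQ, hx⟩ := hQ.trans (g₁ • b) (g₂ • b')
      (fun e => hab (MulAction.injective g₁ (hg₁.trans e.symm)))
      (fun e => hab' (MulAction.injective g₂ (hg₂.trans e.symm)))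
    have hxc : x • c = c := mem_stabilizer_iff.1 (hQ.le hxQ)
    exact ⟨g₂⁻¹ * x * g₁, by rw [mul_smul, mul_smul, hg₁, hxc, ← hg₂, inv_smul_smul],
      by rw [mul_smul, mul_smul, hx, inv_smul_smul]⟩
  · exact hty.symm.trans (mem_stabilizer_iff.1 e)
  · rw [eq_bot_iff]
    rintro x ⟨hx, hxy⟩
    rw [hty] at hxy
    exact Subgroup.mem_bot.2 (hQ.free x hx y hy (mem_stabilizer_iff.1 hxy))
  · rw [hty]
    refine le_antisymm (sup_le hQ.le inf_le_left) fun g hg => ?_
    obtain ⟨x, hx, d, hd, rfl⟩ := hQ.sup_two hy hg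
    exact Subgroup.mul_mem_sup hx hd
  · obtain ⟨s, hs⟩ := h.exists_invAt c
    rw [even_iff_two_dvd, ← hs.1]
    exact Subgroup.orderOf_dvd_natCard _ (hQ.invol_mem h hs)
  · rw [hty]; exact odd_card_two h hy.symm

theorem exists_normal_benderType (hB : BenderKernel.{u}) (hR : RankOneClass.{u}) (h : OneFix G Ω)
    (hfaith : ∀ g : G, (∀ x : Ω, g • x = x) → g = 1) (hf : HasFour G) :
    ∃ L : Subgroup G, L.Normal ∧ Odd L.index ∧ IsBenderType L := by
  obtain ⟨t, ht⟩ := h.exists_inv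
  obtain ⟨c, -⟩ := h.exists_fix t ht
  obtain ⟨Q, hQ⟩ := isKernelAt_of_hasKernelAt (hB G Ω h hfaith hf c)
  obtain ⟨r, hr⟩ := exists_rankOneSetup h hQ
  have : FaithfulSMul G Ω := ⟨fun {g₁ g₂} e => by
    have := hfaith (g₁⁻¹ * g₂) fun x => by rw [mul_smul, ← e, inv_smul_smul]
    exact inv_mul_eq_one.1 this⟩
  obtain ⟨s, u, hs, hu, hne, hc⟩ := hf
  exact hR G Ω c r Q hr ⟨s, u, ne_one_of_orderOf_two hs, ne_one_of_orderOf_two hu, hne,
    mul_self_eq_one hs, mul_self_eq_one hu, hc.eq⟩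
where
  ne_one_of_orderOf_two {x : G} (hx : orderOf x = 2) : x ≠ 1 := fun e => by simp [e] at hx

/-- A normal subgroup of odd order of a faithful action with a four group is trivial. -/
theorem normal_odd_eq_bot (h : OneFix G Ω) (hfaith : ∀ g : G, (∀ x : Ω, g • x = x) → g = 1)
    (hf : HasFour G) {N : Subgroup G} (hN : N.Normal) (hodd : Odd (Nat.card N)) : N = ⊥ := by
  obtain ⟨s, t, hs, ht, hne, hc⟩ := hf
  obtain ⟨c, hsc⟩ := h.exists_fix s hs
  have hhf : HasFour G := ⟨s, t, hs, ht, hne, hc⟩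
  have htc : t • c = c := h.fix_of_commute ⟨hs, hsc⟩ hc.symm
  have hstab : N ⊓ stabilizer G c = ⊥ := coreTrivialAll G Ω h hfaith hhf c _ inf_le_right
    (fun g hg => Subgroup.mem_normalizer_iff.2 fun x => by
      constructor
      · rintro ⟨h1, h2⟩
        exact ⟨hN.conj_mem x h1 g,
          (stabilizer G c).mul_mem ((stabilizer G c).mul_mem hg h2) ((stabilizer G c).inv_mem hg)⟩
      · rintro ⟨h1, h2⟩
        refine ⟨?_, ?_⟩
        · have := hN.conj_mem _ h1 g⁻¹
          simpa [mul_assoc] using this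
        · have := (stabilizer G c).mul_mem ((stabilizer G c).mul_mem ((stabilizer G c).inv_mem hg) h2) hg
          simpa [mul_assoc] using this)
    (hodd.of_dvd_nat (Subgroup.card_dvd_of_le inf_le_left))
  -- an involution at `c` inverts `N`
  have hinv : ∀ v : G, orderOf v = 2 → v • c = c → ∀ n ∈ N, v * n * v = n⁻¹ := by
    intro v hv hvc
    have hvv := mul_self_eq_one hv
    have hmem : ∀ n ∈ N, n⁻¹ * (v * n * v) ∈ N := fun n hn => mul_mem (inv_mem hn) (by
      have := hN.conj_mem n hn v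
      rwa [inv_eq_self_of_involution hv] at this)
    let f : N → N := fun n => ⟨(n : G)⁻¹ * (v * n * v), hmem n n.2⟩
    have hinj : Function.Injective f := by
      intro a b e
      have e1 : (a : G)⁻¹ * (v * a * v) = (b : G)⁻¹ * (v * b * v) := congrArg Subtype.val e
      have e2 : Commute ((b : G) * (a : G)⁻¹) v := by
        show (b : G) * (a : G)⁻¹ * v = v * ((b : G) * (a : G)⁻¹)
        calc (b : G) * (a : G)⁻¹ * v
            = (b : G) * ((a : G)⁻¹ * (v * a * v)) * v * (a : G)⁻¹ * (v * v) := by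
              rw [hvv]; simp [mul_assoc, hvv]
          _ = v * ((b : G) * (a : G)⁻¹) := by
              rw [e1, hvv]; simp [mul_assoc, hvv]
      have e3 : (b : G) * (a : G)⁻¹ ∈ N ⊓ stabilizer G c :=
        ⟨N.mul_mem b.2 (N.inv_mem a.2), mem_stabilizer_iff.2 (h.fix_of_commute ⟨hv, hvc⟩ e2)⟩
      rw [hstab, Subgroup.mem_bot, mul_inv_eq_one] at e3
      exact Subtype.ext e3.symm
    intro n hn
    obtain ⟨a, ha⟩ := (Finite.injective_iff_surjective.1 hinj) ⟨n, hn⟩
    have e : (a : G)⁻¹ * (v * a * v) = n := congrArg Subtype.val ha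
    rw [← e]
    simp [mul_assoc, inv_eq_self_of_involution hv, ← mul_assoc v v, hvv]
  rw [eq_bot_iff]
  intro n hn
  have h1 := hinv s hs hsc n hn
  have h2 := hinv t ht htc n⁻¹ (inv_mem hn)
  rw [inv_inv] at h2
  have hst : orderOf (t * s) = 2 := by
    refine orderOf_eq_prime ?_ fun e => hne (by
      rw [mul_eq_one_iff_eq_inv, inv_eq_self_of_involution hs] at e; exact e.symm)
    rw [hc.symm.mul_pow, pow_two, pow_two, mul_self_eq_one hs, mul_self_eq_one ht, mul_one]
  have hstc : (t * s) • c = c := by rw [mul_smul, hsc, htc]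
  have h3 := hinv (t * s) hst hstc n hn
  have h4 : n = n⁻¹ := by
    rw [← h3]
    calc n = t * n⁻¹ * t := h2.symm
      _ = t * (s * n * s) * t := by rw [h1]
      _ = t * s * n * (t * s) := by simp only [mul_assoc]; rw [hc.eq]
  refine Subgroup.mem_bot.2 (orderOf_eq_one_iff.1 ?_)
  have h5 : orderOf n ∣ 2 := orderOf_dvd_of_pow_eq_one (by
    rw [pow_two]; nth_rewrite 2 [h4]; exact mul_inv_cancel n)
  have h6 : Odd (orderOf n) := hodd.of_dvd_nat (Subgroup.orderOf_dvd_natCard _ hn)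
  rcases (Nat.dvd_prime Nat.prime_two).1 h5 with h7 | h7
  · exact h7
  · rw [h7] at h6; exact absurd h6 (by decide)

theorem pElementClosure_top_eq {L : Subgroup G} (hL : L.Normal) (hodd : Odd L.index)
    [IsSimpleGroup L] (heven : 2 ∣ Nat.card G) :
    Cfsg.pElementClosure 2 (⊤ : Subgroup G) = L := by
  have : Fact (Nat.Prime 2) := ⟨Nat.prime_two⟩
  set P := Cfsg.pElementClosure 2 (⊤ : Subgroup G) with hP
  have hle : P ≤ L := (Subgroup.closure_le L).2 fun x ⟨_, k, hk⟩ => by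
    have h1 : orderOf (QuotientGroup.mk' L x) ∣ orderOf x := orderOf_map_dvd _ _
    have h2 : Odd (orderOf (QuotientGroup.mk' L x)) := by
      refine hodd.of_dvd_nat ?_
      rw [Subgroup.index_eq_card]
      exact orderOf_dvd_natCard _
    rw [hk] at h1
    obtain ⟨i, -, hi⟩ := (Nat.dvd_prime_pow Nat.prime_two).1 h1
    rw [hi] at h2
    rcases eq_or_ne i 0 with h3 | h3
    · rw [h3, pow_zero, orderOf_eq_one_iff] at hi
      exact (QuotientGroup.eq_one_iff (N := L) x).1 hi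
    · exact absurd ((Nat.odd_pow_iff h3).1 h2) (by decide)
  refine le_antisymm hle ?_
  obtain ⟨x, hx⟩ := exists_prime_orderOf_dvd_card' (G := G) 2 heven
  have hxP : x ∈ P := Subgroup.subset_closure ⟨Subgroup.mem_top x, 1, by rw [hx, pow_one]⟩
  have hn : (P.subgroupOf L).Normal := ⟨fun a ha g => by
    have h1 := LocalEven.le_normalizer_pElementClosure 2 (⊤ : Subgroup G) (Subgroup.mem_top (g : G))
    exact (Subgroup.mem_normalizer_iff.1 h1 a).1 ha⟩
  rcases IsSimpleGroup.eq_bot_or_eq_top_of_normal _ hn with e | e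
  · have : (⟨x, hle hxP⟩ : L) ∈ P.subgroupOf L := hxP
    rw [e, Subgroup.mem_bot] at this
    simp [show x = 1 from congrArg Subtype.val this] at hx
  · exact Subgroup.subgroupOf_eq_top.1 e

end action

section groups

variable {G : Type u} [Group G] [Finite G] {H : Subgroup G}

/-- The case of a simple group. -/
theorem simple_isBenderType [IsSimpleGroup G] (hB : BenderKernel.{u}) (hR : RankOneClass.{u})
    (hna : ∃ a b : G, a * b ≠ b * a) (hH : Cfsg.IsStronglyEmbedded H) : IsBenderType G := by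
  have h := oneFix_of_stronglyEmbedded hH
  obtain ⟨L, hLn, hLodd, hL⟩ := exists_normal_benderType hB hR h (fun g hg => by
    have h1 : g ∈ H.normalCore := fun x => by
      have h2 : ((g * x⁻¹ : G) : G ⧸ H) = ((x⁻¹ : G) : G ⧸ H) := hg ((x⁻¹ : G) : G ⧸ H)
      simpa [mul_assoc] using QuotientGroup.eq.1 h2.symm
    rwa [normalCore_eq_bot hH, Subgroup.mem_bot] at h1) (hasFour_of_simple hna hH)
  have : L = ⊤ := (IsSimpleGroup.eq_bot_or_eq_top_of_normal L hLn).resolve_left fun e => by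
    subst e
    have := hL.isSimple
    exact not_nontrivial (⊥ : Subgroup G) inferInstance
  subst this
  exact hL.of_equiv Subgroup.topEquiv.symm

/-- The simple case with the Suzuki groups given by their order. -/
theorem simple_classification [IsSimpleGroup G] (hB : BenderKernel.{u}) (hR : RankOneClass.{u})
    (hna : ∃ a b : G, a * b ≠ b * a) (hH : Cfsg.IsStronglyEmbedded H) :
    (∃ (F : Type) (_ : Field F) (_ : Fintype F), CharP F 2 ∧ 4 ≤ Fintype.card F ∧
      Nonempty (G ≃* Matrix.ProjectiveSpecialLinearGroup (Fin 2) F)) ∨ Cfsg.IsSuzuki G ∨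
    (∃ (F : Type) (_ : Field F) (_ : Fintype F) (q : ℕ), Fintype.card F = q ^ 2 ∧ Even q ∧ 4 ≤ q ∧
      Nonempty (G ≃* Cfsg.PSU 3 F q)) := by
  rcases simple_isBenderType hB hR hna hH with ⟨F, i1, i2, ⟨n, hn, hF⟩, hf⟩ | h |
    ⟨F, i1, i2, n, hn, hF, hf⟩
  · have h4 : 2 ^ 2 ≤ 2 ^ n := Nat.pow_le_pow_right (by norm_num) hn
    have : Fact (Nat.Prime 2) := ⟨Nat.prime_two⟩
    exact Or.inl ⟨F, i1, i2, charP_of_card_eq_prime_pow hF, by omega, hf⟩
  · exact Or.inr (Or.inl (isSuzuki_of_isoSuzuki h))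
  · have h4 : 2 ^ 2 ≤ 2 ^ n := Nat.pow_le_pow_right (by norm_num) hn
    exact Or.inr (Or.inr ⟨F, i1, i2, 2 ^ n, hF, Nat.even_pow.2 ⟨even_two, by omega⟩, by omega, hf⟩)

/-- The case of arbitrary finite groups. -/
theorem classification (hB : BenderKernel.{u}) (hR : RankOneClass.{u})
    (hH : Cfsg.IsStronglyEmbedded H) :
    (∀ t : G, orderOf t = 2 → Cfsg.pPrimeCore 2 G ⊔ Subgroup.centralizer ({t} : Set G) = ⊤ ∧
      ∀ u ∈ Subgroup.centralizer ({t} : Set G), orderOf u = 2 → u = t) ∨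
    IsBenderType (Cfsg.pElementClosure 2 (⊤ : Subgroup (G ⧸ Cfsg.pPrimeCore 2 G))) := by
  have : Fact (Nat.Prime 2) := ⟨Nat.prime_two⟩
  have h := oneFix_of_stronglyEmbedded hH
  by_cases hf : HasFour G
  swap
  · left
    have huniq : ∀ s t : G, orderOf s = 2 → orderOf t = 2 → Commute s t → s = t :=
      fun s t hs ht hc => by_contra fun hne => hf ⟨s, t, hs, ht, hne, hc⟩
    intro z hz
    refine ⟨eq_top_iff.2 fun g _ => ?_, fun u hu hu2 => huniq u z hu2 hz
      (Subgroup.mem_centralizer_singleton_iff.1 hu)⟩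
    have hz' : orderOf (g * z * g⁻¹) = 2 := (orderOf_conj_eq g z).trans hz
    have hmem : g * z * g⁻¹ * z ∈ Cfsg.oddCore G := by
      have h1 := inZStar_of_rank_one huniq hz g
      simpa [inv_eq_self_of_involution hz, mul_assoc] using h1
    have hodd : Odd (orderOf (g * z * g⁻¹ * z)) := by
      have h2 : Odd (Nat.card (Cfsg.oddCore G)) := by
        rw [← Nat.not_even_iff_odd, even_iff_two_dvd]
        exact PCore.not_dvd_card_pPrimeCore
      exact h2.of_dvd_nat (Subgroup.orderOf_dvd_natCard _ hmem)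
    obtain ⟨m, hm⟩ := id hodd
    set a := g * z * g⁻¹ * z with ha
    have hd : a ^ (m : ℤ) ∈ Cfsg.pPrimeCore 2 G := zpow_mem hmem _
    have hconj : a ^ (m : ℤ) * (g * z * g⁻¹) * (a ^ (m : ℤ))⁻¹ = z := by
      have h1 := conj_by_zpow hz' hz (m : ℤ) 0
      rw [zpow_zero, one_mul, add_zero, ← ha] at h1
      rw [h1]
      have h3 : a ^ (2 * (m : ℤ)) = a⁻¹ := by
        apply eq_inv_of_mul_eq_one_left
        have := pow_orderOf_eq_one a
        rw [hm, pow_succ] at this
        exact_mod_cast this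
      rw [h3, ha, mul_inv_rev, inv_eq_self_of_involution hz,
        inv_eq_self_of_involution hz', mul_assoc, mul_self_eq_one hz', mul_one]
    have hdg : a ^ (m : ℤ) * g ∈ Subgroup.centralizer ({z} : Set G) := by
      refine Subgroup.mem_centralizer_singleton_iff.2 ?_
      calc a ^ (m : ℤ) * g * z
          = (a ^ (m : ℤ) * (g * z * g⁻¹) * (a ^ (m : ℤ))⁻¹) * (a ^ (m : ℤ) * g) := by group
        _ = z * (a ^ (m : ℤ) * g) := by rw [hconj]
    have h4 : g = (a ^ (m : ℤ))⁻¹ * (a ^ (m : ℤ) * g) := by group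
    rw [h4]
    exact Subgroup.mul_mem_sup (inv_mem hd) hdg
  · right
    have hall : ∀ x : G ⧸ H, x ∈ centres (G ⧸ H) (⊤ : Subgroup G) := fun x => by
      obtain ⟨t, ht⟩ := h.exists_invAt x
      exact mem_centres (Subgroup.mem_top t) ht
    obtain ⟨s, t, hs, ht, hne, hc⟩ := hf
    obtain ⟨y, hy⟩ := h.nontriv ((1 : G) : G ⧸ H)
    have hM : Multi (G ⧸ H) (⊤ : Subgroup G) := ⟨_, hall _, y, hall y, hy.symm⟩
    have h' := h.oneFix_sect hM
    have hf' := h.hasFour_sect hM (Subgroup.mem_top s) (Subgroup.mem_top t) hs ht hne hc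
    obtain ⟨L, hLn, hLodd, hL⟩ := exists_normal_benderType hB hR h' (hfaith_sect _) hf'
    let φ : G →* Sect (G ⧸ H) (⊤ : Subgroup G) :=
      (sect (G ⧸ H) (⊤ : Subgroup G)).comp Subgroup.topEquiv.symm.toMonoidHom
    have hφ : Function.Surjective φ :=
      (sect_surjective (⊤ : Subgroup G)).comp Subgroup.topEquiv.symm.surjective
    have hker : φ.ker = Cfsg.pPrimeCore 2 G := by
      refine le_antisymm ?_ ?_
      · have hle : φ.ker ≤ H.normalCore := fun x hx g => by
          have h2 := sect_eq_one_iff.1 (show sect (G ⧸ H) (⊤ : Subgroup G) ⟨x, Subgroup.mem_top _⟩ = 1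
            from hx) ((g⁻¹ : G) : G ⧸ H) (hall _)
          have h4 := QuotientGroup.eq.1 (show ((g⁻¹ : G) : G ⧸ H) = ((x * g⁻¹ : G) : G ⧸ H) from h2.symm)
          simpa [mul_assoc] using h4
        refine PCore.le_pPrimeCore_of_not_dvd φ.normal_ker ?_
        rw [← even_iff_two_dvd, Nat.not_even_iff_odd]
        exact (odd_card_normalCore hH).of_dvd_nat (Subgroup.card_dvd_of_le hle)
      · have hodd : Odd (Nat.card ((Cfsg.pPrimeCore 2 G).map φ)) := by
          rw [← Nat.not_even_iff_odd, even_iff_two_dvd]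
          exact fun hd => PCore.not_dvd_card_pPrimeCore (hd.trans (Subgroup.card_map_dvd _ _))
        have hn : ((Cfsg.pPrimeCore 2 G).map φ).Normal := (Cfsg.pPrimeCore_normal 2 G).map φ hφ
        rw [← (Cfsg.pPrimeCore 2 G).map_eq_bot_iff]
        exact normal_odd_eq_bot h' (hfaith_sect _) hf' hn hodd
    have heven : 2 ∣ Nat.card (Sect (G ⧸ H) (⊤ : Subgroup G)) := by
      obtain ⟨t', ht'⟩ := h'.exists_inv
      exact ht' ▸ orderOf_dvd_natCard t'
    have := hL.isSimple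
    have hP := pElementClosure_top_eq hLn hLodd heven
    let e : (G ⧸ Cfsg.pPrimeCore 2 G) ≃* Sect (G ⧸ H) (⊤ : Subgroup G) :=
      (QuotientGroup.quotientMulEquivOfEq hker.symm).trans
        (QuotientGroup.quotientKerEquivOfSurjective φ hφ)
    have hm := LocalEven.pElementClosure_map_equiv (p := 2)
      (⊤ : Subgroup (G ⧸ Cfsg.pPrimeCore 2 G)) e
    rw [Subgroup.map_top_of_surjective _ e.surjective, hP] at hm
    refine hL.of_equiv ((Subgroup.equivMapOfInjective _ e.toMonoidHom e.injective).trans ?_)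
    exact MulEquiv.subgroupCongr hm.symm

end groups

end CfsgLib.BenderQ
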