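import Cfsg.Agent.Lib.BenderQ.CountEnough
import Cfsg.Agent.Lib.BenderQ.SingerBasic

/-!
Endgame of the non-commuting case: a point stabiliser cannot act two-transitively and without
involutions in the kernel on a system of blocks of odd size of the involutions at the point such
that a member commuting with a member of another block commutes with a member of every other block.
-/

set_option autoImplicit false
set_option linter.style.haveILetI false
set_option linter.unusedSectionVars false

namespace CfsgLib.BenderQ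

open CfsgLib.BenderTrans CfsgLib.Involutions CfsgLib.OddOrder MulAction

universe u v

variable {G : Type u} [Group G] [Finite G] {Ω : Type u} [MulAction G Ω] [Finite Ω]
variable {B : Type v} [Finite B] {c : Ω} [MulAction (stabilizer G c) B]

/-- An involution at the point as an element of the point stabiliser. -/
def stabInv (w : invAt G c) : stabilizer G c := ⟨(w : G), w.2.2⟩

theorem orderOf_stabInv (w : invAt G c) : orderOf (stabInv w) = 2 := by
  rw [← Subgroup.orderOf_coe]
  exact w.2.1

theorem stabInv_smul (w x : invAt G c) :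
    ((stabInv w • x : invAt G c) : G) = (w : G) * x * (w : G)⁻¹ :=
  smul_invAt_coe _ _

theorem stabInv_smul_self (w : invAt G c) : stabInv w • w = w :=
  Subtype.ext (by rw [stabInv_smul, mul_inv_cancel_right])

theorem stabInv_smul_of_commute {w x : invAt G c} (h : Commute (x : G) w) : stabInv w • x = x :=
  Subtype.ext (by rw [stabInv_smul, ← h.eq, mul_inv_cancel_right])

variable {β : invAt G c → B} (hsurj : Function.Surjective β)
  (heq : ∀ (g : stabilizer G c) (w : invAt G c), β (g • w) = g • β w)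
include hsurj heq

/-- If an involution fixes no block besides its own, the blocks carry an action in which every
involution fixes exactly one point. -/
theorem oneFix_blocks (h : OneFix G Ω) (hne : ∃ a b : B, a ≠ b)
    (hfix : ∀ (w : invAt G c) (b : B), stabInv w • b = b → b = β w) :
    OneFix (stabilizer G c) B where
  trans a b := by
    obtain ⟨s, rfl⟩ := hsurj a
    obtain ⟨t, rfl⟩ := hsurj b
    obtain ⟨z, hz⟩ := h.nontriv c
    obtain ⟨d, hd, hds⟩ := h.exists_conj_invAt hz.symm s.2 t.2
    refine ⟨⟨d, (mem_two_iff.1 hd).1⟩, ?_⟩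
    rw [← heq]
    exact congrArg β (Subtype.ext hds)
  nontriv a := by
    obtain ⟨x, y, hxy⟩ := hne
    rcases eq_or_ne x a with rfl | hx
    · exact ⟨y, hxy.symm⟩
    · exact ⟨x, hx⟩
  exists_inv := by
    obtain ⟨t, ht⟩ := h.exists_invAt c
    exact ⟨stabInv ⟨t, ht⟩, orderOf_stabInv _⟩
  exists_fix t ht := by
    let w : invAt G c := ⟨(t : G), by rwa [Subgroup.orderOf_coe], t.2⟩
    refine ⟨β w, ?_⟩
    have ht' : stabInv w = t := Subtype.ext rfl
    rw [← ht', ← heq, stabInv_smul_self]
  unique t ht a b ha hb := by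
    let w : invAt G c := ⟨(t : G), by rwa [Subgroup.orderOf_coe], t.2⟩
    have ht' : stabInv w = t := Subtype.ext rfl
    rw [← ht'] at ha hb
    rw [hfix w a ha, hfix w b hb]

/-- A commuting pair across blocks would put an involution into the kernel; without such pairs the
involutions fix their own blocks only. -/
theorem fix_own_block_only
    (hker : ∀ w : invAt G c, ∃ b : B, stabInv w • b ≠ b)
    (hodd : ∀ b : B, Odd (Nat.card {x : invAt G c // β x = b}))
    (hk : ∀ u v w : invAt G c, β u ≠ β v → β u ≠ β w → Commute (v : G) u →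
      ∃ x : invAt G c, β x = β w ∧ Commute (x : G) u) :
    (∀ u v : invAt G c, Commute (v : G) u → β v = β u) ∧
      ∀ (w : invAt G c) (b : B), stabInv w • b = b → b = β w := by
  classical
  have hnone : ∀ u v : invAt G c, β u ≠ β v → ¬ Commute (v : G) u := by
    intro u v huv hcom
    obtain ⟨b, hb⟩ := hker u
    obtain ⟨x, rfl⟩ := hsurj b
    refine hb ?_
    rcases eq_or_ne (β u) (β x) with e | e
    · rw [← e, ← heq, stabInv_smul_self]
    · obtain ⟨y, hy, hyu⟩ := hk u v x huv e hcom
      rw [← hy, ← heq, stabInv_smul_of_commute hyu]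
  refine ⟨fun u v hcom => ?_, fun w b hb => ?_⟩
  · by_contra hne
    exact hnone u v (fun e => hne e.symm) hcom
  · by_contra hne
    haveI := Fintype.ofFinite {x : invAt G c // β x = b}
    have ht2 : stabInv w * stabInv w = 1 := mul_self_eq_one (orderOf_stabInv w)
    let σ : Function.End {x : invAt G c // β x = b} :=
      fun x => ⟨stabInv w • x.1, by rw [heq, x.2, hb]⟩
    have hσ : σ ^ 2 ^ 1 = 1 := by
      rw [pow_one, pow_two]
      funext x
      exact Subtype.ext (by
        show stabInv w • stabInv w • x.1 = x.1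
        rw [smul_smul, ht2, one_smul])
    have : Fact (Nat.Prime 2) := ⟨Nat.prime_two⟩
    have hmod := Equiv.Perm.card_fixedPoints_modEq (p := 2) hσ
    have hempty : IsEmpty (Function.fixedPoints σ) := ⟨fun y => by
      have h1 : stabInv w • y.1.1 = y.1.1 := congrArg Subtype.val y.2
      have h2 : Commute ((y.1.1 : invAt G c) : G) w := by
        have h3 := congrArg Subtype.val h1
        rw [stabInv_smul] at h3
        exact (mul_inv_eq_iff_eq_mul.1 h3).symm
      exact hnone w y.1.1 (by rw [y.1.2]; exact fun e => hne e.symm) h2⟩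
    have h1 : Fintype.card {x : invAt G c // β x = b} % 2 = 1 := by
      rw [← Nat.card_eq_fintype_card]
      exact Nat.odd_iff.1 (hodd b)
    rw [Fintype.card_eq_zero_iff.2 hempty] at hmod
    unfold Nat.ModEq at hmod
    omega

/-- The endgame: no such system of blocks exists. -/
theorem Step.false_of_blocks (S : Step G Ω)
    (hsolv : ∀ X : Type u, ∀ _ : Group X, ∀ _ : Finite X, Odd (Nat.card X) → Group.IsSolvable X)
    (hne : ∃ a b : B, a ≠ b)
    (hker : ∀ w : invAt G c, ∃ b : B, stabInv w • b ≠ b)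
    (hodd : ∀ b : B, Odd (Nat.card {x : invAt G c // β x = b}))
    (hk : ∀ u v w : invAt G c, β u ≠ β v → β u ≠ β w → Commute (v : G) u →
      ∃ x : invAt G c, β x = β w ∧ Commute (x : G) u) : False := by
  classical
  obtain ⟨hcomm, hfix⟩ := fix_own_block_only hsurj heq hker hodd hk
  have h := S.base
  have h' := oneFix_blocks hsurj heq h hne hfix
  -- a block has at least two members
  obtain ⟨s, t, hs, ht, hst, hc⟩ := h.exists_invAt_ne S.four c
  have hb : β ⟨s, hs⟩ = β ⟨t, ht⟩ := hcomm ⟨t, ht⟩ ⟨s, hs⟩ hc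
  set a : B := β ⟨s, hs⟩ with ha
  have hone : 1 < (invAt (stabilizer G c) a).ncard := by
    refine (Set.one_lt_ncard (Set.toFinite _)).2
      ⟨stabInv ⟨s, hs⟩, ⟨orderOf_stabInv _, ?_⟩, stabInv ⟨t, ht⟩, ⟨orderOf_stabInv _, ?_⟩, ?_⟩
    · rw [ha, ← heq, stabInv_smul_self]
    · rw [hb, ← heq, stabInv_smul_self]
    · exact fun e => hst (congrArg (fun x : stabilizer G c => (x : G)) e)
  have hdvd : (invAt (stabilizer G c) a).ncard ∣ (invAt G c).ncard := by
    refine ⟨Nat.card B, ?_⟩
    rw [← Nat.card_coe_set_eq (invAt G c), mul_comm, ← h'.ncard_involutions a]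
    exact Nat.card_congr
      ⟨fun w => ⟨stabInv w, orderOf_stabInv w⟩,
        fun x => ⟨(x.1 : G), by rw [Subgroup.orderOf_coe]; exact x.2, x.1.2⟩,
        fun w => rfl, fun x => rfl⟩
  set p := (invAt (stabilizer G c) a).ncard.minFac with hp
  have hpp : p.Prime := Nat.minFac_prime (by omega)
  haveI : Fact p.Prime := ⟨hpp⟩
  have hpa : p ∣ (invAt (stabilizer G c) a).ncard := Nat.minFac_dvd _
  have hpm : p ∣ (invAt G c).ncard := hpa.trans hdvd
  -- a `p`-element inverted by an involution of the point stabiliser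
  obtain ⟨b, hba⟩ := h'.nontriv a
  obtain ⟨W, hW, -⟩ := exists_sylowOf_ge (p := p)
    (bot_le : (⊥ : Subgroup (stabilizer G c)) ≤ BenderTrans.two (stabilizer G c) a b) IsPGroup.of_bot
  obtain ⟨r, hr, hrn⟩ := h'.exists_swap_normalizes hba.symm hW
  have hcls := h'.qpart_eq_cls hba.symm hr hW hrn a
  have hq1 : 1 < qpart (stabilizer G c) a p := by
    rw [qpart]
    exact Nat.one_lt_pow (hpp.factorization_pos_of_dvd (by omega) hpa).ne' hpp.one_lt
  rw [← hcls] at hq1
  obtain ⟨x, ⟨w, hw, rfl⟩, hwr⟩ := Set.exists_ne_of_one_lt_ncard hq1 r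
  have hr2 : r * r = 1 := mul_self_eq_one hr.1
  set y : stabilizer G c := r * w * r⁻¹ * w⁻¹ with hy
  have hyW : y ∈ W := W.mul_mem (Coprime.mem_normalizer_conj hrn hw) (W.inv_mem hw)
  have hyr : r * y * r⁻¹ = y⁻¹ := by
    rw [hy, inv_eq_self_of_involution hr.1]
    calc r * (r * w * r * w⁻¹) * r = (r * r) * (w * r * w⁻¹ * r) := by group
      _ = w * r * w⁻¹ * r := by rw [hr2, one_mul]
      _ = w * r⁻¹ * w⁻¹ * r⁻¹ := by rw [inv_eq_self_of_involution hr.1]
      _ = (r * w * r * w⁻¹)⁻¹ := by group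
  have hy1 : y ≠ 1 := by
    intro e
    refine hwr ?_
    rw [hy, inv_eq_self_of_involution hr.1, mul_inv_eq_one] at e
    calc w * r * w⁻¹ = (r * w * r) * r * w⁻¹ := by rw [e]
      _ = r * w * (r * r) * w⁻¹ := by group
      _ = r := by rw [hr2, mul_one, mul_inv_cancel_right]
  set Y : Subgroup G := Subgroup.zpowers (y : G) with hYdef
  obtain ⟨e, he⟩ := hW.2.1 ⟨y, hyW⟩
  have hyo : (y : G) ^ p ^ e = 1 := by
    have h1 : y ^ p ^ e = 1 := congrArg Subtype.val he
    rw [← Subgroup.coe_pow, h1, Subgroup.coe_one]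
  have hYp : IsPGroup p Y := by
    rintro ⟨z, i, rfl⟩
    refine ⟨e, Subtype.ext ?_⟩
    show ((y : G) ^ i) ^ p ^ e = 1
    rw [← zpow_natCast, ← zpow_mul, mul_comm, zpow_mul, zpow_natCast, hyo, one_zpow]
  have hYc : Y ≤ stabilizer G c := Subgroup.zpowers_le.2 y.2
  obtain ⟨Q, hQ, hYQ⟩ := exists_sylowOf_ge hYc hYp
  obtain ⟨z, hz, hfixQ⟩ := h.exists_partner (S.concl.good c p hpp hpm) hQ
  have hzQ : z ∈ fixSet Ω Q := hfixQ ▸ Set.mem_insert_of_mem _ rfl
  have hYle : Y ≤ BenderTrans.two G c z := fun g hg =>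
    mem_two_iff.2 ⟨hYc hg, hzQ g (hYQ hg)⟩
  have hrG : (r : G) ∈ invAt G c := ⟨by rw [Subgroup.orderOf_coe]; exact hr.1, r.2⟩
  have hyrG : (r : G) * y * (r : G)⁻¹ = (y : G)⁻¹ := by
    exact_mod_cast congrArg (fun x : stabilizer G c => (x : G)) hyr
  have hrY : (r : G) ∈ Subgroup.normalizer (Y : Set G) := by
    refine Coprime.mem_normalizer_of_forall_conj ?_
    rintro g ⟨i, rfl⟩
    exact ⟨-i, by show (y : G) ^ (-i) = _; rw [← conj_zpow, hyrG, inv_zpow, zpow_neg]⟩
  have hcr := S.centralFor hsolv p c z r hz hrG Y hYp hYle hrY y (Subgroup.mem_zpowers _)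
  rw [← hcr.eq, mul_inv_cancel_right] at hyrG
  have hsq : (y : G) ^ 2 = 1 := by rw [pow_two]; nth_rewrite 2 [hyrG]; exact mul_inv_cancel _
  have hodd2 : Odd (orderOf (y : G)) :=
    (h.odd_two hz.symm).of_dvd_nat (Subgroup.orderOf_dvd_natCard _ (hYle (Subgroup.mem_zpowers _)))
  have h12 : orderOf (y : G) ∣ 2 := orderOf_dvd_of_pow_eq_one hsq
  rcases (Nat.dvd_prime Nat.prime_two).1 h12 with h3 | h3
  · exact hy1 (Subtype.ext (orderOf_eq_one_iff.1 h3))
  · rw [h3] at hodd2
    exact absurd hodd2 (by decide)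

end CfsgLib.BenderQ
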