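import Cfsg.Agent.Lib.BenderQ.Kernel

/-!
If a point stabiliser is transitive on the ordered pairs of distinct involutions at the point, these
involutions commute: some pair of them does, by the existence of a four group.
-/

set_option autoImplicit false

namespace CfsgLib.BenderQ

open CfsgLib.BenderTrans MulAction

universe u v

variable {G : Type u} [Group G] {Ω : Type v} [MulAction G Ω]

/-- Commuting at one point gives commuting at all points. -/
theorem commAt_of_one_point (h : OneFix G Ω) (c : Ω)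
    (hc : ∀ s ∈ invAt G c, ∀ t ∈ invAt G c, Commute s t) : CommAt G Ω := by
  intro x s hs t ht
  obtain ⟨g, rfl⟩ := h.trans c x
  have key : ∀ {u : G}, u ∈ invAt G (g • c) → g⁻¹ * u * g ∈ invAt G c := fun {u} hu => by
    have h1 := conj_mem_invAt (g := g⁻¹) hu
    rwa [inv_inv, inv_smul_smul] at h1
  have h2 := (hc _ (key hs) _ (key ht)).map (MulAut.conj g).toMonoidHom
  have e : ∀ u : G, (MulAut.conj g).toMonoidHom (g⁻¹ * u * g) = u := fun u => by
    simp [mul_assoc]
  rwa [e, e] at h2

/-- A point stabiliser two-transitive on the involutions at the point forces them to commute. -/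
theorem commAt_of_twoTrans_invAt [Finite G] (h : OneFix G Ω) (hf : HasFour G) (c : Ω)
    (htr : ∀ u ∈ invAt G c, ∀ v ∈ invAt G c, ∀ u' ∈ invAt G c, ∀ v' ∈ invAt G c, u ≠ v → u' ≠ v' →
      ∃ g : G, g • c = c ∧ g * u * g⁻¹ = u' ∧ g * v * g⁻¹ = v') : CommAt G Ω := by
  refine commAt_of_one_point h c fun s hs t ht => ?_
  rcases eq_or_ne s t with rfl | hne
  · exact Commute.refl s
  obtain ⟨a, b, ha, hb, hab, hcom⟩ := h.exists_invAt_ne hf c
  obtain ⟨g, -, rfl, rfl⟩ := htr a ha b hb s hs t ht hab hne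
  exact hcom.map (MulAut.conj g).toMonoidHom

/-- The same for a step. -/
theorem Step.commAt_of_twoTrans [Finite G] (S : Step G Ω) (c : Ω)
    (htr : ∀ u ∈ invAt G c, ∀ v ∈ invAt G c, ∀ u' ∈ invAt G c, ∀ v' ∈ invAt G c, u ≠ v → u' ≠ v' →
      ∃ g : G, g • c = c ∧ g * u * g⁻¹ = u' ∧ g * v * g⁻¹ = v') : CommAt G Ω :=
  commAt_of_twoTrans_invAt S.base S.four c htr

end CfsgLib.BenderQ
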