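import Cfsg.Agent.Lib.BenderComp.Faithful
import Cfsg.Agent.Lib.BenderQ.Kernel
import Cfsg.Agent.Lib.PF.OddOrder
import Cfsg.Agent.Lib.BenderQ.Singer
import Cfsg.Agent.Lib.RankOneTwo.Main

/-!
Commuting involutions at each point, with the theorem for proper sections, give the regular normal
`2`-subgroup of each point stabiliser.
-/

set_option autoImplicit false
set_option linter.style.haveILetI false

namespace CfsgLib.BenderQ

open CfsgLib.Involutions CfsgLib.BenderTrans CfsgLib.BenderComp MulAction Subgroup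

universe u

variable {G : Type u} [Group G] {Ω : Type u} [MulAction G Ω] [Finite G] [Finite Ω]

omit [Finite G] [Finite Ω] in
/-- The setting of the complement step. -/
theorem cx_of_step (hodd : ∀ X : Type u, ∀ _ : Group X, ∀ _ : Finite X, Odd (Nat.card X) →
    Group.IsSolvable X) (h : Step G Ω) (hcomm : CommAt G Ω) : Cx G Ω where
  base := h.base
  faith := h.faith
  four := h.four
  solv := hodd
  comm := hcomm
  hsect M hM hMulti h4 a := by
    obtain ⟨Q, h1, h2, h3, h5, h6⟩ := h.below M hM hMulti h4 a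
    exact ⟨Q, h1, h2, h3, h5, h6⟩

/-- The point stabiliser is the product of the centraliser of its involutions and the two point
stabiliser. -/
theorem decomp_of_cx (C : Cx G Ω) {c z : Ω} (hzc : z ≠ c) :
    ∀ g ∈ stabilizer G c, ∃ k ∈ cenInv G c, ∃ d ∈ BenderTrans.two G c z, g = k * d := by
  by_cases hC0 : BenderTrans.two G c z ⊓ cenInv G c = ⊥
  swap
  · exact C.decomp_of_cenInv hzc hC0
  have hfaith : ∀ d ∈ BenderTrans.two G c z, (∀ t ∈ invAt G c, Commute d t) → d = 1 :=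
    fun d hd hdt => Subgroup.mem_bot.1 (hC0 ▸
      (show d ∈ BenderTrans.two G c z ⊓ cenInv G c from ⟨hd, mem_cenInv.2 ⟨(mem_two_iff.1 hd).1, hdt⟩⟩))
  by_cases hgood : ∀ (p : ℕ) (x : G), p.Prime → x ∈ BenderTrans.two G c z → orderOf x = p →
      2 < (fixSet Ω (Subgroup.zpowers x)).ncard →
      ∃ s ∈ invAt G c, ∃ t ∈ invAt G c, s ≠ t ∧ Commute x s ∧ Commute x t
  · exact C.decomp_of_good hzc hfaith hgood
  push Not at hgood
  obtain ⟨p, x, hp, hxD, hxo, h3, hbad⟩ := hgood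
  haveI := Fact.mk hp
  obtain ⟨hp2, hcard⟩ := C.card_of_bad hzc hfaith hxD hxo h3 fun s hs t ht hxs hxt => by
    by_contra hst
    exact hbad s hs t ht hst hxs hxt
  intro g hg
  obtain ⟨k, hk, hkt, e, he, rfl⟩ := (⟨C.solv, C.base, C.faith, C.four, hzc, C.comm c, hp, hp2,
    hcard, hfaith⟩ : PrimeCase G c z p).decomp g hg
  exact ⟨k, mem_cenInv.2 ⟨hk, hkt⟩, e, he, rfl⟩

/-- The regular normal `2`-subgroup. -/
theorem kernel_of_cx (C : Cx G Ω) (c : Ω) : HasKernelAt G Ω c := by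
  classical
  obtain ⟨z, hzc⟩ := C.base.nontriv c
  set K := cenInv G c with hK
  set D := BenderTrans.two G c z with hD
  set D' : Subgroup K := D.subgroupOf K with hD'
  have hmemD' : ∀ x : K, x ∈ D' ↔ (x : G) ∈ D := fun x => mem_subgroupOf
  have hodd' : Odd (Nat.card D') := by
    refine (C.base.odd_two hzc.symm).of_dvd_nat ?_
    refine Subgroup.card_dvd_of_injective ((K.subtype.comp D'.subtype).codRestrict D
      fun x => (hmemD' _).1 x.2) fun x y e => ?_
    exact Subtype.ext (Subtype.ext (congrArg (fun w : D => (w : G)) e))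
  obtain ⟨s, t, hs, ht, hst, -⟩ := C.base.exists_invAt_ne C.four c
  have hlift : ∀ (p : ℕ) [Fact p.Prime] (x : G), x ∈ D → x ∈ K → x ≠ 1 → (∃ n, x ^ p ^ n = 1) →
      (∀ w ∈ fixSet Ω (Subgroup.zpowers x), w ≠ c →
        ∃ g ∈ K, Commute g x ∧ (∃ k : ℕ, g ^ 2 ^ k = 1) ∧ g • z = w) ∧
      ∃ i : ℕ, (fixSet Ω (Subgroup.zpowers x) \ {c}).ncard = 2 ^ i := by
    intro p hp x hxD hxK hx1 hxn
    obtain ⟨n, hxn⟩ := hxn
    obtain ⟨m, -, hm⟩ := (Nat.dvd_prime_pow hp.out).1 (orderOf_dvd_of_pow_eq_one hxn)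
    have hSp : IsPGroup p (Subgroup.zpowers x) := IsPGroup.of_card (n := m) (by rw [Nat.card_zpowers, hm])
    have hne : Subgroup.zpowers x ≠ ⊥ := by rwa [ne_eq, Subgroup.zpowers_eq_bot]
    have hcom : ∀ e ∈ invAt G c, ∀ a ∈ Subgroup.zpowers x, Commute a e := fun e he a ha => by
      obtain ⟨i, rfl⟩ := Subgroup.mem_zpowers_iff.1 ha
      exact ((mem_cenInv.1 hxK).2 e he).zpow_left i
    refine ⟨fun w hw hwc => ?_, C.fix_count hSp hne hzc (Subgroup.zpowers_le.2 hxD) hs ht hst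
      (hcom s hs) (hcom t ht)⟩
    obtain ⟨g, hgS, hgc, hgz, hgk, hge, -⟩ := C.exists_lift hSp hne hzc (Subgroup.zpowers_le.2 hxD)
      hs ht hst (hcom s hs) (hcom t ht) hw hwc
    exact ⟨g, mem_cenInv.2 ⟨hgc, fun e he => hge e he (hcom e he)⟩,
      (Subgroup.mem_centralizer_iff.1 hgS x (Subgroup.mem_zpowers x)).symm, hgk, hgz⟩
  have hcop : (Nat.card D').Coprime D'.index := by
    refine Nat.coprime_of_dvd fun p hp hpD hpK => ?_
    haveI := Fact.mk hp
    obtain ⟨x, hx⟩ := exists_prime_orderOf_dvd_card' (G := D') p hpD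
    have hxo : orderOf ((x : K) : G) = p := by rw [Subgroup.orderOf_coe, Subgroup.orderOf_coe, hx]
    have hx1 : ((x : K) : G) ≠ 1 := fun e => hp.ne_one (by rw [← hxo, e, orderOf_one])
    have hp2 : p ≠ 2 := fun e => C.base.not_involution_of_two hzc.symm ((hmemD' _).1 x.2) (hxo.trans e)
    obtain ⟨hcov, i, hi⟩ := hlift p _ ((hmemD' _).1 x.2) (x : K).2 hx1
      ⟨1, by rw [pow_one, ← hxo, pow_orderOf_eq_one]⟩
    exact not_dvd_relIndex (inf_le_left : K ≤ stabilizer G c)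
      (IsPGroup.of_card (p := p) (n := 1) (by rw [Nat.card_zpowers, hxo, pow_one]))
      (Subgroup.zpowers_le.2 (x : K).2) hzc
      (fun w hw hwc => let ⟨g, hg, _, _, hgz⟩ := hcov w hw hwc; ⟨g, hg, hgz⟩)
      (by rw [hi]; exact fun h => hp2 ((Nat.prime_dvd_prime_iff_eq hp Nat.prime_two).1
        (hp.dvd_of_dvd_pow h))) hpK
  obtain ⟨N, hNn, hND, hNsup⟩ := exists_complement D' (C.solv D' inferInstance inferInstance hodd')
    hodd' hcop (by
      intro x hx hx1 ⟨p, n, hp, hxn⟩ a ha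
      haveI := Fact.mk hp
      have hw : (a : G)⁻¹ • z ∈ fixSet Ω (Subgroup.zpowers (x : G)) := by
        refine mem_fixSet_iff_le.2 (Subgroup.zpowers_le.2 ?_)
        rw [mem_stabilizer_iff]
        have h2 : ((a : G) * x * (a : G)⁻¹) • z = z := (mem_two_iff.1 ha).2
        calc (x : G) • (a : G)⁻¹ • z = (a : G)⁻¹ • ((a : G) * x * (a : G)⁻¹) • z := by
              simp [smul_smul, mul_assoc]
          _ = _ := by rw [h2]
      have hwc : (a : G)⁻¹ • z ≠ c := fun e => hzc (by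
        rw [inv_smul_eq_iff] at e; exact e.trans a.2.1)
      obtain ⟨hcov, -⟩ := hlift p (x : G) ((hmemD' _).1 hx) x.2 (fun e => hx1 (Subtype.ext e))
        ⟨n, by simpa using congrArg Subtype.val hxn⟩
      obtain ⟨g, hg, hgx, ⟨k, hgk⟩, hgz⟩ := hcov _ hw hwc
      refine ⟨⟨g, hg⟩, Subtype.ext hgx.eq, ⟨k, Subtype.ext (by simpa using hgk)⟩, ?_⟩
      refine (hmemD' _).2 (mem_two_iff.2 ⟨?_, ?_⟩)
      · show ((a : G) * g) • c = c
        rw [mul_smul, show g • c = c from hg.1, show (a : G) • c = c from a.2.1]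
      · show ((a : G) * g) • z = z
        rw [mul_smul, hgz, smul_inv_smul])
  haveI := hNn
  have hNcop : ∀ x : K, (orderOf x).Coprime (Nat.card D') → x ∈ N := by
    intro x hx
    obtain ⟨n, hn, d, hd, hnd⟩ := hNsup x
    have h2 : ((x : K) : K ⧸ N) ^ orderOf x = 1 := by
      rw [← QuotientGroup.mk_pow, pow_orderOf_eq_one, QuotientGroup.mk_one]
    have h3 : ((x : K) : K ⧸ N) ^ Nat.card D' = 1 := by
      rw [hnd, QuotientGroup.mk_mul, (QuotientGroup.eq_one_iff n).2 hn, one_mul,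
        ← QuotientGroup.mk_pow,
        orderOf_dvd_iff_pow_eq_one.1 (Subgroup.orderOf_dvd_natCard D' hd), QuotientGroup.mk_one]
    have h4 := pow_gcd_eq_one.mpr ⟨h2, h3⟩
    rw [hx.gcd_eq_one, pow_one] at h4
    exact (QuotientGroup.eq_one_iff _).1 h4
  have hNcard : (Nat.card N).Coprime (Nat.card D') := by
    refine hcop.symm.coprime_dvd_left ?_
    refine dvd_of_eq ?_
    have h1 : Nat.card N * Nat.card D' = Nat.card K := by
      rw [← Nat.card_prod]
      refine Nat.card_congr (Equiv.ofBijective (fun q : N × D' => (q.1 : K) * q.2) ⟨?_, ?_⟩)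
      · rintro ⟨n, d⟩ ⟨n', d'⟩ he
        have hmem : (n' : K)⁻¹ * n = d' * (d : K)⁻¹ := by
          rw [eq_mul_inv_iff_mul_eq, mul_assoc, inv_mul_eq_iff_eq_mul]; exact he
        have h1 : (n' : K)⁻¹ * n ∈ N ⊓ D' := ⟨N.mul_mem (N.inv_mem n'.2) n.2,
          hmem ▸ D'.mul_mem d'.2 (D'.inv_mem d.2)⟩
        rw [hND, mem_bot] at h1
        rw [h1, eq_comm, mul_inv_eq_one] at hmem
        rw [inv_mul_eq_one] at h1
        exact Prod.ext (Subtype.ext h1.symm) (Subtype.ext hmem.symm)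
      · intro a
        obtain ⟨n, hn, d, hd, rfl⟩ := hNsup a
        exact ⟨(⟨n, hn⟩, ⟨d, hd⟩), rfl⟩
    exact Nat.eq_of_mul_eq_mul_right Nat.card_pos (h1.trans D'.index_mul_card.symm)
  set Q : Subgroup G := N.map K.subtype with hQ
  have hQle : Q ≤ stabilizer G c := by
    rintro _ ⟨n, -, rfl⟩; exact n.2.1
  have hQnorm : stabilizer G c ≤ Subgroup.normalizer (Q : Set G) := fun g hg =>
    Coprime.mem_normalizer_of_forall_conj (by
      rintro _ ⟨n, hn, rfl⟩
      refine ⟨⟨g * n * g⁻¹, conj_mem_cenInv hg n.2⟩, hNcop _ ?_, rfl⟩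
      rw [← Subgroup.orderOf_coe]
      show (orderOf (g * (n : G) * g⁻¹)).Coprime _
      rw [orderOf_conj_eq, Subgroup.orderOf_coe]
      exact hNcard.coprime_dvd_left (Subgroup.orderOf_dvd_natCard N hn))
  have htrans : ∀ w : Ω, w ≠ c → ∃ n ∈ Q, n • z = w := by
    intro w hw
    obtain ⟨g, hg, hgz⟩ := C.concl.trans2 c z w hzc hw
    obtain ⟨k, hk, d, hd, rfl⟩ := decomp_of_cx C hzc g hg
    obtain ⟨n, hn, e, he, hne⟩ := hNsup ⟨k, hk⟩
    refine ⟨n, ⟨n, hn, rfl⟩, ?_⟩
    rw [← hgz, mul_smul, (mem_two_iff.1 hd).2, show k = (n : G) * e from congrArg Subtype.val hne,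
      mul_smul, (mem_two_iff.1 ((hmemD' _).1 he)).2]
  have hfree : ∀ g ∈ Q, ∀ x : Ω, x ≠ c → g • x = x → g = 1 := by
    intro g hg x hx hgx
    obtain ⟨m, hm, rfl⟩ := htrans x hx
    obtain ⟨v, hv, hveq⟩ : m⁻¹ * g * m ∈ Q := mul_mem (mul_mem (inv_mem hm) hg) hm
    have hfix : (v : G) • z = z := by
      rw [show (v : G) = m⁻¹ * g * m from hveq, mul_smul, mul_smul, hgx, inv_smul_smul]
    have h1 : v ∈ N ⊓ D' := ⟨hv, (hmemD' _).2 (mem_two_iff.2 ⟨v.2.1, hfix⟩)⟩
    rw [hND, Subgroup.mem_bot] at h1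
    rw [h1, map_one] at hveq
    calc g = m * (m⁻¹ * g * m) * m⁻¹ := by group
      _ = 1 := by rw [← hveq]; group
  have hinv : s ∈ Q := by
    have hsK : s ∈ K := mem_cenInv.2 ⟨hs.2, fun e he => C.comm c s hs e he⟩
    refine ⟨⟨s, hsK⟩, hNcop _ ?_, rfl⟩
    rw [Subgroup.orderOf_mk, hs.1]
    exact Nat.coprime_two_left.2 hodd'
  -- a `2`-group
  obtain ⟨r, hr, -⟩ : ∃ r ∈ swaps G c z, True := by
    obtain ⟨a, ha⟩ := C.base.exists_invAt c
    obtain ⟨b, hb⟩ := C.base.exists_invAt z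
    obtain ⟨r, hr, -⟩ := C.base.exists_mid ha hb hzc.symm
    exact ⟨r, hr, trivial⟩
  haveI : FaithfulSMul G Ω := ⟨fun {g g'} hgg => by
    refine inv_mul_eq_one.1 (C.faith _ fun x => ?_) |>.symm
    rw [mul_smul, hgg x, inv_smul_smul]⟩
  have hS : Cfsg.IsRankOneSetup G Ω c r Q :=
    { two_transitive := MulAction.is_two_pretransitive_iff.2 fun {a b a' b'} hab hab' => by
        obtain ⟨g, hg⟩ := C.base.trans a a'
        have hgb : g • b ≠ a' := fun e => hab (smul_left_cancel g (hg.trans e.symm))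
        obtain ⟨g', hg', hgy⟩ := C.concl.trans2 a' (g • b) b' hgb (Ne.symm hab')
        exact ⟨g' * g, by rw [mul_smul, hg, hg'], by rw [mul_smul, hgy]⟩
      mul_self := mul_self_eq_one hr.1
      ne_one := ne_one_of_involution hr.1
      not_mem := fun e => hzc (by rw [← hr.2]; exact e)
      le := hQle
      conj_mem := fun g hg x hx => (Subgroup.mem_normalizer_iff.1 (hQnorm hg) x).1 hx
      inf_eq_bot := by
        rw [hr.2, eq_bot_iff]
        exact fun g hg => Subgroup.mem_bot.2 (hfree g hg.1 z hzc hg.2)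
      sup_eq := by
        rw [hr.2]
        refine le_antisymm (sup_le hQle inf_le_left) fun g hg => ?_
        have hgz : g • z ≠ c := fun e => hzc (MulAction.injective g (e.trans hg.symm))
        obtain ⟨n, hn, hnz⟩ := htrans _ hgz
        have h1 := Subgroup.mul_mem_sup (S := Q) (T := stabilizer G c ⊓ stabilizer G z) hn
          (show n⁻¹ * g ∈ stabilizer G c ⊓ stabilizer G z from
            Subgroup.mem_inf.2 ⟨mul_mem (inv_mem (hQle hn)) hg, by
              show (n⁻¹ * g) • z = z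
              rw [mul_smul, ← hnz, inv_smul_smul]⟩)
        rwa [mul_inv_cancel_left] at h1
      even_card := even_iff_two_dvd.2 (hs.1 ▸ Subgroup.orderOf_dvd_natCard Q hinv)
      odd_card := by rw [hr.2]; exact C.base.odd_two hzc.symm }
  refine ⟨Q, hQle, hQnorm, RankOneTwo.isPGroup_two_Q hS ?_, fun x y hx hy => ?_, hfree⟩
  · obtain ⟨a, b, ha, hb, hab, hcab⟩ := C.four
    exact ⟨a, b, ne_one_of_involution ha, ne_one_of_involution hb, hab, mul_self_eq_one ha,
      mul_self_eq_one hb, hcab.eq⟩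
  · obtain ⟨n, hn, rfl⟩ := htrans x hx
    obtain ⟨m, hm, rfl⟩ := htrans y hy
    exact ⟨m * n⁻¹, mul_mem hm (inv_mem hn), by rw [mul_smul, inv_smul_smul]⟩

/-- Commuting involutions at each point give the kernel at each point. -/
theorem hasKernelAt_of_commAt (hodd : ∀ X : Type u, ∀ _ : Group X, ∀ _ : Finite X, Odd (Nat.card X) →
    Group.IsSolvable X) (h : Step G Ω) (hcomm : CommAt G Ω) (c : Ω) : HasKernelAt G Ω c :=
  kernel_of_cx (cx_of_step hodd h hcomm) c

/-- The complement step in the form used by the induction. -/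
theorem kernel_of_step_commAt (G : Type u) [Group G] [Finite G] (Ω : Type u) [MulAction G Ω]
    [Finite Ω] (h : Step G Ω) (hcomm : CommAt G Ω) (c : Ω) : HasKernelAt G Ω c :=
  hasKernelAt_of_commAt (fun X i1 i2 hX => @CfsgLib.PF.oddSolvable.{u} X i1 i2 hX) h hcomm c

end CfsgLib.BenderQ
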