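import Cfsg.Agent.Lib.BenderQ.ControlReg
import Cfsg.Agent.Lib.BenderTrans.Sylow
import Cfsg.Agent.Lib.OddOrder.FittingOf
import Cfsg.Agent.Lib.Solvable.CoprimeGeneration
import Cfsg.Agent.Lib.PLocal.NormalSq
import Cfsg.Agent.Lib.PF.OddOrder

/-!
Which `q`-subgroups of a two point stabiliser have their fixed points permuted regularly: all
noncyclic ones, and the cyclic ones whose socle is not bad.
-/

set_option autoImplicit false
set_option linter.unusedSectionVars false

namespace CfsgLib.BenderQ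

open CfsgLib.BenderTrans CfsgLib.Involutions CfsgLib.OddOrder MulAction

universe u v

variable {G : Type u} [Group G] {Ω : Type v} [MulAction G Ω]

theorem mem_normalizer_of_conj_le [Finite G] {H : Subgroup G} {g : G}
    (h : ∀ x ∈ H, g * x * g⁻¹ ∈ H) : g ∈ Subgroup.normalizer (H : Set G) := by
  have h2 : H.map (MulAut.conj g).toMonoidHom = H := Subgroup.eq_of_le_of_card_ge
    (by rintro _ ⟨x, hx, rfl⟩; exact h x hx)
    (Subgroup.card_map_of_injective (MulAut.conj g).injective).ge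
  refine Subgroup.mem_normalizer_iff.2 fun x => ⟨fun hx => h x hx, fun hx => ?_⟩
  rw [← h2] at hx
  obtain ⟨z, hz, hzx⟩ := hx
  simp only [MulEquiv.coe_toMonoidHom, MulAut.conj_apply] at hzx
  rwa [mul_left_cancel (mul_right_cancel hzx)] at hz

variable (G Ω) in
/-- The facts on elements of prime order of a two point stabiliser used for fusion control. -/
structure CtrlData (c y : Ω) : Prop where
  base : OneFix G Ω
  ne : c ≠ y
  two_le : 2 ≤ (invAt G c).ncard
  reg : ∀ d ∈ two G c y, (orderOf d).Prime → 2 < {z : Ω | d • z = z}.ncard →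
    ¬ IsBad G Ω (orderOf d) d → RegFix c y (Subgroup.zpowers d)
  bad_cent : ∀ d ∈ two G c y, IsBad G Ω (orderOf d) d → ∀ r ∈ swaps G c y, Commute r d →
    ∀ x ∈ two G c y, Commute x d → Commute x r
  dvd_notBad : ∀ d ∈ two G c y, orderOf d ∣ (invAt G c).ncard → ¬ IsBad G Ω (orderOf d) d

variable (G Ω) in
/-- The cyclic Sylow `q`-subgroups of the two point stabiliser part of `H` have socles that are not
bad. -/
def Controlled (c y : Ω) (H : Subgroup G) (q : ℕ) : Prop :=
  ∀ P : Subgroup G, SylowOf q P (H ⊓ two G c y) → IsCyclic P →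
    ∀ d ∈ P, orderOf d = q → ¬ IsBad G Ω q d

namespace CtrlData

variable [Finite G] [Finite Ω] {c y : Ω} (C : CtrlData G Ω c y)
include C

theorem controlled_of_dvd {H : Subgroup G} {q : ℕ} (hq : q ∣ (invAt G c).ncard) :
    Controlled G Ω c y H q := fun P hP _ d hd hdq h =>
  C.dvd_notBad d ((hP.1 hd).2) (by rwa [hdq]) (by rwa [hdq])

variable {q : ℕ} [hq : Fact q.Prime]

theorem cls_eq_one {r : G} (hr : r ∈ swaps G c y) (hqm : ¬ q ∣ (invAt G c).ncard) {W : Subgroup G}
    (hW : SylowOf q W (two G c y)) (hWn : r ∈ Subgroup.normalizer (W : Set G)) :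
    ∀ w ∈ W, Commute w r := by
  intro w hw
  have h1 : (cls W r).ncard = 1 := by
    rw [C.base.qpart_eq_cls C.ne hr hW hWn c, qpart, Nat.factorization_eq_zero_of_not_dvd hqm,
      pow_zero]
  obtain ⟨e, he⟩ := Set.ncard_eq_one.1 h1
  have h2 : w * r * w⁻¹ ∈ cls W r := ⟨w, hw, rfl⟩
  have h3 : r ∈ cls W r := ⟨1, one_mem _, by simp⟩
  rw [he, Set.mem_singleton_iff] at h2 h3
  exact mul_inv_eq_iff_eq_mul.1 (h2.trans h3.symm)

/-- For a prime not dividing the number of involutions no `q`-element is inverted by a swapper. -/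
theorem eq_one_of_inverted {r : G} (hr : r ∈ swaps G c y) (hqm : ¬ q ∣ (invAt G c).ncard) {a : G}
    (ha : a ∈ two G c y) (haq : IsPGroup q (Subgroup.zpowers a)) (hinv : r * a * r⁻¹ = a⁻¹) :
    a = 1 := by
  have hn : r ∈ Subgroup.normalizer (Subgroup.zpowers a : Set G) := by
    refine mem_normalizer_of_conj_le ?_
    rintro _ ⟨n, rfl⟩
    exact ⟨-n, by rw [← conj_zpow, hinv]; simp⟩
  obtain ⟨W, hW, haW, hWn⟩ := exists_invariant_sylowOf_ge (C.base.odd_two C.ne) hr.1
    (OneFix.swap_normalizes hr) (Subgroup.zpowers_le.2 ha) haq hn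
  have hc := (C.cls_eq_one hr hqm hW hWn a (haW (Subgroup.mem_zpowers a))).eq
  rw [← hc, mul_inv_cancel_right] at hinv
  have h2 : a ^ 2 ^ 1 = 1 := by rw [pow_one, sq]; nth_rw 2 [hinv]; rw [mul_inv_cancel]
  exact eq_one_of_two_elt C.base C.ne ha ⟨1, h2⟩

/-- An elementary abelian subgroup of order `q ^ 2` has an element that is not bad. -/
theorem exists_not_bad (hq2 : q ≠ 2) {E : Subgroup G} (hED : E ≤ two G c y)
    (hE : Cfsg.IsElementaryAbelian q E) (hcard : Nat.card E = q ^ 2) :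
    ∃ d ∈ E, orderOf d = q ∧ ¬ IsBad G Ω q d := by
  haveI := hE.1
  have hord : ∀ d ∈ E, d ≠ 1 → orderOf d = q := fun d hd hd1 =>
    orderOf_eq_prime (hE.2 d hd) hd1
  have hEne : ∃ d ∈ E, d ≠ 1 := by
    by_contra h
    push Not at h
    have h1 : E = ⊥ := (Subgroup.eq_bot_iff_forall E).2 h
    rw [h1, Subgroup.card_bot] at hcard
    exact absurd hcard.symm (Nat.one_lt_pow (by norm_num) hq.out.one_lt).ne'
  by_contra hcon
  push Not at hcon
  obtain ⟨d₀, hd₀, hd₀1⟩ := hEne
  by_cases hqm : q ∣ (invAt G c).ncard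
  · refine C.dvd_notBad d₀ (hED hd₀) (by rw [hord d₀ hd₀ hd₀1]; exact hqm) ?_
    rw [hord d₀ hd₀ hd₀1]; exact hcon d₀ hd₀ (hord d₀ hd₀ hd₀1)
  -- a swapper centralising `E`
  obtain ⟨r₀, hr₀⟩ : (swaps G c y).Nonempty := by
    refine Set.nonempty_of_ncard_ne_zero ?_
    rw [C.base.ncard_swaps C.ne]
    have := C.two_le
    omega
  have hEq : IsPGroup q E := IsPGroup.of_card hcard
  obtain ⟨W, hW, -, hWn⟩ := exists_invariant_sylowOf_ge (q := q) (C.base.odd_two C.ne) hr₀.1
    (OneFix.swap_normalizes hr₀) (bot_le : ⊥ ≤ two G c y) IsPGroup.of_bot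
    (mem_normalizer_of_conj_le fun x hx => by simp [Subgroup.mem_bot.1 hx])
  obtain ⟨W', hW', hEW'⟩ := exists_sylowOf_ge (p := q) hED hEq
  obtain ⟨e, he, rfl⟩ := exists_conj_sylowOf hW hW'
  set r := e * r₀ * e⁻¹ with hrdef
  have hr : r ∈ swaps G c y := by
    have h1 := conj_mem_swaps (g := e) hr₀
    rwa [(mem_two_iff.1 he).1, (mem_two_iff.1 he).2] at h1
  have hEr : ∀ a ∈ E, Commute r a := by
    intro a ha
    obtain ⟨w, hw, rfl⟩ := hEW' ha
    have h2 := (C.cls_eq_one hr₀ hqm hW hWn w hw).eq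
    show r * (e * w * e⁻¹) = e * w * e⁻¹ * r
    calc r * (e * w * e⁻¹) = e * (r₀ * w) * e⁻¹ := by rw [hrdef]; group
      _ = e * (w * r₀) * e⁻¹ := by rw [h2]
      _ = e * w * e⁻¹ * r := by rw [hrdef]; group
  have hrn : r ∈ Subgroup.normalizer (two G c y : Set G) := OneFix.swap_normalizes hr
  -- it centralises the `q'`-core
  set N := oPrime q (two G c y) with hN
  have hND : N ≤ two G c y := oPrime_le _
  have hNr : ∀ x ∈ N, Commute x r := by
    have hnc : ¬ IsCyclic E := fun h => by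
      obtain ⟨g, hg⟩ := h.exists_generator
      have h1 : Subgroup.zpowers g = ⊤ := (Subgroup.eq_top_iff' _).2 hg
      have h2 := Nat.card_zpowers g
      rw [h1, Subgroup.card_top, hcard] at h2
      have h3 : orderOf g ∣ q := orderOf_dvd_of_pow_eq_one (Subtype.ext (by
        simpa using hE.2 (g : G) g.2))
      have h4 := Nat.le_of_dvd hq.out.pos h3
      have := hq.out.two_le
      rw [← h2, sq] at h4
      nlinarith
    have hcop : (Nat.card E).Coprime (Nat.card N) := by
      rw [hcard]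
      exact Nat.Coprime.pow_left _ (oPrime_coprime (two G c y)).symm
    have hgen := CoprimeGeneration.iSup_centralizer_eq E N hnc (hED.trans (oPrime_normal _)) hcop
    intro x hx
    rw [← hgen] at hx
    have hle : (⨆ a ∈ {a : G | a ∈ E ∧ a ≠ 1}, N ⊓ Subgroup.centralizer {a}) ≤
        Subgroup.centralizer {r} := by
      refine iSup₂_le fun a ha z hz => ?_
      obtain ⟨haE, ha1⟩ := ha
      refine Subgroup.mem_centralizer_singleton_iff.2 ?_
      refine (C.bad_cent a (hED haE) ?_ r hr (hEr a haE) z (hND hz.1)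
        (Subgroup.mem_centralizer_singleton_iff.1 hz.2)).eq
      rw [hord a haE ha1]
      exact hcon a haE (hord a haE ha1)
    exact Subgroup.mem_centralizer_singleton_iff.1 (hle hx)
  -- so it centralises the Fitting subgroup and then everything
  have hrD : ∀ x ∈ two G c y, r * x * r⁻¹ ∈ two G c y := fun x hx =>
    (Subgroup.mem_normalizer_iff.1 hrn x).1 hx
  have hFr : Cfsg.fittingOf (two G c y) ≤ Subgroup.centralizer {r} := by
    refine fittingOf_le_of_forall fun p hp => ?_
    haveI := Fact.mk hp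
    intro x hx
    refine Subgroup.mem_centralizer_singleton_iff.2 ?_
    by_cases hpq : p = q
    · subst hpq
      set O := opCore p (two G c y)
      have hrO : r ∈ Subgroup.normalizer (O : Set G) := by
        refine mem_normalizer_of_conj_le ?_
        intro z hz
        have h1 : O.map (MulAut.conj r).toMonoidHom ≤ O := by
          refine le_opCore ?_ ?_ ((opCore_isPGroup _ _).map _)
          · rintro _ ⟨w, hw, rfl⟩; exact hrD w (opCore_le _ _ hw)
          · intro g hg
            refine mem_normalizer_of_conj_le ?_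
            rintro _ ⟨w, hw, rfl⟩
            have hg' : r⁻¹ * g * r ∈ two G c y := by
              simpa using (Subgroup.mem_normalizer_iff.1 (inv_mem hrn) g).1 hg
            refine ⟨r⁻¹ * g * r * w * (r⁻¹ * g * r)⁻¹, conj_mem_of_le_normalizer
              (opCore_normal _ _) hg' hw, ?_⟩
            simp only [MulEquiv.coe_toMonoidHom, MulAut.conj_apply]
            group
        exact h1 ⟨z, hz, rfl⟩
      have hb : r * x * r⁻¹ * x⁻¹ = 1 := by
        have hrx := (Subgroup.mem_normalizer_iff.1 hrO x).1 hx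
        refine C.eq_one_of_inverted hr hqm (mul_mem (hrD x (opCore_le _ _ hx))
          (inv_mem (opCore_le _ _ hx))) ((opCore_isPGroup p (two G c y)).to_le
            (Subgroup.zpowers_le.2 (mul_mem hrx (inv_mem hx)))) ?_
        have hr2 : r * r = 1 := mul_self_eq_one hr.1
        have hri : r⁻¹ = r := inv_eq_of_mul_eq_one_right hr2
        simp only [mul_inv_rev, inv_inv, hri, mul_assoc]
        simp only [← mul_assoc, hr2, one_mul]
      exact (mul_inv_eq_iff_eq_mul.1 (mul_inv_eq_one.1 hb)).symm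
    · refine (hNr x (le_oPrime (opCore_le _ _) (opCore_normal _ _) ?_ hx)).eq
      obtain ⟨n, hn⟩ := (opCore_isPGroup p (two G c y)).exists_card_eq
      rw [hn]
      exact Nat.Coprime.pow_left _ ((Nat.coprime_primes hp hq.out).2 hpq)
  have hall : ∀ x ∈ two G c y, Commute x r := by
    intro x hx
    set b := x⁻¹ * (r * x * r⁻¹) with hbdef
    have hbD : b ∈ two G c y := mul_mem (inv_mem hx) (hrD x hx)
    have hbF : b ∈ Cfsg.fittingOf (two G c y) := by
      refine centralizer_fittingOf_le (@PF.oddSolvable _ _ _ (C.base.odd_two C.ne))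
        ⟨hbD, Subgroup.mem_centralizer_iff.2 fun f hf => ?_⟩
      have h1 : r * f * r⁻¹ = f := mul_inv_eq_iff_eq_mul.2
        (Subgroup.mem_centralizer_singleton_iff.1 (hFr hf)).symm
      have h2 : x * f * x⁻¹ ∈ Cfsg.fittingOf (two G c y) :=
        conj_mem_of_le_normalizer (fittingOf_normal _) hx hf
      have h3 : r * (x * f * x⁻¹) * r⁻¹ = x * f * x⁻¹ := mul_inv_eq_iff_eq_mul.2
        (Subgroup.mem_centralizer_singleton_iff.1 (hFr h2)).symm
      calc f * b = x⁻¹ * (x * f * x⁻¹) * (r * x * r⁻¹) := by rw [hbdef]; group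
        _ = x⁻¹ * (r * (x * f * x⁻¹) * r⁻¹) * (r * x * r⁻¹) := by rw [h3]
        _ = x⁻¹ * (r * x * r⁻¹) * (r * f * r⁻¹) := by group
        _ = b * f := by rw [h1, hbdef]
    have h1 : r * b * r⁻¹ = b := mul_inv_eq_iff_eq_mul.2
      (Subgroup.mem_centralizer_singleton_iff.1 (hFr hbF)).symm
    have h2 : r * b * r⁻¹ = b⁻¹ := by
      have hri : r⁻¹ = r := inv_eq_of_mul_eq_one_right (mul_self_eq_one hr.1)
      calc r * b * r⁻¹ = (r * x * r⁻¹)⁻¹ * (r * r) * x * (r⁻¹ * r⁻¹) := by rw [hbdef]; group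
        _ = b⁻¹ := by rw [hri, mul_self_eq_one hr.1, mul_one, mul_one, hbdef, hri]; group
    have h3 : b = 1 := eq_one_of_two_elt C.base C.ne hbD ⟨1, by
      rw [pow_one, sq]
      nth_rw 2 [← h1]
      rw [h2, mul_inv_cancel]⟩
    rw [hbdef, inv_mul_eq_one] at h3
    exact (mul_inv_eq_iff_eq_mul.1 h3.symm).symm
  -- hence there is only one swapper
  have h1 : swaps G c y = {r} := by
    refine Set.eq_singleton_iff_unique_mem.2 ⟨hr, fun r' hr' => ?_⟩
    obtain ⟨d, hd, -, rfl⟩ := C.base.exists_conj_swaps C.ne hr hr'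
    rw [(hall d hd).eq, mul_inv_cancel_right]
  have h2 := C.base.ncard_swaps (G := G) C.ne
  rw [h1, Set.ncard_singleton] at h2
  have := C.two_le
  omega

/-- Noncyclic `q`-subgroups of the two point stabiliser. -/
theorem regFix_of_not_isCyclic (hq2 : q ≠ 2) {S : Subgroup G} (hSD : S ≤ two G c y)
    (hS : IsPGroup q S) (hnc : ¬ IsCyclic S) : RegFix c y S := by
  by_cases hex : ∃ d ∈ S, ∀ z : Ω, d • z = z → z = c ∨ z = y
  · obtain ⟨d, hd, hfix⟩ := hex
    exact regFix_of_fix_pair C.base C.ne (fun u hu => (mem_two_iff.1 (hSD hu)).2)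
      fun z hz => hfix z (hz d hd)
  push Not at hex
  obtain ⟨F, -, hFn, hFe, hFc⟩ := CfsgLib.PLocal.exists_normal_sq_of_not_isCyclic (R := S) hq2 hS ⊤
    fun h => hnc (Subgroup.topEquiv.isCyclic.1 h)
  haveI := hFn
  set E := F.map S.subtype with hE
  have hES : E ≤ S := Subgroup.map_subtype_le F
  have hSE : S ≤ Subgroup.normalizer (E : Set G) := map_subtype_normalized F
  have hEe : Cfsg.IsElementaryAbelian q E := by
    haveI := hFe.1
    refine ⟨⟨⟨fun a b => ?_⟩⟩, ?_⟩
    · obtain ⟨-, a', ha', rfl⟩ := a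
      obtain ⟨-, b', hb', rfl⟩ := b
      have h1 := congrArg Subtype.val ((IsMulCommutative.is_comm (M := F)).comm ⟨a', ha'⟩ ⟨b', hb'⟩)
      exact Subtype.ext (by simpa using congrArg (fun s : S => (s : G)) h1)
    · rintro _ ⟨a, ha, rfl⟩
      rw [← map_pow, hFe.2 a ha, map_one]
  obtain ⟨d, hdE, hdq, hbad⟩ := C.exists_not_bad hq2 (hES.trans hSD) hEe
    (by rw [hE, Subgroup.card_map_of_injective S.subtype_injective, hFc])
  obtain ⟨z, hz, hzc, hzy⟩ := hex d (hES hdE)
  have hdD := hSD (hES hdE)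
  have h3 : 2 < {z : Ω | d • z = z}.ncard := (Set.two_lt_ncard (Set.toFinite _)).2
    ⟨c, (mem_two_iff.1 hdD).1, y, (mem_two_iff.1 hdD).2, z, hz, C.ne, Ne.symm hzc, Ne.symm hzy⟩
  have h4 := C.reg d hdD (hdq.symm ▸ hq.out) h3 (hdq.symm ▸ hbad)
  have h5 : RegFix c y E := by
    refine h4.of_le C.base C.ne (Subgroup.zpowers_le.2 hdE) (hES.trans hSD) ?_
    intro e he
    refine mem_normalizer_of_conj_le fun x hx => ?_
    haveI := hEe.1
    have hcom : e * x = x * e := congrArg Subtype.val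
      ((IsMulCommutative.is_comm (M := E)).comm ⟨e, he⟩ ⟨x, Subgroup.zpowers_le.2 hdE hx⟩)
    rwa [hcom, mul_inv_cancel_right]
  exact h5.of_le C.base C.ne hES hSD hSE

/-- Cyclic `q`-groups whose socle is not bad. -/
theorem regFix_of_socle {S : Subgroup G} (hSD : S ≤ two G c y)
    (hcyc : IsCyclic S) {d : G} (hd : d ∈ S) (hdq : orderOf d = q) (hbad : ¬ IsBad G Ω q d) :
    RegFix c y S := by
  have hdD := hSD hd
  by_cases hex : ∀ z : Ω, d • z = z → z = c ∨ z = y
  · exact regFix_of_fix_pair C.base C.ne (fun u hu => (mem_two_iff.1 (hSD hu)).2)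
      fun z hz => hex z (hz d hd)
  push Not at hex
  obtain ⟨z, hz, hzc, hzy⟩ := hex
  have h3 : 2 < {z : Ω | d • z = z}.ncard := (Set.two_lt_ncard (Set.toFinite _)).2
    ⟨c, (mem_two_iff.1 hdD).1, y, (mem_two_iff.1 hdD).2, z, hz, C.ne, Ne.symm hzc, Ne.symm hzy⟩
  have h4 := C.reg d hdD (hdq.symm ▸ hq.out) h3 (hdq.symm ▸ hbad)
  refine h4.of_le C.base C.ne (Subgroup.zpowers_le.2 hd) hSD fun e he => ?_
  refine mem_normalizer_of_conj_le fun x hx => ?_
  letI : CommGroup S := IsCyclic.commGroup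
  have hcom : e * x = x * e := congrArg Subtype.val
    (mul_comm (⟨e, he⟩ : S) ⟨x, Subgroup.zpowers_le.2 hd hx⟩)
  rwa [hcom, mul_inv_cancel_right]

end CtrlData

end CfsgLib.BenderQ
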