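import Cfsg.Agent.Lib.BenderQ.Kernel
import Cfsg.Agent.Lib.BenderTrans.Local

/-!
Subgroups of a two point stabiliser whose fixed points other than the first one are permuted
regularly by a centralising 2-subgroup.
-/

set_option autoImplicit false
set_option linter.unusedSectionVars false

namespace CfsgLib.BenderQ

open CfsgLib.BenderTrans CfsgLib.Involutions CfsgLib.OddOrder MulAction

universe u v

variable {G : Type u} [Group G] {Ω : Type v} [MulAction G Ω]

/-- The 2-elements fixing `c` and centralising `U` form a group transitive on the points other than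
`c` fixed by `U`. -/
def RegFix (c y : Ω) (U : Subgroup G) : Prop :=
  ∃ Q : Subgroup G, IsPGroup 2 Q ∧ (∀ g ∈ Q, g • c = c) ∧ (∀ g ∈ Q, ∀ u ∈ U, Commute g u) ∧
    (∀ g : G, g • c = c → (∃ k : ℕ, g ^ 2 ^ k = 1) → (∀ u ∈ U, Commute g u) → g ∈ Q) ∧
    ∀ z : Ω, z ≠ c → (∀ u ∈ U, u • z = z) → ∃ g ∈ Q, g • y = z

theorem exists_pow_of_mem {Q : Subgroup G} (hQ : IsPGroup 2 Q) {g : G} (hg : g ∈ Q) :
    ∃ k : ℕ, g ^ 2 ^ k = 1 := by
  obtain ⟨k, hk⟩ := hQ ⟨g, hg⟩
  exact ⟨k, by simpa using congrArg Subtype.val hk⟩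

variable [Finite G]

/-- A 2-element of a two point stabiliser is trivial. -/
theorem eq_one_of_two_elt (h : OneFix G Ω) {c y : Ω} (hne : c ≠ y) {g : G}
    (hg : g ∈ two G c y) (hk : ∃ k : ℕ, g ^ 2 ^ k = 1) : g = 1 := by
  obtain ⟨k, hk⟩ := hk
  have h1 : orderOf g ∣ Nat.card (two G c y) := Subgroup.orderOf_dvd_natCard _ hg
  have h2 : Nat.Coprime (2 ^ k) (Nat.card (two G c y)) :=
    Nat.Coprime.pow_left _ ((h.odd_two hne).coprime_two_left)
  exact orderOf_eq_one_iff.1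
    (Nat.eq_one_of_dvd_coprimes h2 (orderOf_dvd_of_pow_eq_one hk) h1)

/-- The centralising 2-subgroup is regular. -/
theorem inj_of_two_group (h : OneFix G Ω) {c y : Ω} (hne : c ≠ y) {Q : Subgroup G}
    (hQ : IsPGroup 2 Q) (hc : ∀ g ∈ Q, g • c = c) {g g' : G} (hg : g ∈ Q) (hg' : g' ∈ Q)
    (he : g • y = g' • y) : g = g' := by
  have h1 : g'⁻¹ * g = 1 := eq_one_of_two_elt h hne
    (mem_two_iff.2 ⟨hc _ (mul_mem (inv_mem hg') hg), by rw [mul_smul, he, inv_smul_smul]⟩)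
    (exists_pow_of_mem hQ (mul_mem (inv_mem hg') hg))
  exact (inv_mul_eq_one.1 h1).symm

/-- A subgroup fixing only two points is centralised by no nontrivial 2-element at the first. -/
theorem eq_one_of_fix_pair (h : OneFix G Ω) {c y : Ω} (hne : c ≠ y) {U : Subgroup G}
    (hU : ∀ u ∈ U, u • y = y) (hfix : ∀ z : Ω, (∀ u ∈ U, u • z = z) → z = c ∨ z = y)
    {g : G} (hgc : g • c = c) (hk : ∃ k : ℕ, g ^ 2 ^ k = 1) (hcom : ∀ u ∈ U, Commute g u) :
    g = 1 := by
  obtain ⟨k, hk⟩ := hk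
  induction k with
  | zero => simpa using hk
  | succ k ih =>
    refine ih ?_
    by_contra ht
    have ht2 : orderOf (g ^ 2 ^ k) = 2 := by
      refine orderOf_eq_prime ?_ ht
      rw [← pow_mul, ← pow_succ]
      exact hk
    have htc : g ^ 2 ^ k • c = c := (stabilizer G c).pow_mem (show g ∈ stabilizer G c from hgc) _
    have hty : ∀ u ∈ U, u • (g ^ 2 ^ k • y) = g ^ 2 ^ k • y := fun u hu => by
      rw [← mul_smul, ← ((hcom u hu).pow_left (2 ^ k)).eq, mul_smul, hU u hu]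
    rcases hfix _ hty with e | e
    · exact hne (MulAction.injective (g ^ 2 ^ k) (htc.trans e.symm))
    · exact hne (h.unique _ ht2 c y htc e)

/-- A subgroup fixing only the two given points. -/
theorem regFix_of_fix_pair (h : OneFix G Ω) {c y : Ω} (hne : c ≠ y) {U : Subgroup G}
    (hU : ∀ u ∈ U, u • y = y) (hfix : ∀ z : Ω, (∀ u ∈ U, u • z = z) → z = c ∨ z = y) :
    RegFix c y U :=
  ⟨⊥, IsPGroup.of_bot, fun g hg => by rw [Subgroup.mem_bot.1 hg, one_smul],
    fun g hg u _ => by rw [Subgroup.mem_bot.1 hg]; exact Commute.one_left u,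
    fun g hgc hk hcom => Subgroup.mem_bot.2 (eq_one_of_fix_pair h hne hU hfix hgc hk hcom),
    fun z hzc hz => ⟨1, one_mem _, by
      rw [one_smul]
      exact ((hfix z hz).resolve_left hzc).symm⟩⟩

/-- The property passes to an overgroup that normalises. -/
theorem RegFix.of_le (h : OneFix G Ω) {c y : Ω} (hne : c ≠ y) {U S : Subgroup G}
    (hU : RegFix c y U) (hUS : U ≤ S) (hS : S ≤ two G c y)
    (hn : S ≤ Subgroup.normalizer (U : Set G)) : RegFix c y S := by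
  obtain ⟨Q, hQ, hQc, hQcom, hQmax, hQtr⟩ := hU
  refine ⟨Q ⊓ Subgroup.centralizer (S : Set G), hQ.to_le inf_le_left, fun g hg => hQc g hg.1,
    fun g hg u hu => (Subgroup.mem_centralizer_iff.1 hg.2 u hu).symm,
    fun g hgc hk hcom => ⟨hQmax g hgc hk fun u hu => hcom u (hUS hu),
      Subgroup.mem_centralizer_iff.2 fun s hs => (hcom s hs).symm.eq⟩, ?_⟩
  intro z hzc hz
  obtain ⟨g, hg, rfl⟩ := hQtr z hzc fun u hu => hz u (hUS hu)
  refine ⟨g, ⟨hg, Subgroup.mem_centralizer_iff.2 fun s hs => ?_⟩, rfl⟩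
  have hsc := (mem_two_iff.1 (hS hs)).1
  have hsy := (mem_two_iff.1 (hS hs)).2
  have hmem : s * g * s⁻¹ ∈ Q := by
    refine hQmax _ ?_ ?_ fun u hu => ?_
    · rw [mul_smul, mul_smul, show s⁻¹ • c = c from inv_smul_eq_iff.2 hsc.symm, hQc g hg, hsc]
    · obtain ⟨k, hk⟩ := exists_pow_of_mem hQ hg
      exact ⟨k, by rw [conj_pow, hk, mul_one, mul_inv_cancel]⟩
    · have h1 : s⁻¹ * u * s ∈ U := by
        simpa using (Subgroup.mem_normalizer_iff.1 (hn (inv_mem hs)) u).1 hu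
      have h2 := (hQcom g hg _ h1).eq
      show s * g * s⁻¹ * u = u * (s * g * s⁻¹)
      calc s * g * s⁻¹ * u = s * (g * (s⁻¹ * u * s)) * s⁻¹ := by group
        _ = s * ((s⁻¹ * u * s) * g) * s⁻¹ := by rw [h2]
        _ = u * (s * g * s⁻¹) := by group
  have hy : (s * g * s⁻¹) • y = g • y := by
    rw [mul_smul, mul_smul, show s⁻¹ • y = y from inv_smul_eq_iff.2 hsy.symm, hz s hs]
  have h3 := inj_of_two_group h hne hQ hQc hmem hg hy
  exact (mul_inv_eq_iff_eq_mul.1 h3)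

variable [Finite Ω]

/-- A `q`-group normalising such a subgroup fixes, up to conjugation by a centralising 2-element,
both points. -/
theorem RegFix.exists_fixed (h : OneFix G Ω) {c y : Ω} (hne : c ≠ y) {q : ℕ} [hq : Fact q.Prime]
    (hq2 : q ≠ 2) {S P : Subgroup G} (hS : RegFix c y S) (hSD : S ≤ two G c y)
    (hP : IsPGroup q P) (hPc : ∀ p ∈ P, p • c = c) (hn : P ≤ Subgroup.normalizer (S : Set G)) :
    ∃ k : G, k • c = c ∧ (∃ j : ℕ, k ^ 2 ^ j = 1) ∧ (∀ s ∈ S, Commute k s) ∧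
      ∀ p ∈ P, k⁻¹ * p * k ∈ two G c y := by
  obtain ⟨Q, hQ, hQc, hQcom, -, hQtr⟩ := hS
  set F : Set Ω := {z | z ≠ c ∧ ∀ u ∈ S, u • z = z} with hF
  have himg : F = (fun g => g • y) '' (Q : Set G) := by
    ext z
    constructor
    · rintro ⟨hzc, hz⟩
      obtain ⟨g, hg, e⟩ := hQtr z hzc hz
      exact ⟨g, hg, e⟩
    · rintro ⟨g, hg, rfl⟩
      refine ⟨fun e => hne (MulAction.injective g ((hQc g hg).trans e.symm)), fun u hu => ?_⟩
      show u • g • y = g • y
      rw [← mul_smul, ← (hQcom g hg u hu).eq, mul_smul, (mem_two_iff.1 (hSD hu)).2]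
  have hcard : F.ncard = Nat.card Q := by
    rw [himg, Set.ncard_image_of_injOn fun g hg g' hg' e => inj_of_two_group h hne hQ hQc hg hg' e]
    exact (Nat.card_coe_set_eq _).symm
  obtain ⟨z, ⟨hzc, hzS⟩, hzP⟩ : ∃ z ∈ F, z ∈ fixSet Ω P := by
    have h1 := ncard_modEq_fixed hP F fun p hp z hz => ⟨fun e => hz.1
      (MulAction.injective p (e.trans (hPc p hp).symm)), smul_mem_fixSet (hn hp) hz.2⟩
    by_contra hno
    push Not at hno
    have h2 : F ∩ fixSet Ω P = ∅ := Set.eq_empty_of_forall_notMem fun z hz => hno z hz.1 hz.2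
    rw [h2, Set.ncard_empty, hcard] at h1
    obtain ⟨k, hk⟩ := hQ.exists_card_eq
    rw [hk] at h1
    exact hq2 ((Nat.prime_dvd_prime_iff_eq hq.out Nat.prime_two).1
      (hq.out.dvd_of_dvd_pow (Nat.dvd_of_mod_eq_zero h1)))
  obtain ⟨k, hk, rfl⟩ := hQtr z hzc hzS
  refine ⟨k, hQc k hk, exists_pow_of_mem hQ hk, hQcom k hk, fun p hp => mem_two_iff.2 ⟨?_, ?_⟩⟩
  · rw [mul_smul, mul_smul, hQc k hk, hPc p hp, inv_smul_eq_iff.2 (hQc k hk).symm]
  · rw [mul_smul, mul_smul, hzP p hp, inv_smul_smul]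

/-- A Sylow subgroup of the two point stabiliser part of `H` is a Sylow subgroup of `H`. -/
theorem RegFix.sylowOf (h : OneFix G Ω) {c y : Ω} (hne : c ≠ y) {q : ℕ} [Fact q.Prime] (hq2 : q ≠ 2)
    {S H : Subgroup G} (hS : SylowOf q S (H ⊓ two G c y)) (hreg : RegFix c y S)
    (hH : ∀ g ∈ H, g • c = c)
    (hH2 : ∀ g : G, g • c = c → (∃ k : ℕ, g ^ 2 ^ k = 1) → (∀ s ∈ S, Commute g s) → g ∈ H) :
    SylowOf q S H := by
  refine ⟨hS.1.trans inf_le_left, hS.2.1, fun P hPH hP hSP => ?_⟩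
  by_contra hne'
  have hlt : S < P := lt_of_le_of_ne hSP (Ne.symm hne')
  have hgrow := Transitivity.normalizer_grows hP hlt
  set N := Subgroup.normalizer (S : Set G) ⊓ P with hN
  obtain ⟨k, hkc, hk2, hkS, hkP⟩ := hreg.exists_fixed h hne hq2 (hS.1.trans inf_le_right)
    (hP.to_le (inf_le_right : N ≤ P)) (fun p hp => hH p (hPH hp.2)) inf_le_left
  have hkH := hH2 k hkc hk2 hkS
  have h1 := hS.2.2 (N.map (MulAut.conj k⁻¹).toMonoidHom) ?_
    ((hP.to_le inf_le_right).map _) ?_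
  · have h2 : Nat.card N = Nat.card S := by
      rw [← h1, Subgroup.card_map_of_injective (MulAut.conj k⁻¹).injective]
    omega
  · rintro _ ⟨p, hp, rfl⟩
    simp only [MulEquiv.coe_toMonoidHom, MulAut.conj_apply, inv_inv]
    exact Subgroup.mem_inf.2 ⟨mul_mem (mul_mem (inv_mem hkH) (hPH hp.2)) hkH, hkP p hp⟩
  · intro s hs
    refine ⟨s, ⟨Subgroup.le_normalizer hs, hSP hs⟩, ?_⟩
    simp only [MulEquiv.coe_toMonoidHom, MulAut.conj_apply, inv_inv]
    rw [mul_assoc, ← (hkS s hs).eq, inv_mul_cancel_left]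

end CfsgLib.BenderQ
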