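import Cfsg.Agent.Lib.BenderQ.Main
import Cfsg.Agent.Lib.BenderQ.Complement
import Cfsg.Agent.Lib.BenderQ.CoreTrivialProof

/-!
Bender's theorem, reduced to the commutation of the involutions with the same centre.
-/

set_option autoImplicit false

namespace CfsgLib.BenderQ

open CfsgLib.BenderTrans MulAction

universe u

/-- Bender's theorem from the step alone. -/
theorem benderKernel_of_stepGoal (hstep : StepGoal.{u}) : BenderKernel.{u} :=
  benderKernel_of_step coreTrivialAll hstep

/-- Bender's theorem from the fact that in the inductive setting involutions with the same centre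
commute. -/
theorem benderKernel_of_commAt
    (hcomm : ∀ (G : Type u) [Group G] [Finite G] (Ω : Type u) [MulAction G Ω] [Finite Ω],
      Step G Ω → CommAt G Ω) : BenderKernel.{u} :=
  benderKernel_of_stepGoal (stepGoal_of_cases hcomm fun G _ _ Ω _ _ => kernel_of_step_commAt G Ω)

end CfsgLib.BenderQ
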