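import Mathlib

/-!
Two elementary extremal facts for the kernel of a projection: a real function with mean zero, square mean equal to its
maximum and small cubic defect takes only the values `-1` and the maximum, and a symmetric subset of an abelian group
that meets each of its translates as little as possible is the complement of a subgroup.
-/

set_option autoImplicit false

namespace CfsgLib.BenderQ.Extremal

open Finset

section Real

variable {X : Type*} [Fintype X]

/-- The defect of a centred function bounded by `K` with square mean `K` is at least one. -/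
theorem card_le_defect {g : X → ℝ} {K : ℝ} (hK : 0 < K) (hle : ∀ x, g x ≤ K) (h1 : ∑ x, g x = 0)
    (h2 : ∑ x, g x ^ 2 = Fintype.card X * K) :
    (Fintype.card X : ℝ) ≤ ∑ x, g x ^ 2 * (1 - g x / K) := by
  have key : ∑ x, (g x + 1) ^ 2 * (1 - g x / K) = ∑ x, g x ^ 2 * (1 - g x / K) - (Fintype.card X : ℝ) := by
    have e : ∀ x, (g x + 1) ^ 2 * (1 - g x / K) =
        g x ^ 2 * (1 - g x / K) + (2 - 1 / K) * g x - 2 / K * g x ^ 2 + 1 := fun x => by ring
    simp only [e, sum_add_distrib, sum_sub_distrib, ← mul_sum, h1, h2, sum_const, nsmul_eq_mul,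
      card_univ]
    field_simp
    ring
  have : 0 ≤ ∑ x, (g x + 1) ^ 2 * (1 - g x / K) := sum_nonneg fun x _ =>
    mul_nonneg (sq_nonneg _) (sub_nonneg.2 (by rw [div_le_one hK]; exact hle x))
  linarith

/-- In the case of equality there are only two values. -/
theorem eq_neg_one_or_eq_max {g : X → ℝ} {K : ℝ} (hK : 0 < K) (hle : ∀ x, g x ≤ K) (h1 : ∑ x, g x = 0)
    (h2 : ∑ x, g x ^ 2 = Fintype.card X * K)
    (hθ : ∑ x, g x ^ 2 * (1 - g x / K) ≤ (Fintype.card X : ℝ)) (x : X) : g x = -1 ∨ g x = K := by
  have key : ∑ x, (g x + 1) ^ 2 * (1 - g x / K) = ∑ x, g x ^ 2 * (1 - g x / K) - (Fintype.card X : ℝ) := by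
    have e : ∀ x, (g x + 1) ^ 2 * (1 - g x / K) =
        g x ^ 2 * (1 - g x / K) + (2 - 1 / K) * g x - 2 / K * g x ^ 2 + 1 := fun x => by ring
    simp only [e, sum_add_distrib, sum_sub_distrib, ← mul_sum, h1, h2, sum_const, nsmul_eq_mul,
      card_univ]
    field_simp
    ring
  have h0 : ∀ y, 0 ≤ (g y + 1) ^ 2 * (1 - g y / K) := fun y =>
    mul_nonneg (sq_nonneg _) (sub_nonneg.2 (by rw [div_le_one hK]; exact hle y))
  have hsum : ∑ x, (g x + 1) ^ 2 * (1 - g x / K) = 0 :=
    le_antisymm (by linarith) (sum_nonneg fun y _ => h0 y)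
  have hx := (sum_eq_zero_iff_of_nonneg fun y _ => h0 y).1 hsum x (mem_univ x)
  rcases mul_eq_zero.1 hx with h | h
  · left; have := pow_eq_zero_iff (two_ne_zero) |>.1 h; linarith
  · right
    field_simp at h
    linarith

end Real

section Translate

variable {M : Type*} [AddCommGroup M] [Fintype M] [DecidableEq M]

/-- A set meets each translate in at least twice its size less the size of the group. -/
theorem two_mul_card_le (A : Finset M) (l : M) :
    2 * A.card ≤ Fintype.card M + (A.filter fun a => a - l ∈ A).card := by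
  have hs : (A.filter fun a => a - l ∈ A) = A ∩ A.image (· + l) := by
    ext a
    simp only [mem_filter, mem_inter, mem_image]
    exact ⟨fun h => ⟨h.1, a - l, h.2, sub_add_cancel a l⟩,
      fun ⟨h, b, hb, e⟩ => ⟨h, by rw [← e, add_sub_cancel_right]; exact hb⟩⟩
  have h1 := card_union_add_card_inter A (A.image (· + l))
  rw [card_image_of_injective _ (add_left_injective l)] at h1
  have h2 := card_le_univ (A ∪ A.image (· + l))
  rw [hs]
  omega

/-- If a symmetric set avoiding `0` meets each translate by its own elements as little as possible, its complement is a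
subgroup. -/
theorem exists_subgroup_compl (A : Finset M) (h0 : (0 : M) ∉ A) (hneg : ∀ a ∈ A, -a ∈ A)
    (hD : ∀ l ∈ A, Fintype.card M + (A.filter fun a => a - l ∈ A).card ≤ 2 * A.card) :
    ∃ B : AddSubgroup M, ∀ x, x ∈ B ↔ x ∉ A := by
  have cover : ∀ l ∈ A, ∀ x : M, x ∈ A ∨ x - l ∈ A := by
    intro l hl x
    have hs : (A.filter fun a => a - l ∈ A) = A ∩ A.image (· + l) := by
      ext a
      simp only [mem_filter, mem_inter, mem_image]
      exact ⟨fun h => ⟨h.1, a - l, h.2, sub_add_cancel a l⟩,
        fun ⟨h, b, hb, e⟩ => ⟨h, by rw [← e, add_sub_cancel_right]; exact hb⟩⟩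
    have h1 := card_union_add_card_inter A (A.image (· + l))
    rw [card_image_of_injective _ (add_left_injective l), ← hs] at h1
    have hu : A ∪ A.image (· + l) = univ :=
      eq_univ_of_card _ (le_antisymm (card_le_univ _) (by have := hD l hl; omega))
    have hx := hu.ge (mem_univ x)
    rw [mem_union, mem_image] at hx
    rcases hx with h | ⟨b, hb, e⟩
    · exact Or.inl h
    · right; rw [← e, add_sub_cancel_right]; exact hb
  refine ⟨{
    carrier := {x | x ∉ A}
    zero_mem' := h0
    add_mem' := fun {a b} ha hb hab => ?_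
    neg_mem' := fun {a} ha h => ha (by simpa using hneg _ h) }, fun x => Iff.rfl⟩
  rcases cover (a + b) hab a with h | h
  · exact ha h
  · exact hb (by simpa using hneg _ h)

end Translate

end CfsgLib.BenderQ.Extremal
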