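import Cfsg.Agent.Lib.BenderQ.Kernel
import Cfsg.Agent.Lib.PF.OddOrder

/-!
The induction behind Bender's theorem: a proof of the step gives the theorem.
-/

set_option autoImplicit false

namespace CfsgLib.BenderQ

open CfsgLib.BenderTrans MulAction

universe u

/-- The induction step of Bender's theorem. -/
def StepGoal : Prop :=
  ∀ (G : Type u) [Group G] [Finite G] (Ω : Type u) [MulAction G Ω] [Finite Ω],
    Step G Ω → ∀ c : Ω, HasKernelAt G Ω c

theorem kernel_of_card_le (hcore : CoreTrivialAll.{u}) (hstep : StepGoal.{u}) :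
    ∀ (n : ℕ) (G : Type u) [Group G] [Finite G] (Ω : Type u) [MulAction G Ω] [Finite Ω],
      Nat.card G ≤ n → OneFix G Ω → (∀ g : G, (∀ x : Ω, g • x = x) → g = 1) → HasFour G →
        ∀ c : Ω, HasKernelAt G Ω c := by
  intro n
  induction n with
  | zero =>
    intro G _ _ Ω _ _ hn
    exact absurd hn (Nat.not_le.2 Nat.card_pos)
  | succ n ih =>
    intro G _ _ Ω _ _ hn h hfaith hf
    have hI : KernelBelow G Ω := by
      intro M hM hMulti h4
      obtain ⟨s, hsM, t, htM, hs, ht, hne, hc⟩ := h4
      refine ih (Sect Ω M) (centres Ω M) ?_ (h.oneFix_sect hMulti) (hfaith_sect M)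
        (h.hasFour_sect hMulti hsM htM hs ht hne hc)
      have h1 := card_sect_le (Ω := Ω) M
      have h2 : Nat.card M < Nat.card G := by
        rw [← Subgroup.card_top (G := G)]
        exact Set.ncard_lt_ncard (SetLike.coe_ssubset_coe.2 (lt_top_iff_ne_top.2 hM)) (Set.toFinite _)
      omega
    have hconcl : Concl G Ω := concl_of_card_le _ G Ω le_rfl
      (fun X i1 i2 hX => @CfsgLib.PF.oddSolvable.{u} X i1 i2 hX) h hfaith hf
    exact hstep G Ω ⟨h, hfaith, hf, hconcl, hcore G Ω h hfaith hf, hI⟩

/-- Bender's theorem from the step and the triviality of the cores of the point stabilisers. -/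
theorem benderKernel_of_step (hcore : CoreTrivialAll.{u}) (hstep : StepGoal.{u}) :
    BenderKernel.{u} := fun G _ _ Ω _ _ h hfaith hf =>
  kernel_of_card_le hcore hstep _ G Ω le_rfl h hfaith hf

/-- The step from the commuting case and the exclusion of the non-commuting case. -/
theorem stepGoal_of_cases
    (hcomm : ∀ (G : Type u) [Group G] [Finite G] (Ω : Type u) [MulAction G Ω] [Finite Ω],
      Step G Ω → CommAt G Ω)
    (hkernel : ∀ (G : Type u) [Group G] [Finite G] (Ω : Type u) [MulAction G Ω] [Finite Ω],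
      Step G Ω → CommAt G Ω → ∀ c : Ω, HasKernelAt G Ω c) : StepGoal.{u} :=
  fun G _ _ Ω _ _ hS => hkernel G Ω hS (hcomm G Ω hS)

end CfsgLib.BenderQ
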