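import Cfsg.Agent.Lib.BenderQ.Classify
import Cfsg.Agent.S1136

/-!
The classification of rank one set-ups, in the form used by the strong embedding classification.
-/

set_option autoImplicit false

namespace CfsgLib.BenderQ

universe u

/-- Suzuki's classification, discharged. -/
theorem rankOneClass : RankOneClass.{u} := fun _ _ _ _ _ _ _ _ _ hS h2 => Cfsg.Agent.S1136.result hS h2

end CfsgLib.BenderQ
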