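import Cfsg.Agent.Lib.BenderQ.SingerBasic
import Cfsg.Agent.Lib.Blocks.ClassCount
import Cfsg.Agent.Lib.Characters.PermTwo
import Cfsg.Agent.Lib.Characters.Induction
import Cfsg.Agent.Lib.Characters.Generalized

/-!
The character induced from the permutation character, less one, of the point stabiliser on the
involutions at the point.
-/

set_option autoImplicit false
set_option linter.unusedSectionVars false

noncomputable section

namespace CfsgLib.BenderQ

open CfsgLib.BenderTrans CfsgLib.Involutions MulAction Cfsg CfsgLib.Characters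
open scoped ComplexConjugate Classical

universe u v

variable {G : Type u} [Group G] {Ω : Type v} [MulAction G Ω]

variable (G) in
/-- The fixed point count on the involutions at `c`, less one. -/
def theta (c : Ω) : stabilizer G c → ℂ := fun g => (Nat.card (fixedBy (invAt G c) g) : ℂ) - 1

variable (G) in
/-- The induced character. -/
def phi [Fintype G] (c : Ω) : G → ℂ := indFun (stabilizer G c) (theta G c)

namespace Singer

variable {c y : Ω} {q f : ℕ} {A : Subgroup G} {r : G} (S : Singer G c y q f A r)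
include S

variable [Fintype G] [Finite Ω]

/-- The extension of `theta` by zero. -/
local notation "E" => extendByZero (stabilizer G c) (theta G c)

theorem mem_T {a : G} (ha : a ∈ A) : a ∈ stabilizer G c := S.smul_c ha

theorem two_le_T {d : G} (hd : d ∈ BenderTrans.two G c y) : d ∈ stabilizer G c :=
  (mem_two_iff.1 hd).1

theorem isPretransitive_invAt : IsPretransitive (stabilizer G c) (invAt G c) :=
  ⟨fun u w => by
    obtain ⟨a, ha, e⟩ := S.transitive u u.2 w w.2
    exact ⟨⟨a, S.mem_T ha⟩, Subtype.ext e⟩⟩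

theorem card_orbits_one : Nat.card (Quotient (orbitRel (stabilizer G c) (invAt G c))) = 1 := by
  haveI := S.isPretransitive_invAt
  haveI : Subsingleton (Quotient (orbitRel (stabilizer G c) (invAt G c))) :=
    (pretransitive_iff_subsingleton_quotient _ _).mp inferInstance
  obtain ⟨u, hu⟩ := S.oneFix.exists_invAt c
  exact Nat.card_eq_one_iff_unique.mpr ⟨inferInstance, ⟨Quotient.mk _ ⟨u, hu⟩⟩⟩

theorem isCharacter_theta : IsCharacter (stabilizer G c) (theta G c) := by
  set π : stabilizer G c → ℂ := fun g => (Nat.card (fixedBy (invAt G c) g) : ℂ) with hπ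
  haveI : Fintype (Quotient (orbitRel (stabilizer G c) (invAt G c))) := Fintype.ofFinite _
  have hπc : IsCharacter (stabilizer G c) π := by
    have : π = fun g => (CfsgLib.PermChar.fixCount (invAt G c) g : ℂ) := rfl
    rw [this, CfsgLib.PermChar.fixCount_eq_sum_orbits (invAt G c)]
    exact isCharacter_sum _ fun ω _ =>
      CfsgLib.Induction.isCharacter_indFun _ CfsgLib.Induction.isCharacter_const_one
  have h1 : classInner π (fun _ => (1 : ℂ)) = 1 := by
    simp only [classInner, hπ, map_one, mul_one, PermTwo.sum_fixedBy, S.card_orbits_one, Nat.cast_one,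
      one_mul]
    exact inv_mul_cancel₀ (Nat.cast_ne_zero.mpr Nat.card_pos.ne')
  refine isCharacter_iff.2 ⟨isClassFunction_sub (isClassFunction_of_isCharacter hπc)
    (isClassFunction_of_isCharacter CfsgLib.Induction.isCharacter_const_one), fun χ => ?_⟩
  obtain ⟨n, hn⟩ := classInner_char_nat hπc (irr_isCharacter χ)
  have e : classInner (theta G c) (χ : stabilizer G c → ℂ) =
      classInner π (χ : stabilizer G c → ℂ) -
        classInner (fun _ => (1 : ℂ)) (χ : stabilizer G c → ℂ) := by
    rw [← classInner_sub_left]; rfl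
  rw [e, hn, show (fun _ : stabilizer G c => (1 : ℂ)) = (principalIrr (stabilizer G c) : stabilizer G c → ℂ) from rfl,
    classInner_irr]
  split_ifs with hχ
  · subst hχ
    rw [show (principalIrr (stabilizer G c) : stabilizer G c → ℂ) = fun _ => (1 : ℂ) from rfl, h1] at hn
    exact ⟨0, by rw [← hn]; simp⟩
  · exact ⟨n, by simp⟩

theorem isClassFunction_theta : IsClassFunction (stabilizer G c) (theta G c) :=
  isClassFunction_of_isCharacter S.isCharacter_theta

theorem E_conj {k : G} (hk : k • c = c) (g : G) : E (k * g * k⁻¹) = E g :=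
  Induction.extendByZero_conj _ S.isClassFunction_theta ⟨k, hk⟩ g

theorem conj_E (g : G) : conj (E g) = E g := by
  by_cases hg : g • c = c
  · rw [Induction.extendByZero_mem _ _ (show g ∈ stabilizer G c from hg)]
    simp [theta]
  · rw [Induction.extendByZero_notMem _ _ (fun h => hg h), map_zero]

theorem E_eq_zero {g : G} (hg : g • c ≠ c) : E g = 0 :=
  Induction.extendByZero_notMem _ _ fun h => hg h

/-- Elements centralising the involutions at `c` take the degree. -/
theorem E_trivial {g : G} (hg : g • c = c) (h : ∀ u ∈ invAt G c, g * u * g⁻¹ = u) :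
    E g = ((invAt G c).ncard : ℂ) - 1 := by
  rw [Induction.extendByZero_mem _ _ (show g ∈ stabilizer G c from hg)]
  show (Nat.card (fixedBy (invAt G c) (⟨g, hg⟩ : stabilizer G c)) : ℂ) - 1 = _
  rw [show fixedBy (invAt G c) (⟨g, hg⟩ : stabilizer G c) = Set.univ from
    Set.eq_univ_of_forall fun u => Subtype.ext (h u u.2), Nat.card_univ, Nat.card_coe_set_eq]

theorem E_inv_mul {u : G} (hu : u ∈ invAt G c) {g : G} (hg : g • c = c) : E (u * g) = E g := by
  have hug : u * g ∈ stabilizer G c := mem_stabilizer_iff.2 (by rw [mul_smul, hg, hu.2])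
  rw [Induction.extendByZero_mem _ _ hug, Induction.extendByZero_mem _ _ (show g ∈ stabilizer G c from hg)]
  show (Nat.card (fixedBy (invAt G c) (⟨u * g, hug⟩ : stabilizer G c)) : ℂ) - 1 =
    (Nat.card (fixedBy (invAt G c) (⟨g, hg⟩ : stabilizer G c)) : ℂ) - 1
  have key : fixedBy (invAt G c) (⟨u * g, hug⟩ : stabilizer G c) =
      fixedBy (invAt G c) (⟨g, hg⟩ : stabilizer G c) := by
    ext w
    have hw : g * (w : G) * g⁻¹ ∈ invAt G c := ((⟨g, hg⟩ : stabilizer G c) • w).2
    have e : u * g * (w : G) * (u * g)⁻¹ = g * (w : G) * g⁻¹ := by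
      calc u * g * (w : G) * (u * g)⁻¹ = u * (g * (w : G) * g⁻¹) * u⁻¹ := by group
        _ = g * (w : G) * g⁻¹ := by rw [(S.comm u hu _ hw).eq, mul_inv_cancel_right]
    simp only [mem_fixedBy, Subtype.ext_iff, smul_invAt_coe, e]
  rw [key]

theorem E_one : E 1 = ((invAt G c).ncard : ℂ) - 1 :=
  S.E_trivial (one_smul _ _) fun u _ => by simp

theorem E_A {a : G} (ha : a ∈ A) (ha1 : a ≠ 1) : E a = -1 := by
  rw [Induction.extendByZero_mem _ _ (S.mem_T ha)]
  show (Nat.card (fixedBy (invAt G c) (⟨a, S.mem_T ha⟩ : stabilizer G c)) : ℂ) - 1 = -1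
  haveI : IsEmpty (fixedBy (invAt G c) (⟨a, S.mem_T ha⟩ : stabilizer G c)) :=
    ⟨fun u => ha1 (S.eq_one_of_fix ha u.1.2 (congrArg Subtype.val u.2))⟩
  rw [Nat.card_of_isEmpty, Nat.cast_zero, zero_sub]

/-- Outside `A` the two point stabiliser fixes exactly one involution at `c`. -/
theorem E_two {d : G} (hd : d ∈ BenderTrans.two G c y) (hdA : d ∉ A) : E d = 0 := by
  rw [Induction.extendByZero_mem _ _ (S.two_le_T hd)]
  show (Nat.card (fixedBy (invAt G c) (⟨d, S.two_le_T hd⟩ : stabilizer G c)) : ℂ) - 1 = 0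
  suffices h : Nat.card (fixedBy (invAt G c) (⟨d, S.two_le_T hd⟩ : stabilizer G c)) = 1 by
    rw [h]; simp
  have hd1 : d ≠ 1 := fun e => hdA (e ▸ one_mem A)
  rw [Nat.card_eq_one_iff_unique]
  refine ⟨⟨fun u w => Subtype.ext (Subtype.ext ?_)⟩, ?_⟩
  · by_contra hne
    exact hd1 (S.eq_one_of_fix_two hd u.1.2 w.1.2 hne (congrArg Subtype.val u.2)
      (congrArg Subtype.val w.2))
  · obtain ⟨u, hu⟩ := S.oneFix.exists_invAt c
    obtain ⟨a₀, ha₀, e₀⟩ := S.transitive u hu (d * u * d⁻¹)
      ((⟨d, S.two_le_T hd⟩ : stabilizer G c) • (⟨u, hu⟩ : invAt G c)).2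
    let F : A → A := fun a => ⟨(d * a * d⁻¹)⁻¹ * a, mul_mem (inv_mem (S.conj_mem d hd a a.2)) a.2⟩
    have hinj : Function.Injective F := by
      intro a b hab
      have h : (d * a * d⁻¹)⁻¹ * a = (d * b * d⁻¹)⁻¹ * b := congrArg Subtype.val hab
      by_contra hne
      have hne' : (a : G) * (b : G)⁻¹ ≠ 1 := fun e => hne (Subtype.ext (mul_inv_eq_one.1 e))
      refine hdA (S.cent _ (mul_mem a.2 (inv_mem b.2)) hne'
        (Subgroup.mem_centralizer_singleton_iff.2 (mul_inv_eq_iff_eq_mul.1 ?_)))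
      calc d * ((a : G) * (b : G)⁻¹) * d⁻¹ = (d * a * d⁻¹) * (d * b * d⁻¹)⁻¹ := by group
        _ = (d * a * d⁻¹) * ((d * a * d⁻¹)⁻¹ * a) * (b : G)⁻¹ := by rw [h]; group
        _ = (a : G) * (b : G)⁻¹ := by group
    obtain ⟨a, ha⟩ := Finite.injective_iff_surjective.1 hinj ⟨a₀, ha₀⟩
    have ha' : (d * a * d⁻¹)⁻¹ * a = a₀ := congrArg Subtype.val ha
    refine ⟨⟨⟨(a : G) * u * (a : G)⁻¹, ?_⟩, Subtype.ext ?_⟩⟩
    · exact ((⟨a, S.mem_T a.2⟩ : stabilizer G c) • (⟨u, hu⟩ : invAt G c)).2
    · show d * ((a : G) * u * (a : G)⁻¹) * d⁻¹ = (a : G) * u * (a : G)⁻¹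
      calc d * ((a : G) * u * (a : G)⁻¹) * d⁻¹
          = (d * a * d⁻¹) * (d * u * d⁻¹) * (d * a * d⁻¹)⁻¹ := by group
        _ = (d * a * d⁻¹ * a₀) * u * (d * a * d⁻¹ * a₀)⁻¹ := by rw [← e₀]; group
        _ = (a : G) * u * (a : G)⁻¹ := by rw [← ha', mul_inv_cancel_left]

/-- The sum over a coset of `A`. -/
theorem sum_E_coset {g : G} (hg : g • c = c) : ∑ a : A, E ((a : G) * g) = 0 := by
  let g' : stabilizer G c := ⟨g, hg⟩
  let a' : A → stabilizer G c := fun a => ⟨a, S.mem_T a.2⟩
  have h : ∀ a : A, E ((a : G) * g) =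
      (∑ u : invAt G c, if (a' a * g') • u = u then (1 : ℂ) else 0) - 1 := by
    intro a
    rw [Induction.extendByZero_mem _ _ (mul_mem (S.mem_T a.2) (show g ∈ stabilizer G c from hg))]
    show (Nat.card (fixedBy (invAt G c) (a' a * g')) : ℂ) - 1 = _
    rw [Finset.sum_boole, Nat.card_eq_fintype_card, Fintype.card_subtype]
    simp only [mem_fixedBy]
  rw [Finset.sum_congr rfl fun a _ => h a, Finset.sum_sub_distrib, Finset.sum_comm]
  have hone : ∀ u : invAt G c, ∑ a : A, (if (a' a * g') • u = u then (1 : ℂ) else 0) = 1 := by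
    intro u
    obtain ⟨a, ha, e⟩ := S.transitive _ (g' • u).2 u u.2
    rw [Finset.sum_eq_single (⟨a, ha⟩ : A)]
    · rw [if_pos]
      rw [mul_smul]
      exact Subtype.ext e
    · intro b _ hb
      rw [if_neg]
      intro hb'
      rw [mul_smul] at hb'
      exact hb (Subtype.ext (S.eq_of_conj_eq b.2 ha (g' • u).2
        ((congrArg Subtype.val hb').trans e.symm)))
    · intro h; exact absurd (Finset.mem_univ _) h
  rw [Finset.sum_congr rfl fun u _ => hone u, Finset.sum_const, Finset.sum_const, Finset.card_univ,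
    Finset.card_univ, ← Nat.card_eq_fintype_card, ← Nat.card_eq_fintype_card, S.card_A,
    Nat.card_coe_set_eq, sub_self]

/-- An involution class sum acts on `E` as multiplication by `m`. -/
theorem sum_class_E {v : G} (hv : v ∈ invAt G c) (g : G) :
    ∑ t ∈ ClassCount.cls v, E (t * g) = ((invAt G c).ncard : ℂ) * E g := by
  have hmem : ∀ t, t ∈ ClassCount.cls v ↔ orderOf t = 2 := fun t => by
    rw [ClassCount.mem_cls]
    exact ⟨fun h => (orderOf_eq_of_isConj h).trans hv.1,
      fun h => S.oneFix.isConj_involutions hv.1 h⟩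
  set x := g • c with hx
  have hrestr : ∑ t ∈ ClassCount.cls v, E (t * g) = ∑ t ∈ (swaps G c x).toFinset, E (t * g) := by
    refine (Finset.sum_subset (fun t ht => (hmem t).2 (Set.mem_toFinset.1 ht).1) fun t ht htn => ?_).symm
    refine S.E_eq_zero fun h => htn (Set.mem_toFinset.2 ⟨(hmem t).1 ht, ?_⟩)
    rw [mul_smul, ← hx] at h
    exact (congrArg (t • ·) h).symm.trans (smul_smul_self ((hmem t).1 ht) x)
  rw [hrestr]
  by_cases hxc : x = c
  · rw [Finset.sum_congr rfl fun t ht => S.E_inv_mul (u := t)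
      (by rw [hxc] at ht; exact Set.mem_toFinset.1 ht) (hx ▸ hxc : g • c = c)]
    rw [Finset.sum_const, nsmul_eq_mul, ← Set.ncard_eq_toFinset_card', hxc]
    rfl
  · rw [S.E_eq_zero (hx ▸ hxc : g • c ≠ c), mul_zero]
    obtain ⟨k, hk, hky⟩ := S.twoTrans c y x S.ne.symm hxc
    have hk' : k⁻¹ • c = c := inv_smul_eq_iff.2 hk.symm
    have hkx : k⁻¹ • x = y := inv_smul_eq_iff.2 hky.symm
    have himg : (swaps G c x).toFinset =
        (Finset.univ : Finset A).image fun a : A => k * (r * (a : G)) * k⁻¹ := by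
      ext t
      simp only [Set.mem_toFinset, Finset.mem_image, Finset.mem_univ, true_and]
      constructor
      · intro ht
        have h := conj_mem_swaps (g := k⁻¹) ht
        rw [inv_inv, hk', hkx] at h
        obtain ⟨a, ha, e⟩ := S.mem_swaps_iff.1 h
        exact ⟨⟨a, ha⟩, by show k * (r * a) * k⁻¹ = t; rw [← e]; group⟩
      · rintro ⟨a, rfl⟩
        have h := conj_mem_swaps (g := k) (S.mem_swaps_iff.2 ⟨(a : G), a.2, rfl⟩)
        rwa [hk, hky] at h
    rw [himg, Finset.sum_image fun a _ b _ hab => Subtype.ext (by simpa using hab)]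
    have hg0 : (r * (k⁻¹ * g * k)) • c = c := by
      rw [mul_smul, mul_smul, mul_smul, hk, ← hx, hkx, S.r_smul_y]
    rw [← S.sum_E_coset hg0]
    refine Fintype.sum_equiv (Equiv.inv A) _ _ fun a => ?_
    have e : k * (r * (a : G)) * k⁻¹ * g = k * ((a : G)⁻¹ * (r * (k⁻¹ * g * k))) * k⁻¹ := by
      rw [← S.rep_r a.2]
      calc k * (r * (a : G)) * k⁻¹ * g = k * (r * (a : G) * 1) * k⁻¹ * g := by group
        _ = k * (r * (a : G) * (r * r)) * k⁻¹ * g := by rw [S.sq_r]
        _ = _ := by group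
    rw [e, S.E_conj hk]
    rfl

theorem isCharacter_phi : IsCharacter G (phi G c) :=
  Induction.isCharacter_indFun _ S.isCharacter_theta

theorem isClassFunction_phi : IsClassFunction G (phi G c) :=
  isClassFunction_of_isCharacter S.isCharacter_phi

theorem phi_apply (g : G) :
    phi G c g = (Nat.card (stabilizer G c) : ℂ)⁻¹ * ∑ x : G, E (x⁻¹ * g * x) := rfl

theorem phi_one : phi G c 1 = (Nat.card Ω : ℂ) * (((invAt G c).ncard : ℂ) - 1) := by
  haveI : IsPretransitive G Ω := ⟨S.oneFix.trans⟩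
  rw [phi, Induction.indFun_one_apply, index_stabilizer_of_transitive]
  congr 1
  have := S.E_one
  rwa [Induction.extendByZero_mem _ _ (one_mem _)] at this

theorem card_filter_smul (z : Ω) :
    ((Finset.univ : Finset G).filter fun x => x • c = z).card = Nat.card (stabilizer G c) := by
  obtain ⟨h, rfl⟩ := S.oneFix.trans c z
  rw [← Fintype.card_subtype, ← Nat.card_eq_fintype_card]
  exact Nat.card_congr
    { toFun := fun x => ⟨h⁻¹ * x.1, mem_stabilizer_iff.2 (by rw [mul_smul, x.2, inv_smul_smul])⟩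
      invFun := fun k => ⟨h * k.1, by rw [mul_smul, show (k : G) • c = c from k.2]⟩
      left_inv := fun x => Subtype.ext (mul_inv_cancel_left _ _)
      right_inv := fun k => Subtype.ext (inv_mul_cancel_left _ _) }

theorem fix_conj {g x : G} (h : (x⁻¹ * g * x) • c = c) : g • x • c = x • c := by
  rwa [mul_smul, mul_smul, inv_smul_eq_iff] at h

theorem phi_inv {v : G} (hv : v ∈ invAt G c) : phi G c v = ((invAt G c).ncard : ℂ) - 1 := by
  rw [S.phi_apply]
  have h : ∀ x : G, E (x⁻¹ * v * x) = if x • c = c then ((invAt G c).ncard : ℂ) - 1 else 0 := by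
    intro x
    split_ifs with hx
    · have hx' : x⁻¹ • c = c := inv_smul_eq_iff.2 hx.symm
      have := S.E_conj hx' v
      rw [inv_inv] at this
      rw [this]
      exact S.E_trivial hv.2 fun u hu => by rw [(S.comm v hv u hu).eq, mul_inv_cancel_right]
    · exact S.E_eq_zero fun h => hx (S.oneFix.unique v hv.1 _ _ (S.fix_conj h) hv.2)
  rw [Finset.sum_congr rfl fun x _ => h x, ← Finset.sum_filter, Finset.sum_const, S.card_filter_smul,
    nsmul_eq_mul, ← mul_assoc, inv_mul_cancel₀ (Nat.cast_ne_zero.2 Nat.card_pos.ne'), one_mul]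

theorem phi_A {a : G} (ha : a ∈ A) (ha1 : a ≠ 1) : phi G c a = -2 := by
  rw [S.phi_apply]
  have h : ∀ x : G, E (x⁻¹ * a * x) =
      (if x • c = c then (-1 : ℂ) else 0) + if x • c = y then (-1 : ℂ) else 0 := by
    intro x
    by_cases hc : x • c = c
    · rw [if_pos hc, if_neg (fun e => S.ne (hc.symm.trans e)), add_zero]
      have := S.E_conj (inv_smul_eq_iff.2 hc.symm : x⁻¹ • c = c) a
      rw [inv_inv] at this
      rw [this, S.E_A ha ha1]
    · by_cases hy : x • c = y
      · rw [if_neg hc, if_pos hy, zero_add]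
        have hrx : (r * x) • c = c := by rw [mul_smul, hy, S.r_smul_y]
        have e : x⁻¹ * a * x = (r * x)⁻¹ * a⁻¹ * ((r * x)⁻¹)⁻¹ := by
          rw [← S.rep_r ha, inv_inv, mul_inv_rev, S.inv_r]
          calc x⁻¹ * a * x = x⁻¹ * 1 * a * 1 * x := by group
            _ = x⁻¹ * (r * r) * a * (r * r) * x := by rw [S.sq_r]
            _ = _ := by group
        rw [e, S.E_conj (inv_smul_eq_iff.2 hrx.symm), S.E_A (inv_mem ha) (inv_ne_one.2 ha1)]
      · rw [if_neg hc, if_neg hy, add_zero]
        refine S.E_eq_zero fun h => ?_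
        rcases S.fix a ha ha1 _ (S.fix_conj h) with e | e
        · exact hc e
        · exact hy e
  rw [Finset.sum_congr rfl fun x _ => h x, Finset.sum_add_distrib, ← Finset.sum_filter,
    ← Finset.sum_filter, Finset.sum_const, Finset.sum_const, S.card_filter_smul, S.card_filter_smul,
    nsmul_eq_mul, ← mul_add, ← mul_assoc, inv_mul_cancel₀ (Nat.cast_ne_zero.2 Nat.card_pos.ne')]
  norm_num

theorem inner_E (ψ : G → ℂ) :
    classInner (theta G c) (fun x : stabilizer G c => ψ x) =
      (Nat.card (stabilizer G c) : ℂ)⁻¹ * ∑ g : G, E g * conj (ψ g) := by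
  rw [classInner, Induction.sum_extendByZero_mul _ _ fun g => conj (ψ g)]

/-- A constituent of `phi` has degree `n` times its value at an involution. -/
theorem apply_inv_of_constituent {v : G} (hv : v ∈ invAt G c) {χ : IrrCharacter G}
    (hne : classInner (phi G c) (χ : G → ℂ) ≠ 0) :
    (χ : G → ℂ) 1 = (Nat.card Ω : ℂ) * (χ : G → ℂ) v := by
  rw [phi, Induction.classInner_indFun _ _ (irr_isClassFunction χ), S.inner_E] at hne
  set Sg := ∑ g : G, E g * conj ((χ : G → ℂ) g) with hSg
  have hS0 : Sg ≠ 0 := fun h => hne (by rw [h, mul_zero])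
  set ω := centralChar (χ : G → ℂ) v with hω
  have hone : centralChar (χ : G → ℂ) 1 = 1 := by
    have h1 : Subgroup.centralizer ({(1 : G)} : Set G) = ⊤ := by
      ext g; simp [Subgroup.mem_centralizer_singleton_iff]
    simp [centralChar, h1, irr_one_ne_zero χ]
  have hcls : ClassCount.cls (1 : G) = {1} := by
    ext g; simp [ClassCount.mem_cls, isConj_one_right, eq_comm]
  have hsum : ∀ g, ∑ t ∈ ClassCount.cls v, (χ : G → ℂ) (t * g) = ω * (χ : G → ℂ) g := by
    intro g
    have h := ClassCount.sum_char_mul χ v 1 g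
    simpa [hcls, hone, hω] using h
  have key : conj ω * Sg = ((invAt G c).ncard : ℂ) * Sg := by
    calc conj ω * Sg = ∑ g : G, E g * conj (∑ t ∈ ClassCount.cls v, (χ : G → ℂ) (t * g)) := by
          rw [hSg, Finset.mul_sum]
          refine Finset.sum_congr rfl fun g _ => ?_
          rw [hsum, map_mul]; ring
      _ = ∑ t ∈ ClassCount.cls v, ∑ g : G, E (t * g) * conj ((χ : G → ℂ) g) := by
          simp only [map_sum, Finset.mul_sum]
          rw [Finset.sum_comm]
          refine Finset.sum_congr rfl fun t ht => ?_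
          have ht2 : t * t = 1 := mul_self_eq_one ((orderOf_eq_of_isConj (ClassCount.mem_cls.1 ht)).trans hv.1)
          refine Fintype.sum_equiv (Equiv.mulLeft t) _ _ fun g => ?_
          simp only [Equiv.coe_mulLeft, ← mul_assoc, ht2, one_mul]
      _ = ((invAt G c).ncard : ℂ) * Sg := by
          rw [Finset.sum_comm, hSg, Finset.mul_sum]
          refine Finset.sum_congr rfl fun g _ => ?_
          rw [← Finset.sum_mul, S.sum_class_E hv, mul_assoc]
  have hω' : ω = ((invAt G c).ncard : ℂ) := by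
    have := congrArg conj (mul_right_cancel₀ hS0 key)
    rwa [Complex.conj_conj, map_natCast] at this
  have hidx : (Subgroup.centralizer ({v} : Set G)).index = Nat.card Ω * (invAt G c).ncard := by
    rw [← card_isConj_eq_index, ← S.oneFix.ncard_involutions c]
    refine Nat.card_congr (Equiv.subtypeEquivRight fun t => ?_)
    exact ⟨fun h => (orderOf_eq_of_isConj h).trans hv.1, fun h => S.oneFix.isConj_involutions hv.1 h⟩
  have hm : ((invAt G c).ncard : ℂ) ≠ 0 := Nat.cast_ne_zero.2 (by have := S.seven_le; omega)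
  have h := hω'
  rw [hω, centralChar, hidx, div_eq_iff (irr_one_ne_zero χ)] at h
  push_cast at h
  refine mul_left_cancel₀ hm ?_
  linear_combination -h

/-- The sum over the double coset of `r`. -/
theorem sum_E_swap : ∑ g : G, E g * E (r * g * r) =
    ((invAt G c).ncard : ℂ) * (((invAt G c).ncard : ℂ) - 1) := by
  set m := (invAt G c).ncard with hm
  have hzero : ∀ g : G, g ∉ A → E g * E (r * g * r) = 0 := by
    intro g hgA
    by_cases hc : g • c = c
    · by_cases hy : g • y = y
      · rw [S.E_two (mem_two_iff.2 ⟨hc, hy⟩) hgA, zero_mul]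
      · rw [S.E_eq_zero (g := r * g * r), mul_zero]
        rw [mul_smul, mul_smul, S.r_smul_c]
        intro h
        refine hy ?_
        have := congrArg (r • ·) h
        simp only [smul_smul_self S.swap.1, S.r_smul_c] at this
        exact this
    · rw [S.E_eq_zero hc, zero_mul]
  have hA : ∀ a : A, E (a : G) * E (r * a * r) =
      1 + if a = 1 then ((m : ℂ) - 1) ^ 2 - 1 else 0 := by
    intro a
    rw [S.rep_r a.2]
    by_cases h : a = 1
    · subst h
      rw [if_pos rfl, OneMemClass.coe_one, inv_one, S.E_one, ← hm]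
      ring
    · have h' : (a : G) ≠ 1 := fun e => h (Subtype.ext e)
      rw [if_neg h, S.E_A a.2 h', S.E_A (inv_mem a.2) (inv_ne_one.2 h')]
      ring
  rw [← Finset.sum_subset (Finset.subset_univ ((A : Set G).toFinset)) fun g _ hg =>
    hzero g fun h => hg (Set.mem_toFinset.2 h),
    Finset.sum_subtype (p := fun g => g ∈ A) ((A : Set G).toFinset) (fun g => Set.mem_toFinset) fun g => E g * E (r * g * r),
    Finset.sum_congr rfl fun a _ => hA a, Finset.sum_add_distrib, Finset.sum_ite_eq',
    if_pos (Finset.mem_univ _), Finset.sum_const, Finset.card_univ, ← Nat.card_eq_fintype_card,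
    S.card_A, ← hm, nsmul_eq_mul]
  ring

/-- The norm of `phi`. -/
theorem norm_phi : classInner (phi G c) (phi G c) =
    (Nat.card (Quotient (orbitRel (stabilizer G c) (invAt G c × invAt G c))) : ℂ) - 1 +
      (((invAt G c).ncard : ℂ) - 1) / (f : ℂ) := by
  set m := (invAt G c).ncard with hm
  set T := Nat.card (stabilizer G c) with hT
  set R := Nat.card (Quotient (orbitRel (stabilizer G c) (invAt G c × invAt G c))) with hR
  have hT0 : (T : ℂ) ≠ 0 := Nat.cast_ne_zero.2 (hT ▸ Nat.card_pos.ne')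
  have hsq : ∑ g : G, E g * E g = (T : ℂ) * ((R : ℂ) - 1) := by
    rw [Induction.sum_extendByZero_mul _ _ fun g => E g]
    have e : ∀ g : stabilizer G c, theta G c g * E (g : G) =
        (Nat.card (fixedBy (invAt G c × invAt G c) g) : ℂ) -
          2 * (Nat.card (fixedBy (invAt G c) g) : ℂ) + 1 := by
      intro g
      rw [Induction.extendByZero_coe, PermTwo.card_fixedBy_prod, theta, Nat.cast_mul]
      ring
    rw [Finset.sum_congr rfl fun g _ => e g, Finset.sum_add_distrib, Finset.sum_sub_distrib,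
      ← Finset.mul_sum, PermTwo.sum_fixedBy, PermTwo.sum_fixedBy, S.card_orbits_one, Finset.sum_const,
      Finset.card_univ, ← Nat.card_eq_fintype_card, ← hR, ← hT]
    push_cast
    ring
  have hx : ∀ x : G, ∑ g : G, E g * E (x⁻¹ * g * x) =
      if x • c = c then (T : ℂ) * ((R : ℂ) - 1) else (m : ℂ) * ((m : ℂ) - 1) := by
    intro x
    split_ifs with hx
    · rw [← hsq]
      refine Finset.sum_congr rfl fun g _ => ?_
      have := S.E_conj (inv_smul_eq_iff.2 hx.symm : x⁻¹ • c = c) g
      rw [inv_inv] at this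
      rw [this]
    · obtain ⟨k, hk, hky⟩ := S.twoTrans c y (x • c) S.ne.symm hx
      rw [hm, ← S.sum_E_swap]
      have hk' : (r * k⁻¹ * x) • c = c := by
        rw [mul_smul, mul_smul, ← hky, inv_smul_smul, S.r_smul_y]
      refine Fintype.sum_equiv (MulAut.conj k⁻¹).toEquiv _ _ fun g => ?_
      show E g * E (x⁻¹ * g * x) = E (k⁻¹ * g * k⁻¹⁻¹) * E (r * (k⁻¹ * g * k⁻¹⁻¹) * r)
      rw [S.E_conj (inv_smul_eq_iff.2 hk.symm : k⁻¹ • c = c), inv_inv]
      congr 1
      have e : x⁻¹ * g * x = (r * k⁻¹ * x)⁻¹ * (r * (k⁻¹ * g * k) * r) * ((r * k⁻¹ * x)⁻¹)⁻¹ := by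
        rw [inv_inv, mul_inv_rev, mul_inv_rev, inv_inv, S.inv_r]
        calc x⁻¹ * g * x = x⁻¹ * k * 1 * (k⁻¹ * g * k) * 1 * k⁻¹ * x := by group
          _ = x⁻¹ * k * (r * r) * (k⁻¹ * g * k) * (r * r) * k⁻¹ * x := by rw [S.sq_r]
          _ = _ := by group
      rw [e, S.E_conj (inv_smul_eq_iff.2 hk'.symm)]
  have hN : classInner (phi G c) (phi G c) =
      (T : ℂ)⁻¹ * ((T : ℂ)⁻¹ * ∑ x : G, ∑ g : G, E g * E (x⁻¹ * g * x)) := by
    conv_lhs => arg 1; rw [phi]
    rw [Induction.classInner_indFun _ _ S.isClassFunction_phi, S.inner_E, ← hT]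
    congr 1
    rw [Finset.sum_comm, Finset.mul_sum]
    refine Finset.sum_congr rfl fun g _ => ?_
    rw [S.phi_apply, map_mul, map_inv₀, map_natCast, map_sum, ← hT, Finset.mul_sum, Finset.mul_sum,
      Finset.mul_sum]
    refine Finset.sum_congr rfl fun x _ => ?_
    rw [S.conj_E]; ring
  rw [hN, Finset.sum_congr rfl fun x _ => hx x, Finset.sum_ite, Finset.sum_const, Finset.sum_const,
    S.card_filter_smul, ← hT]
  have hnot : ((Finset.univ : Finset G).filter fun x => ¬ x • c = c).card = (Nat.card Ω - 1) * T := by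
    have h1 := Finset.card_filter_add_card_filter_not (s := (Finset.univ : Finset G)) (fun x : G => x • c = c)
    rw [S.card_filter_smul, Finset.card_univ, ← Nat.card_eq_fintype_card, S.card_group, ← hT] at h1
    rw [Nat.sub_mul, one_mul]
    omega
  rw [hnot, nsmul_eq_mul, nsmul_eq_mul, Nat.cast_mul]
  have hTc : (T : ℂ) = ((Nat.card Ω - 1 : ℕ) : ℂ) * ((m : ℂ) * (f : ℂ)) := by
    rw [hT, S.card_stabilizer, S.card_two, ← hm]
    push_cast
    ring
  have hn0 : ((Nat.card Ω - 1 : ℕ) : ℂ) ≠ 0 := fun h => hT0 (by rw [hTc, h, zero_mul])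
  have hm0 : (m : ℂ) ≠ 0 := Nat.cast_ne_zero.2 (by have := S.seven_le; omega)
  have hf0 : (f : ℂ) ≠ 0 := Nat.cast_ne_zero.2 S.f_pos.ne'
  rw [hTc]
  field_simp

end Singer

end CfsgLib.BenderQ
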