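import Mathlib
import Cfsg.Agent.Lib.FTCons.Kantor

/-!
A solvable group acting faithfully and transitively on the nontrivial elements of an elementary abelian
group of order `2 ^ q`, `q` an odd prime: the linear part is regular and has index `1` or `q`.
-/

set_option autoImplicit false
set_option linter.style.haveILetI false

namespace CfsgLib.BenderQ

universe u v

theorem card_ringEquiv_two {F : Type v} [Field F] [Finite F] {q : ℕ}
    (h2 : (1 : F) + 1 = 0) (hcard : Nat.card F = 2 ^ q) : Nat.card (F ≃+* F) = q := by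
  haveI : CharP F 2 := CharTwo.of_one_ne_zero_of_two_eq_zero one_ne_zero (by rw [← h2]; norm_num)
  letI : Algebra (ZMod 2) F := ZMod.algebra F 2
  haveI : Module.Finite (ZMod 2) F := Module.Finite.of_finite
  have h3 : Nat.card Gal(F/ZMod 2) = q := by
    rw [IsGalois.card_aut_eq_finrank]
    have h4 := Module.natCard_eq_pow_finrank (K := ZMod 2) (V := F)
    rw [hcard, Nat.card_zmod] at h4
    exact (Nat.pow_right_injective le_rfl h4).symm
  rw [← h3]
  refine Nat.card_congr
    { toFun := fun σ => AlgEquiv.ofRingEquiv (f := σ) fun z =>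
        RingHom.congr_fun (RingHom.ext_zmod ((σ : F →+* F).comp (algebraMap (ZMod 2) F))
          (algebraMap (ZMod 2) F)) z
      invFun := fun σ => σ.toRingEquiv
      left_inv := fun σ => by ext; rfl
      right_inv := fun σ => by ext; rfl }

theorem coprime_prime_pow_sub_one {q : ℕ} (hq : q.Prime) (h2 : q ≠ 2) :
    Nat.Coprime (2 ^ q - 1) q := by
  refine ((hq.coprime_iff_not_dvd).2 fun hd => ?_).symm
  haveI : Fact q.Prime := ⟨hq⟩
  have h1 : ((2 ^ q - 1 : ℕ) : ZMod q) = 0 := (ZMod.natCast_eq_zero_iff _ _).2 hd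
  rw [Nat.cast_sub Nat.one_le_two_pow, Nat.cast_pow, Nat.cast_ofNat, ZMod.pow_card] at h1
  norm_num at h1

variable {D : Type u} [Group D] [Finite D] {E : Type v} [Group E] [Finite E] [MulDistribMulAction D E]

/-- The linear part. -/
theorem exists_linearPart [Group.IsSolvable D] (hcomm : ∀ x y : E, x * y = y * x)
    (hexp : ∀ x : E, x * x = 1) {q : ℕ} (hq : q.Prime) (hq2 : q ≠ 2) (hE : Nat.card E = 2 ^ q)
    (hfaith : ∀ d : D, (∀ x : E, d • x = x) → d = 1)
    (htr : ∀ x y : E, x ≠ 1 → y ≠ 1 → ∃ d : D, d • x = y) :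
    ∃ A : Subgroup D, A.Normal ∧ (∀ a ∈ A, ∀ b ∈ A, a * b = b * a) ∧
      (∀ a ∈ A, ∀ x : E, x ≠ 1 → a • x = x → a = 1) ∧ Nat.card A = 2 ^ q - 1 ∧
      (A.index = 1 ∨ A.index = q) := by
  letI : CommGroup E := { (inferInstance : Group E) with mul_comm := hcomm }
  letI : DistribMulAction D (Additive E) :=
    { smul := fun d x => Additive.ofMul (d • x.toMul)
      one_smul := fun x => congrArg Additive.ofMul (one_smul D x.toMul)
      mul_smul := fun d d' x => congrArg Additive.ofMul (mul_smul d d' x.toMul)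
      smul_zero := fun d => congrArg Additive.ofMul (smul_one d)
      smul_add := fun d x y => congrArg Additive.ofMul (smul_mul' d x.toMul y.toMul) }
  letI : Module (ZMod 2) (Additive E) := AddCommGroup.zmodModule fun x => by
    rw [two_nsmul]; exact congrArg Additive.ofMul (hexp x.toMul)
  have hcardA : Nat.card (Additive E) = 2 ^ q := hE
  have h2q : 2 ≤ 2 ^ q := Nat.le_self_pow hq.ne_zero 2
  haveI : Nontrivial (Additive E) := Finite.one_lt_card_iff_nontrivial.1 (by omega)
  have hex : Nat.card (Additive E) ∉ ({9, 25, 49, 121, 529, 81} : Set ℕ) := by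
    intro hm
    have hev : Even (2 ^ q) := Nat.even_pow.2 ⟨even_two, hq.ne_zero⟩
    simp only [Set.mem_insert_iff, Set.mem_singleton_iff, hcardA] at hm
    rcases hm with h | h | h | h | h | h <;> rw [h] at hev <;> revert hev <;> decide
  obtain ⟨F, hF, hFt, e, he⟩ := (CfsgLib.FTCons.Kantor.semilinear_of_transitive (p := 2) (H := D)
    (V := Additive E) (fun v w hv hw => by
      obtain ⟨d, hd⟩ := htr v.toMul w.toMul hv hw
      exact ⟨d, Or.inl (congrArg Additive.ofMul hd)⟩)).resolve_right hex
  choose a σ ha hσ using he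
  set u₀ := e.symm (1 : F) with hu
  have hu1 : e u₀ = 1 := e.apply_symm_apply 1
  have haval : ∀ d, a d = e (d • u₀) := fun d => by rw [hσ d u₀, hu1, map_one, mul_one]
  have hmul : ∀ d d', σ (d * d') = σ d * σ d' := by
    intro d d'
    have h1 : ∀ v, a (d * d') * σ (d * d') (e v) = (a d * σ d (a d')) * σ d (σ d' (e v)) := by
      intro v
      rw [← hσ, mul_smul, hσ, hσ, map_mul, mul_assoc]
    have h2 : a (d * d') = a d * σ d (a d') := by
      have := h1 u₀
      rwa [hu1, map_one, map_one, map_one, mul_one, mul_one] at this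
    refine RingEquiv.ext fun z => mul_left_cancel₀ (ha (d * d')) ?_
    have h3 := h1 (e.symm z)
    rw [e.apply_symm_apply, ← h2] at h3
    exact h3
  let φ : D →* (F ≃+* F) := MonoidHom.mk' σ hmul
  have hker : ∀ d ∈ φ.ker, ∀ v, e (d • v) = a d * e v := fun d hd v => by
    rw [hσ]; rw [show σ d = 1 from hd]; rfl
  have hfree : ∀ d ∈ φ.ker, ∀ x : E, x ≠ 1 → d • x = x → d = 1 := by
    intro d hd x hx hdx
    have h1 := hker d hd (Additive.ofMul x)
    rw [show d • Additive.ofMul x = Additive.ofMul x from congrArg Additive.ofMul hdx] at h1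
    have hex0 : e (Additive.ofMul x) ≠ 0 := fun h => hx (e.map_eq_zero_iff.1 h)
    have h2 : a d = 1 := mul_right_cancel₀ hex0 (by rw [one_mul]; exact h1.symm)
    refine hfaith d fun y => ?_
    have h3 := hker d hd (Additive.ofMul y)
    rw [h2, one_mul] at h3
    exact congrArg Additive.toMul (e.injective h3)
  refine ⟨φ.ker, inferInstance, fun x hx y hy => ?_, hfree, ?_⟩
  · have h1 : ∀ v, e ((x * y) • v) = e ((y * x) • v) := fun v => by
      rw [mul_smul, mul_smul, hker x hx, hker y hy, hker y hy, hker x hx, mul_left_comm]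
    refine mul_inv_eq_one.1 (hfaith _ fun z => ?_)
    rw [mul_smul]
    have h2 := congrArg Additive.toMul (e.injective (h1 (Additive.ofMul ((y * x)⁻¹ • z))))
    exact h2.trans (smul_inv_smul (y * x) z)
  have hFcard : Nat.card F = 2 ^ q := by rw [← Nat.card_congr e.toEquiv, hcardA]
  have htwo : (1 : F) + 1 = 0 := by
    rw [← hu1, ← map_add, ← two_smul (ZMod 2) u₀, show (2 : ZMod 2) = 0 from rfl, zero_smul,
      map_zero]
  have hidx : φ.ker.index = 1 ∨ φ.ker.index = q := by
    have h1 : φ.ker.index ∣ q := by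
      rw [Subgroup.index_ker, ← card_ringEquiv_two htwo hFcard]
      exact φ.range.card_subgroup_dvd_card
    exact (Nat.dvd_prime hq).1 h1
  refine ⟨?_, hidx⟩
  obtain ⟨x₀, hx₀⟩ : ∃ x : E, x ≠ 1 := by
    haveI : Nontrivial E := Finite.one_lt_card_iff_nontrivial.1 (by omega)
    exact exists_ne 1
  have horb : (2 ^ q - 1) ∣ Nat.card D := by
    have h1 : MulAction.orbit D x₀ = ({1} : Set E)ᶜ := by
      ext y
      constructor
      · rintro ⟨d, rfl⟩ h
        exact hx₀ (smul_left_cancel d (h.trans (smul_one d).symm))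
      · intro hy; exact htr x₀ y hx₀ hy
    have h2 : Nat.card (MulAction.orbit D x₀) = 2 ^ q - 1 := by
      rw [Nat.card_coe_set_eq, h1, Set.ncard_compl, Set.ncard_singleton, hE]
    rw [← h2, ← Nat.card_congr (MulAction.orbitEquivQuotientStabilizer D x₀).symm]
    exact Subgroup.card_quotient_dvd_card _
  rw [← φ.ker.card_mul_index] at horb
  have h1 : (2 ^ q - 1) ∣ Nat.card φ.ker := by
    refine Nat.Coprime.dvd_of_dvd_mul_right ?_ horb
    rcases hidx with h | h <;> rw [h]
    · exact Nat.coprime_one_right _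
    · exact coprime_prime_pow_sub_one hq hq2
  refine le_antisymm ?_ (Nat.le_of_dvd Nat.card_pos h1)
  let f : φ.ker → {y : E // y ≠ 1} := fun d => ⟨(d : D) • x₀, fun h =>
    hx₀ (smul_left_cancel (d : D) (h.trans (smul_one (d : D)).symm))⟩
  have hf : Function.Injective f := fun d d' h => by
    have h' : (d : D) • x₀ = (d' : D) • x₀ := congrArg Subtype.val h
    refine (inv_mul_eq_one.1 (Subtype.ext (hfree _ (d'⁻¹ * d).2 x₀ hx₀ ?_))).symm
    rw [Subgroup.coe_mul, mul_smul, h', InvMemClass.coe_inv, inv_smul_smul]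
  refine (Nat.card_le_card_of_injective f hf).trans (le_of_eq ?_)
  rw [show Nat.card {y : E // y ≠ 1} = (({1} : Set E)ᶜ).ncard from (Nat.card_coe_set_eq _),
    Set.ncard_compl, Set.ncard_singleton, hE]

end CfsgLib.BenderQ
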