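import Mathlib
import Cfsg.Agent.Lib.BenderQ.SingerLinear
import Cfsg.Agent.Lib.BenderQ.SingerConj
import Cfsg.Agent.Lib.BenderQ.SingerBasic
import Cfsg.Agent.Lib.BenderTrans.Central

/-!
The Singer configuration of a faithful two point stabiliser when the commuting involutions at a point
are `2 ^ q - 1` in number, `q` an odd prime.
-/

set_option autoImplicit false
set_option linter.style.haveILetI false

namespace CfsgLib.BenderQ

open CfsgLib.BenderTrans CfsgLib.Involutions CfsgLib.OddOrder MulAction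

universe u

variable {G : Type u} [Group G] [Finite G] {Ω : Type u} [MulAction G Ω] [Finite Ω]

/-- The standing hypotheses. -/
structure PrimeCase (G : Type u) [Group G] {Ω : Type u} [MulAction G Ω] (c y : Ω) (q : ℕ) : Prop where
  odd_solv : ∀ X : Type u, ∀ _ : Group X, ∀ _ : Finite X, Odd (Nat.card X) → Group.IsSolvable X
  base : OneFix G Ω
  faith : ∀ g : G, (∀ x : Ω, g • x = x) → g = 1
  four : HasFour G
  ne : y ≠ c
  comm : ∀ u ∈ invAt G c, ∀ w ∈ invAt G c, Commute u w
  prime : q.Prime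
  ne_two : q ≠ 2
  card_inv : (invAt G c).ncard + 1 = 2 ^ q
  faith_inv : ∀ d ∈ BenderTrans.two G c y, (∀ t ∈ invAt G c, Commute d t) → d = 1

namespace PrimeCase

variable {c y : Ω} {q : ℕ} (P : PrimeCase G c y q)
include P

theorem concl : Concl G Ω := concl_of_card_le _ G Ω le_rfl P.odd_solv P.base P.faith P.four

theorem ctx {l : ℕ} (hl : l ∣ (invAt G c).ncard) : Ctx G Ω l :=
  ⟨P.base, P.faith, P.four, P.concl, fun x => P.base.ncard_invAt_eq x c ▸ hl, P.odd_solv⟩

theorem le_stab : BenderTrans.two G c y ≤ stabilizer G c := inf_le_left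

/-- The linear part of the two point stabiliser, in the subgroup lattice of the group. -/
theorem exists_linear : ∃ (A : Subgroup G) (f : ℕ), A ≤ BenderTrans.two G c y ∧
    (∀ d ∈ BenderTrans.two G c y, ∀ a ∈ A, d * a * d⁻¹ ∈ A) ∧
    (∀ a ∈ A, ∀ b ∈ A, a * b = b * a) ∧
    (∀ a ∈ A, ∀ t ∈ invAt G c, a * t * a⁻¹ = t → a = 1) ∧
    Nat.card A = (invAt G c).ncard ∧ (f = 1 ∨ f = q) ∧
    Nat.card (BenderTrans.two G c y) = (invAt G c).ncard * f ∧
    (∀ d ∈ BenderTrans.two G c y, d ^ (invAt G c).ncard = 1 → d ∈ A) := by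
  let D := BenderTrans.two G c y
  letI : MulDistribMulAction D (invSub c P.comm) :=
    MulDistribMulAction.compHom _ ((rho P.comm).comp (Subgroup.inclusion P.le_stab))
  have hsmul : ∀ (d : D) (x : invSub c P.comm), ((d • x : invSub c P.comm) : G) =
      (d : G) * x * (d : G)⁻¹ := fun d x => rfl
  haveI : Group.IsSolvable D := P.odd_solv _ inferInstance inferInstance (P.base.odd_two P.ne.symm)
  have hmem : ∀ x : invSub c P.comm, x ≠ 1 → (x : G) ∈ invAt G c := fun x hx =>
    x.2.resolve_left fun e => hx (Subtype.ext e)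
  obtain ⟨A, hAn, hAc, hAf, hAcard, hAi⟩ := exists_linearPart (D := D) (E := invSub c P.comm)
    (invSub_comm P.comm) (invSub_sq P.comm) P.prime P.ne_two (by rw [card_invSub, P.card_inv])
    (fun d hd => Subtype.ext (P.faith_inv d d.2 fun t ht =>
      mul_inv_eq_iff_eq_mul.1 (congrArg Subtype.val (hd ⟨t, Or.inr ht⟩))))
    (fun x z hx hz => by
      obtain ⟨d, hd, e⟩ := P.base.exists_conj_invAt P.ne.symm (hmem x hx) (hmem z hz)
      exact ⟨⟨d, hd⟩, Subtype.ext e⟩)
  have hm : 2 ^ q - 1 = (invAt G c).ncard := by have := P.card_inv; omega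
  refine ⟨A.map D.subtype, A.index, Subgroup.map_subtype_le A, ?_, ?_, ?_, ?_, hAi, ?_, ?_⟩
  · rintro d hd _ ⟨a, ha, rfl⟩
    exact ⟨⟨d, hd⟩ * a * ⟨d, hd⟩⁻¹, hAn.conj_mem a ha _, rfl⟩
  · rintro _ ⟨a, ha, rfl⟩ _ ⟨b, hb, rfl⟩
    exact congrArg Subtype.val (hAc a ha b hb)
  · rintro _ ⟨a, ha, rfl⟩ t ht e
    have h1 := hAf a ha (⟨t, Or.inr ht⟩ : invSub c P.comm)
      (fun h => ne_one_of_involution ht.1 (congrArg Subtype.val h)) (Subtype.ext e)
    rw [h1]; rfl
  · rw [Subgroup.card_map_of_injective Subtype.val_injective, hAcard, hm]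
  · rw [← A.card_mul_index, hAcard, hm]
  · intro d hd hpow
    refine ⟨⟨d, hd⟩, ?_, rfl⟩
    show (⟨d, hd⟩ : D) ∈ A
    rw [← QuotientGroup.eq_one_iff]
    have h1 : ((⟨d, hd⟩ : D) : D ⧸ A) ^ (invAt G c).ncard = 1 := by
      rw [← QuotientGroup.mk_pow, show (⟨d, hd⟩ : D) ^ (invAt G c).ncard = 1 from Subtype.ext hpow,
        QuotientGroup.mk_one]
    have h2 : ((⟨d, hd⟩ : D) : D ⧸ A) ^ A.index = 1 := by
      rw [Subgroup.index_eq_card]; exact pow_card_eq_one'
    have h3 : Nat.Coprime (invAt G c).ncard A.index := by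
      rcases hAi with h | h <;> rw [h]
      · exact Nat.coprime_one_right _
      · rw [← hm]; exact coprime_prime_pow_sub_one P.prime P.ne_two
    have h4 := pow_gcd_eq_one.mpr ⟨h1, h2⟩
    rwa [h3.gcd_eq_one, pow_one] at h4

/-- A nontrivial element of the linear part fixes only the pair. -/
theorem fix_pair_of_free {A : Subgroup G} (hle : A ≤ BenderTrans.two G c y)
    (hfree : ∀ a ∈ A, ∀ t ∈ invAt G c, a * t * a⁻¹ = t → a = 1)
    (hcard : Nat.card A = (invAt G c).ncard) {a : G} (ha : a ∈ A) (ha1 : a ≠ 1) (x : Ω)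
    (hx : a • x = x) : x = c ∨ x = y := by
  by_contra hne
  push Not at hne
  obtain ⟨l, hl, hla⟩ := Nat.exists_prime_and_dvd (show orderOf a ≠ 1 from fun e =>
    ha1 (orderOf_eq_one_iff.1 e))
  haveI : Fact l.Prime := ⟨hl⟩
  set b := a ^ (orderOf a / l) with hb
  have hbo : orderOf b = l := orderOf_pow_orderOf_div (orderOf_pos a).ne' hla
  have hbA : b ∈ A := pow_mem ha _
  have hlm : l ∣ (invAt G c).ncard := hla.trans (hcard ▸ Subgroup.orderOf_dvd_natCard A ha)
  have C := P.ctx hlm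
  set S := Subgroup.zpowers b with hS
  have hSp : IsPGroup l S := IsPGroup.of_card (n := 1) (by rw [hS, Nat.card_zpowers, hbo, pow_one])
  have hfixa : ∀ z, a • z = z → z ∈ fixSet Ω S := fun z hz =>
    mem_fixSet_iff_le.2 ((Subgroup.zpowers_le).2 (pow_mem (show a ∈ stabilizer G z from hz) _))
  have hac := mem_two_iff.1 (hle ha)
  have h3 : 2 < (fixSet Ω S).ncard := (Set.two_lt_ncard (Set.toFinite _)).2
    ⟨c, hfixa c hac.1, y, hfixa y hac.2, x, hfixa x hx, P.ne.symm, hne.1.symm, hne.2.symm⟩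
  obtain ⟨-, hcen⟩ := C.lineFix (central_of_card_le _ G Ω le_rfl P.odd_solv P.base P.faith P.four l)
    hSp h3
  have hc : c ∈ fixSet Ω S := hfixa c hac.1
  rw [← hcen] at hc
  obtain ⟨t, htC, ht⟩ := hc
  have hbt : b * t = t * b := htC b (Subgroup.mem_zpowers b)
  have hb1 : b = 1 := hfree b hbA t ⟨ht.1, ht.2⟩ (by rw [hbt, mul_inv_cancel_right])
  rw [hb1, orderOf_one] at hbo
  exact hl.one_lt.ne hbo

/-- No involution centralises an element fixing only the pair. -/
theorem not_commute_involution {a t : G} (hfix : ∀ x, a • x = x → x = c ∨ x = y)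
    (hac : a • c = c) (hay : a • y = y) (ht : orderOf t = 2) (hct : Commute a t)
    (htp : t • c = y ∨ t • y = c ∨ (t • c = c ∧ t • y = y)) : False := by
  obtain ⟨e, he⟩ := P.base.exists_fix t ht
  have htc : t • c = c ∨ t • c = y := hfix _ (by rw [← mul_smul, hct.eq, mul_smul, hac])
  have hty : t • y = c ∨ t • y = y := hfix _ (by rw [← mul_smul, hct.eq, mul_smul, hay])
  have hae : a • e = e := fix_of_commute_point P.base ⟨ht, he⟩ hct
  have hboth : t • c = c ∧ t • y = y := by
    rcases hfix e hae with rfl | rfl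
    · refine ⟨he, hty.resolve_left fun h => P.ne (smul_left_cancel t (h.trans he.symm))⟩
    · refine ⟨htc.resolve_right fun h => P.ne (smul_left_cancel t (he.trans h.symm)), he⟩
  exact P.ne (P.base.unique t ht y c hboth.2 hboth.1)
where
  fix_of_commute_point (h : OneFix G Ω) {t a : G} {e : Ω} (ht : t ∈ invAt G e)
      (hc : Commute a t) : a • e = e := h.fix_of_commute ht hc

/-- A nontrivial element of the linear part commutes only with the linear part. -/
theorem not_central {A : Subgroup G} (hle : A ≤ BenderTrans.two G c y)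
    (hfree : ∀ a ∈ A, ∀ t ∈ invAt G c, a * t * a⁻¹ = t → a = 1)
    (hcard : Nat.card A = (invAt G c).ncard)
    (htrans : ∀ u ∈ invAt G c, ∀ w ∈ invAt G c, ∃ a ∈ A, a * u * a⁻¹ = w)
    (hconj : ∀ d ∈ BenderTrans.two G c y, ∀ a ∈ A, d * a * d⁻¹ ∈ A)
    (hab : ∀ a ∈ A, ∀ b ∈ A, a * b = b * a) {a g : G} (ha : a ∈ A) (ha1 : a ≠ 1)
    (hgD : g ∈ BenderTrans.two G c y) (hgA : g ∉ A) (hga : Commute a g) : False := by
  classical
  obtain ⟨v, hv⟩ := P.base.exists_invAt c
  have hgv : g * v * g⁻¹ ∈ invAt G c := by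
    have := conj_mem_invAt (g := g) hv
    rwa [(mem_two_iff.1 hgD).1] at this
  obtain ⟨b, hb, hbv⟩ := htrans v hv _ hgv
  set d := b⁻¹ * g with hd
  have hdv : Commute d v := mul_inv_eq_iff_eq_mul.1 (by
    calc d * v * d⁻¹ = b⁻¹ * (g * v * g⁻¹) * b := by rw [hd]; group
      _ = v := by rw [← hbv]; group)
  have had : Commute a d := (Commute.inv_right (hab a ha b hb)).mul_right hga
  have hdA : d ∉ A := fun h => hgA (by
    have := mul_mem hb h
    rwa [hd, mul_inv_cancel_left] at this)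
  -- the fixed group and its regular group
  set W := invSub c P.comm ⊓ Subgroup.centralizer ({d} : Set G) with hW
  set B := A ⊓ Subgroup.centralizer ({d} : Set G) with hB
  have haB : a ∈ B := ⟨ha, Subgroup.mem_centralizer_singleton_iff.2 had.eq⟩
  have hBsub : ∀ x ∈ B, x * v * x⁻¹ ∈ (W : Set G) \ {1} := by
    intro x hx
    have h1 : x * v * x⁻¹ ∈ invAt G c := by
      have := conj_mem_invAt (g := x) hv
      rwa [(mem_two_iff.1 (hle hx.1)).1] at this
    refine ⟨⟨Or.inr h1, Subgroup.mem_centralizer_singleton_iff.2 ?_⟩, ne_one_of_involution h1.1⟩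
    have hxd : Commute x d := Subgroup.mem_centralizer_singleton_iff.1 hx.2
    exact ((hxd.mul_left hdv.symm).mul_left hxd.inv_left).eq
  have hcount : Nat.card B + 1 = Nat.card W := by
    have hbij : Set.BijOn (fun x => x * v * x⁻¹) (B : Set G) ((W : Set G) \ {1}) := by
      refine ⟨hBsub, fun x hx z hz e => ?_, fun w hw => ?_⟩
      · refine (inv_mul_eq_one.1 (hfree _ (mul_mem (inv_mem hz.1) hx.1) v hv ?_)).symm
        calc z⁻¹ * x * v * (z⁻¹ * x)⁻¹ = z⁻¹ * (x * v * x⁻¹) * z := by group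
          _ = v := by rw [show x * v * x⁻¹ = z * v * z⁻¹ from e]; group
      · have hwI : w ∈ invAt G c := hw.1.1.resolve_left hw.2
        obtain ⟨x, hx, e⟩ := htrans v hv w hwI
        refine ⟨x, ⟨hx, Subgroup.mem_centralizer_singleton_iff.2 ?_⟩, e⟩
        have hx' : d * x * d⁻¹ ∈ A := by
          have h1 : g * x * g⁻¹ ∈ A := hconj g hgD x hx
          have h2 := mul_mem (mul_mem (inv_mem hb) h1) hb
          rwa [show b⁻¹ * (g * x * g⁻¹) * b = d * x * d⁻¹ by rw [hd]; group] at h2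
        have hwd : d * w * d⁻¹ = w :=
          mul_inv_eq_iff_eq_mul.2 (Subgroup.mem_centralizer_singleton_iff.1 hw.1.2).symm
        have h3 : (x⁻¹ * (d * x * d⁻¹)) * v * (x⁻¹ * (d * x * d⁻¹))⁻¹ = v := by
          calc _ = x⁻¹ * (d * (x * (d⁻¹ * v * d) * x⁻¹) * d⁻¹) * x := by group
            _ = x⁻¹ * w * x := by
              rw [show d⁻¹ * v * d = v by rw [mul_assoc, ← hdv.eq, inv_mul_cancel_left], e, hwd]
            _ = v := by rw [← e]; group
        exact (mul_inv_eq_iff_eq_mul.1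
          (inv_mul_eq_one.1 (hfree _ (mul_mem (inv_mem hx) hx') v hv h3)).symm).symm
    have h1 : Nat.card B = ((W : Set G) \ {1}).ncard := by
      rw [← hbij.image_eq, Set.InjOn.ncard_image hbij.injOn, ← Nat.card_coe_set_eq]; rfl
    rw [h1, Set.ncard_sdiff_singleton_of_mem (one_mem W), ← Nat.card_coe_set_eq]
    exact Nat.sub_add_cancel Nat.card_pos
  obtain ⟨k, hkq, hk⟩ := (Nat.dvd_prime_pow Nat.prime_two).1 (show Nat.card W ∣ 2 ^ q by
    rw [← P.card_inv, ← card_invSub P.comm]; exact Subgroup.card_dvd_of_le inf_le_left)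
  have hdvd : (2 ^ k - 1) ∣ (2 ^ q - 1) := by
    have h1 : Nat.card B ∣ (invAt G c).ncard := hcard ▸ Subgroup.card_dvd_of_le inf_le_left
    have h2 := P.card_inv
    rwa [show 2 ^ q - 1 = (invAt G c).ncard by omega, show 2 ^ k - 1 = Nat.card B by omega]
  have hgcd : Nat.gcd k q = k := by
    have h1 := Nat.pow_sub_one_gcd_pow_sub_one 2 k q
    rw [Nat.gcd_eq_left hdvd] at h1
    have h2 : 1 ≤ 2 ^ k := Nat.one_le_two_pow
    have h3 : 1 ≤ 2 ^ Nat.gcd k q := Nat.one_le_two_pow
    exact (Nat.pow_right_injective le_rfl (show 2 ^ k = 2 ^ Nat.gcd k q by omega)).symm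
  have hkd : k ∣ q := hgcd ▸ Nat.gcd_dvd_right k q
  rcases (Nat.dvd_prime P.prime).1 hkd with rfl | rfl
  · have hB1 : Nat.card B = 1 := by omega
    exact ha1 (Subgroup.mem_bot.1 (Subgroup.eq_bot_of_card_eq B hB1 ▸ haB))
  · have hWE : W = invSub c P.comm := Subgroup.eq_of_le_of_card_ge inf_le_left
      (by rw [card_invSub, P.card_inv, hk])
    refine hdA ?_
    have hd2 : d ∈ BenderTrans.two G c y := mul_mem (inv_mem (hle hb)) hgD
    rw [P.faith_inv d hd2 fun t ht => ?_]
    · exact one_mem A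
    · have : t ∈ W := hWE.symm ▸ (Or.inr ht : t ∈ invSub c P.comm)
      exact (Subgroup.mem_centralizer_singleton_iff.1 this.2).symm

/-- The Singer configuration. -/
theorem exists_singer : ∃ (f : ℕ) (A : Subgroup G) (r : G), Singer G c y q f A r := by
  obtain ⟨A, f, hle, hconj, hab, hfree, hcard, hf, htwo, hpowA⟩ := P.exists_linear
  have hfix : ∀ a ∈ A, a ≠ 1 → ∀ x : Ω, a • x = x → x = c ∨ x = y := fun a ha ha1 x hx =>
    P.fix_pair_of_free hle hfree hcard ha ha1 x hx
  obtain ⟨t, ht⟩ := P.base.exists_invAt c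
  obtain ⟨s, hs⟩ := P.base.exists_invAt y
  obtain ⟨r, hr, -, -⟩ := P.base.exists_mid ht hs P.ne.symm
  have htrans : ∀ u ∈ invAt G c, ∀ w ∈ invAt G c, ∃ a ∈ A, a * u * a⁻¹ = w := by
    intro u hu
    let g : A → invAt G c := fun a => ⟨(a : G) * u * (a : G)⁻¹, by
      have := conj_mem_invAt (g := (a : G)) hu
      rwa [(mem_two_iff.1 (hle a.2)).1] at this⟩
    have hg : Function.Injective g := fun a b e => by
      have e' : (a : G) * u * (a : G)⁻¹ = (b : G) * u * (b : G)⁻¹ := congrArg Subtype.val e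
      refine Subtype.ext (inv_mul_eq_one.1 (hfree _ (mul_mem (inv_mem b.2) a.2) u hu ?_)).symm
      calc (b : G)⁻¹ * a * u * ((b : G)⁻¹ * a)⁻¹ = (b : G)⁻¹ * ((a : G) * u * (a : G)⁻¹) * b := by
            group
        _ = u := by rw [e']; group
    have hbij := (Nat.bijective_iff_injective_and_card g).2
      ⟨hg, by rw [hcard, Nat.card_coe_set_eq]⟩
    intro w hw
    obtain ⟨a, ha⟩ := hbij.2 ⟨w, hw⟩
    exact ⟨a, a.2, congrArg Subtype.val ha⟩
  have hrD : ∀ d ∈ BenderTrans.two G c y, r * d * r⁻¹ ∈ BenderTrans.two G c y := fun d hd =>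
    (Subgroup.mem_normalizer_iff.1 (OneFix.swap_normalizes hr) d).1 hd
  have hrA : ∀ a ∈ A, r * a * r⁻¹ ∈ A := fun a ha => hpowA _ (hrD a (hle ha)) (by
    rw [conj_pow, ← hcard, show a ^ Nat.card A = 1 from
      congrArg Subtype.val (pow_card_eq_one' (x := (⟨a, ha⟩ : A))), mul_one, mul_inv_cancel])
  have hrfix : ∀ a ∈ A, r * a * r⁻¹ = a → a = 1 := by
    intro a ha e
    by_contra ha1
    exact P.not_commute_involution (hfix a ha ha1) (mem_two_iff.1 (hle ha)).1
      (mem_two_iff.1 (hle ha)).2 hr.1 (mul_inv_eq_iff_eq_mul.1 e).symm (Or.inl hr.2)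
  have hinv : ∀ a ∈ A, r * a * r⁻¹ = a⁻¹ := by
    intro a ha
    let φ : A →* A :=
      { toFun := fun x => ⟨r * x * r⁻¹, hrA x x.2⟩
        map_one' := Subtype.ext (by simp)
        map_mul' := fun x z => Subtype.ext (show r * ((x : G) * z) * r⁻¹ = r * x * r⁻¹ * (r * z * r⁻¹) by group) }
    have hfp : MonoidHom.FixedPointFree φ := fun x hx =>
      Subtype.ext (hrfix x x.2 (congrArg Subtype.val hx))
    have hinvol : Function.Involutive φ := fun x => Subtype.ext (by
      show r * (r * x * r⁻¹) * r⁻¹ = x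
      rw [inv_eq_self_of_involution hr.1,
        show r * (r * (x : G) * r) * r = (r * r) * x * (r * r) by group, mul_self_eq_one hr.1,
        one_mul, mul_one])
    exact congrArg Subtype.val (congrFun (hfp.coe_eq_inv_of_involutive hinvol) ⟨a, ha⟩)
  have hcent : ∀ a ∈ A, a ≠ 1 → Subgroup.centralizer ({a} : Set G) ≤ A := by
    intro a ha ha1 g hg
    have hga : Commute a g := (Subgroup.mem_centralizer_singleton_iff.1 hg).symm
    have hac := mem_two_iff.1 (hle ha)
    have key : ∀ x, a • x = x → g • x = c ∨ g • x = y := fun x hx =>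
      hfix a ha ha1 _ (by rw [← mul_smul, hga.eq, mul_smul, hx])
    have hgD : g ∈ BenderTrans.two G c y := by
      rcases key c hac.1 with h1 | h1
      · exact mem_two_iff.2 ⟨h1, (key y hac.2).resolve_left fun h2 =>
          P.ne (smul_left_cancel g (h2.trans h1.symm))⟩
      · exfalso
        have h2 : g • y = c := (key y hac.2).resolve_right fun h2 =>
          P.ne (smul_left_cancel g (h2.trans h1.symm))
        obtain ⟨k, hk⟩ := BenderTrans.exists_involution_pow (even_orderOf_of_swap P.ne.symm h1 h2)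
        have hck : Commute a (g ^ k) := hga.pow_right k
        refine P.not_commute_involution (hfix a ha ha1) hac.1 hac.2 hk hck ?_
        have hk1 : ∀ j : ℕ, ((g ^ j) • c = c ∧ (g ^ j) • y = y) ∨ ((g ^ j) • c = y ∧ (g ^ j) • y = c) := by
          intro j
          induction j with
          | zero => exact Or.inl ⟨by rw [pow_zero, one_smul], by rw [pow_zero, one_smul]⟩
          | succ j ih =>
            rw [pow_succ', mul_smul, mul_smul]
            rcases ih with ⟨i1, i2⟩ | ⟨i1, i2⟩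
            · exact Or.inr ⟨by rw [i1, h1], by rw [i2, h2]⟩
            · exact Or.inl ⟨by rw [i1, h2], by rw [i2, h1]⟩
        rcases hk1 k with h | h
        · exact Or.inr (Or.inr h)
        · exact Or.inl h.1
    by_contra hgA
    exact P.not_central hle hfree hcard htrans hconj hab ha ha1 hgD hgA hga
  exact ⟨f, A, r, P.base, P.concl.trans2, P.ne.symm, P.prime, P.ne_two, P.card_inv, hf, P.comm, hle,
    hconj, hab, htrans, hcard, htwo, hr, hinv, hfix, hcent⟩

end PrimeCase

end CfsgLib.BenderQ
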