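import Mathlib
import Cfsg.Agent.Lib.BenderQ.SingerData

/-!
When no element of the point stabiliser interchanges two of the commuting involutions at the point,
the stabiliser is the product of their centraliser and the two point stabiliser.
-/

set_option autoImplicit false
set_option linter.style.haveILetI false

namespace CfsgLib.BenderQ

open CfsgLib.BenderTrans CfsgLib.Involutions CfsgLib.OddOrder MulAction

universe u

variable {G : Type u} [Group G] [Finite G] {Ω : Type u} [MulAction G Ω] [Finite Ω]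

namespace PrimeCase

variable {c y : Ω} {q : ℕ} (P : PrimeCase G c y q)
include P

/-- The image of the point stabiliser has odd order. -/
theorem odd_image
    (hswap : ∀ g u w : G, g • c = c → u ∈ invAt G c → w ∈ invAt G c → u ≠ w → g * u * g⁻¹ = w →
      g * w * g⁻¹ = u → False) : Odd (Nat.card (rho P.comm).range) := by
  rw [← Nat.not_even_iff_odd]
  intro he
  obtain ⟨σ, hσ⟩ := exists_prime_orderOf_dvd_card' (G := (rho P.comm).range) 2 he.two_dvd
  obtain ⟨g, hg⟩ := σ.2
  have hσ1 : (σ : MulAut (invSub c P.comm)) ≠ 1 := fun e =>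
    ne_one_of_involution hσ (Subtype.ext e)
  obtain ⟨x, hx⟩ : ∃ x, (σ : MulAut (invSub c P.comm)) x ≠ x := by
    by_contra h
    push Not at h
    exact hσ1 (MulEquiv.ext h)
  have hx1 : (x : G) ∈ invAt G c := x.2.resolve_left fun e => hx (by
    rw [show x = 1 from Subtype.ext e, map_one])
  have hσσ : (σ : MulAut (invSub c P.comm)) ((σ : MulAut (invSub c P.comm)) x) = x := by
    rw [← MulAut.mul_apply, ← Subgroup.coe_mul, mul_self_eq_one hσ]; rfl
  have hw : ((rho P.comm g x : invSub c P.comm) : G) ∈ invAt G c := by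
    rw [rho_coe]
    have := conj_mem_invAt (g := (g : G)) hx1
    rwa [show (g : G) • c = c from g.2] at this
  refine hswap g x (rho P.comm g x : invSub c P.comm) g.2 hx1 hw ?_ (rho_coe P.comm g x).symm ?_
  · intro e
    exact hx (Subtype.ext (by rw [← hg]; exact e.symm))
  · rw [← rho_coe, hg, hσσ]

/-- The stabiliser is the product of the centraliser of its involutions and the two point stabiliser. -/
theorem decomp_of_no_swap
    (hswap : ∀ g u w : G, g • c = c → u ∈ invAt G c → w ∈ invAt G c → u ≠ w → g * u * g⁻¹ = w →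
      g * w * g⁻¹ = u → False) :
    ∀ g ∈ stabilizer G c, ∃ k ∈ stabilizer G c, (∀ t ∈ invAt G c, Commute k t) ∧
      ∃ e ∈ BenderTrans.two G c y, g = k * e := by
  classical
  obtain ⟨A, f, hle, hconj, hab, hfree, hcard, hf, htwo, hpowA⟩ := P.exists_linear
  set R := (rho P.comm).range with hR
  letI : MulDistribMulAction R (invSub c P.comm) :=
    MulDistribMulAction.compHom _ R.subtype
  haveI : Group.IsSolvable R := P.odd_solv _ inferInstance inferInstance (P.odd_image hswap)
  obtain ⟨A', hA'n, -, hA'free, hA'card, hA'i⟩ := exists_linearPart (D := R) (E := invSub c P.comm)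
    (invSub_comm P.comm) (invSub_sq P.comm) P.prime P.ne_two (by rw [card_invSub, P.card_inv])
    (fun σ hσ => Subtype.ext (MulEquiv.ext hσ))
    (fun x z hx hz => by
      obtain ⟨d, hd, e⟩ := P.base.exists_conj_invAt P.ne.symm
        (x.2.resolve_left fun h => hx (Subtype.ext h)) (z.2.resolve_left fun h => hz (Subtype.ext h))
      exact ⟨⟨rho P.comm ⟨d, P.le_stab hd⟩, _, rfl⟩, Subtype.ext e⟩)
  have hm : 2 ^ q - 1 = (invAt G c).ncard := by have := P.card_inv; omega
  have hAT : A ≤ stabilizer G c := hle.trans P.le_stab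
  let j : A →* R := (rho P.comm).rangeRestrict.comp (Subgroup.inclusion hAT)
  have hjA : ∀ a : A, j a ∈ A' := by
    intro a
    rw [← QuotientGroup.eq_one_iff]
    have h1 : ((j a : R) : R ⧸ A') ^ (invAt G c).ncard = 1 := by
      rw [← QuotientGroup.mk_pow, ← map_pow, ← hcard, pow_card_eq_one', map_one, QuotientGroup.mk_one]
    have h2 : ((j a : R) : R ⧸ A') ^ A'.index = 1 := by
      rw [Subgroup.index_eq_card]; exact pow_card_eq_one'
    have h3 : Nat.Coprime (invAt G c).ncard A'.index := by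
      rcases hA'i with h | h <;> rw [h]
      · exact Nat.coprime_one_right _
      · rw [← hm]; exact coprime_prime_pow_sub_one P.prime P.ne_two
    have h4 := pow_gcd_eq_one.mpr ⟨h1, h2⟩
    rwa [h3.gcd_eq_one, pow_one] at h4
  obtain ⟨v, hv⟩ := P.base.exists_invAt c
  have hjinj : Function.Injective j := by
    intro a b e
    have e1 : rho P.comm ⟨a, hAT a.2⟩ = rho P.comm ⟨b, hAT b.2⟩ := congrArg Subtype.val e
    have e2 : (a : G) * v * (a : G)⁻¹ = (b : G) * v * (b : G)⁻¹ :=
      congrArg Subtype.val (DFunLike.congr_fun e1 (⟨v, Or.inr hv⟩ : invSub c P.comm))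
    refine Subtype.ext (inv_mul_eq_one.1 (hfree _ (mul_mem (inv_mem b.2) a.2) v hv ?_)).symm
    calc (b : G)⁻¹ * a * v * ((b : G)⁻¹ * a)⁻¹ = (b : G)⁻¹ * ((a : G) * v * (a : G)⁻¹) * b := by group
      _ = v := by rw [e2]; group
  have hjbij : Function.Bijective (fun a : A => (⟨j a, hjA a⟩ : A')) :=
    (Nat.bijective_iff_injective_and_card _).2
      ⟨fun a b e => hjinj (congrArg Subtype.val e), by rw [hcard, hA'card, hm]⟩
  -- the preimage of the linear part of the image
  set M₁ : Subgroup (stabilizer G c) := A'.comap (rho P.comm).rangeRestrict with hM₁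
  set M := M₁.map (stabilizer G c).subtype with hM
  have hMT : M ≤ stabilizer G c := Subgroup.map_subtype_le _
  have hMn : ∀ g ∈ stabilizer G c, g ∈ Subgroup.normalizer (M : Set G) := by
    intro g hg
    haveI : Finite (M : Set G) := Set.toFinite _
    refine Subgroup.mem_normalizer_fintype ?_
    rintro _ ⟨x, hx, rfl⟩
    exact ⟨⟨g, hg⟩ * x * ⟨g, hg⟩⁻¹,
      (inferInstance : M₁.Normal).conj_mem x hx _, rfl⟩
  have hsplit : ∀ d ∈ M, ∃ a ∈ A, ∀ t ∈ invAt G c, Commute (d * a⁻¹) t := by
    rintro _ ⟨x, hx, rfl⟩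
    obtain ⟨a, ha⟩ := hjbij.2 ⟨(rho P.comm).rangeRestrict x, hx⟩
    refine ⟨a, a.2, (rho_eq_one_iff P.comm (g := x * (⟨a, hAT a.2⟩ : stabilizer G c)⁻¹)).1 ?_⟩
    have e1 : rho P.comm ⟨a, hAT a.2⟩ = rho P.comm x :=
      congrArg (fun z : A' => ((z : R) : MulAut (invSub c P.comm))) ha
    rw [map_mul, map_inv, e1, mul_inv_cancel]
  -- a prime dividing the number of involutions
  set p := (invAt G c).ncard.minFac with hp
  have hm7 : (invAt G c).ncard ≠ 1 := by
    intro h
    have h1 := P.card_inv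
    rw [h] at h1
    exact absurd (Nat.pow_right_injective le_rfl (show 2 ^ 1 = 2 ^ q by rw [← h1]))
      P.prime.one_lt.ne
  haveI : Fact p.Prime := ⟨Nat.minFac_prime hm7⟩
  have hpm : p ∣ (invAt G c).ncard := Nat.minFac_dvd _
  obtain ⟨W, hW, -⟩ := exists_sylowOf_ge (p := p) (bot_le : (⊥ : Subgroup G) ≤ BenderTrans.two G c y)
    IsPGroup.of_bot
  obtain ⟨hfixW, hWT⟩ := (P.ctx hpm).fix_pair P.ne.symm hW
  have hpf : Nat.Coprime p f := by
    rcases hf with h | h <;> rw [h]
    · exact Nat.coprime_one_right _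
    · exact (coprime_prime_pow_sub_one P.prime P.ne_two).coprime_dvd_left (hm ▸ hpm)
  have hWA : W ≤ A := by
    intro w hw
    refine hpowA w (hW.1 hw) ?_
    obtain ⟨k, hk⟩ := hW.2.1 ⟨w, hw⟩
    have hk' : w ^ p ^ k = 1 := congrArg Subtype.val hk
    have h2 : orderOf w ∣ (invAt G c).ncard :=
      ((hpf.pow_left k).coprime_dvd_left (orderOf_dvd_of_pow_eq_one hk')).dvd_of_dvd_mul_right
        (htwo ▸ Subgroup.orderOf_dvd_natCard _ (hW.1 hw))
    exact orderOf_dvd_iff_pow_eq_one.1 h2
  have hWM : W ≤ M := fun w hw => ⟨⟨w, hAT (hWA hw)⟩, hjA ⟨w, hWA hw⟩, rfl⟩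
  have hWMs : SylowOf p W M := hWT.mono hMT hWM
  intro g hg
  obtain ⟨d, hd, hdW⟩ := exists_conj_sylowOf hWMs (sylowOf_conj hWMs (hMn g hg))
  obtain ⟨a, ha, hk⟩ := hsplit d hd
  have hdc : d • c = c := hMT hd
  set e := d⁻¹ * g with he
  have hec : e • c = c := by
    rw [he, mul_smul, show g • c = c from hg, inv_smul_eq_iff, hdc]
  have hWe : W.map (MulAut.conj e).toMonoidHom = W := by
    have h1 := congrArg (Subgroup.map (MulAut.conj d⁻¹).toMonoidHom) hdW
    rw [Subgroup.map_map, Subgroup.map_map] at h1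
    rw [he]
    convert h1 using 2
    · ext z; simp [mul_assoc]
    · refine (Subgroup.map_id W).symm.trans ?_
      congr 1
      ext z; simp [mul_assoc]
  have hey : e • y = y := by
    have h1 : e • y ∈ fixSet Ω W := by
      rw [← hWe, fixSet_map_conj, hfixW]
      exact ⟨y, Set.mem_insert_of_mem _ rfl, rfl⟩
    rw [hfixW] at h1
    rcases h1 with h1 | h1
    · exact absurd (smul_left_cancel e (h1.trans hec.symm)) P.ne
    · exact h1
  refine ⟨d * a⁻¹, mul_mem (hMT hd) (inv_mem (hAT ha)), hk, a * e,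
    mul_mem (hle ha) (mem_two_iff.2 ⟨hec, hey⟩), ?_⟩
  rw [he]; group

/-- The decomposition, given that no Singer configuration has an interchanging element. -/
theorem decomp_of_core
    (hcore : ∀ (f : ℕ) (A : Subgroup G) (r : G), Singer G c y q f A r →
      ∀ g u w : G, g • c = c → u ∈ invAt G c → w ∈ invAt G c → u ≠ w → g * u * g⁻¹ = w →
        g * w * g⁻¹ = u → False) :
    ∀ g ∈ stabilizer G c, ∃ k ∈ stabilizer G c, (∀ t ∈ invAt G c, Commute k t) ∧
      ∃ e ∈ BenderTrans.two G c y, g = k * e := by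
  obtain ⟨f, A, r, S⟩ := P.exists_singer
  exact P.decomp_of_no_swap (hcore f A r S)

end PrimeCase

end CfsgLib.BenderQ
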