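import Cfsg.Agent.Lib.BenderQ.SingerChars
import Cfsg.Agent.Lib.Characters.TIFNChar

/-!
The values of all irreducible characters on `A` in the Singer configuration.
-/

set_option autoImplicit false
set_option linter.unusedSectionVars false

noncomputable section

namespace CfsgLib.BenderQ

open CfsgLib.BenderTrans CfsgLib.Involutions MulAction Cfsg CfsgLib.Characters CfsgLib.FrobKernelChar
open scoped ComplexConjugate Classical

universe u v

variable {G : Type u} [Group G] {Ω : Type v} [MulAction G Ω]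

namespace Singer

variable {c y : Ω} {q f : ℕ} {A : Subgroup G} {r : G} (S : Singer G c y q f A r)
include S

/-- The normaliser of `A`. -/
local notation "N" => Subgroup.normalizer (A : Set G)
/-- `A` inside its normaliser. -/
local notation "K'" => Subgroup.subgroupOf A (Subgroup.normalizer (A : Set G))

variable [Fintype G] [Finite Ω]

theorem trivial_of_conj {g : G} (hg : g ∉ N) {k : G} (hk : k ∈ A) (h : g * k * g⁻¹ ∈ A) : k = 1 := by
  by_contra hk1
  have hb1 : g * k * g⁻¹ ≠ 1 := fun e => hk1 (by simpa using e)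
  have key : ∀ x, k • x = x → g • x = c ∨ g • x = y := fun x hx => by
    refine S.fix _ h hb1 _ ?_
    rw [mul_smul, mul_smul, inv_smul_smul, hx]
  have hne : g • c ≠ g • y := fun e => S.ne (smul_left_cancel g e)
  refine hg (S.mem_normalizer_iff.2 ?_)
  rcases key c (S.smul_c hk) with h1 | h1 <;> rcases key y (S.smul_y hk) with h2 | h2
  · exact absurd (h1.trans h2.symm) hne
  · exact Or.inl (mem_two_iff.2 ⟨h1, h2⟩)
  · exact Or.inr (mem_two_iff.2 ⟨by rw [mul_smul, h1, S.r_smul_y], by rw [mul_smul, h2, S.r_smul_c]⟩)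
  · exact absurd (h1.trans h2.symm) hne

theorem r_not_mem_two : r ∉ BenderTrans.two G c y := fun h =>
  S.oneFix.not_involution_of_two S.ne h S.swap.1

theorem card_normalizer : Nat.card N = 2 * ((invAt G c).ncard * f) := by
  let F : Bool × BenderTrans.two G c y → N := fun p =>
    ⟨(if p.1 then r else 1) * (p.2 : G), S.mem_normalizer_iff.2 (by
      obtain ⟨b, d, hd⟩ := p
      cases b
      · left; simpa using hd
      · right; simpa [← mul_assoc, S.sq_r] using hd)⟩
  have hF : Function.Bijective F := by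
    constructor
    · rintro ⟨b, d⟩ ⟨b', d'⟩ h
      have h' : (if b then r else 1) * (d : G) = (if b' then r else 1) * (d' : G) :=
        congrArg Subtype.val h
      cases b <;> cases b' <;> simp only [if_true, Bool.false_eq_true, if_false, one_mul] at h'
      · rw [Subtype.ext h']
      · exfalso
        refine S.r_not_mem_two ?_
        have := mul_mem d.2 (inv_mem d'.2)
        rwa [h', mul_inv_cancel_right] at this
      · exfalso
        refine S.r_not_mem_two ?_
        have := mul_mem d'.2 (inv_mem d.2)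
        rwa [← h', mul_inv_cancel_right] at this
      · rw [Subtype.ext (mul_left_cancel h')]
    · rintro ⟨g, hg⟩
      rcases S.mem_normalizer_iff.1 hg with h | h
      · exact ⟨(false, ⟨g, h⟩), Subtype.ext (by simp [F])⟩
      · exact ⟨(true, ⟨r * g, h⟩), Subtype.ext (by simp [F, ← mul_assoc, S.sq_r])⟩
  rw [← Nat.card_congr (Equiv.ofBijective F hF), Nat.card_prod, S.card_two,
    Nat.card_eq_fintype_card, Fintype.card_bool]

theorem index_A : (K').index = 2 * f := by
  have h := (K').card_mul_index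
  rw [Nat.card_congr (Subgroup.subgroupOfEquivOfLe (Subgroup.le_normalizer (H := A))).toEquiv,
    S.card_A, S.card_normalizer] at h
  refine Nat.eq_of_mul_eq_mul_left (show 0 < (invAt G c).ncard by have := S.seven_le; omega) ?_
  rw [h]; ring

theorem degree_rel (χ : IrrCharacter N) (hχ : Relevant K' (χ : N → ℂ)) :
    (χ : N → ℂ) 1 = (2 * f : ℕ) := by
  rw [TIFNChar.degree_eq_index S.cent S.abelian hχ, S.index_A]

/-- `2 f s + 1 = m` for the number `s` of exceptional characters. -/
theorem card_rel : 2 * f * (relSet (K')).card + 1 = (invAt G c).ncard := by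
  haveI : (K').Normal := Subgroup.normal_in_normalizer
  have hs := sum_sq_degrees (G := ↥(N))
  rw [← Finset.sum_add_sum_compl (relSet (K')), Finset.sum_congr rfl (fun χ hχ => by
    rw [S.degree_rel χ (mem_relSet.1 hχ)] : ∀ χ ∈ relSet (K'), _ = ((2 * f : ℕ) : ℂ) ^ 2),
    Finset.sum_const, nsmul_eq_mul] at hs
  simp only [sq] at hs
  rw [sum_sq_irrelevant, S.index_A, S.card_normalizer] at hs
  have h : (relSet (K')).card * ((2 * f) * (2 * f)) + 2 * f = 2 * ((invAt G c).ncard * f) := by
    exact_mod_cast hs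
  refine Nat.eq_of_mul_eq_mul_left (show 0 < 2 * f by have := S.f_pos; omega) ?_
  linarith

theorem sum_rel {k : N} (hk : k ∈ K') (hk1 : k ≠ 1) :
    ∑ χ ∈ relSet (K'), (χ : N → ℂ) k = -1 := by
  haveI : (K').Normal := Subgroup.normal_in_normalizer
  have h := sum_degree_mul_relevant hk hk1
  rw [Finset.sum_congr rfl (fun χ hχ => by rw [S.degree_rel χ (mem_relSet.1 hχ)] :
    ∀ χ ∈ relSet (K'), _ = ((2 * f : ℕ) : ℂ) * (χ : N → ℂ) k), ← Finset.mul_sum, S.index_A] at h
  refine mul_left_cancel₀ (show ((2 * f : ℕ) : ℂ) ≠ 0 by have := S.f_pos; norm_cast; omega) ?_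
  rw [h]; ring

/-- The exceptional characters and the values of the irreducible characters on `A`. -/
theorem exists_values :
    ∃ (ε : ℤ) (F : {χ : IrrCharacter N // χ ∈ relSet (K')} → IrrCharacter G) (b : IrrCharacter G → ℤ),
      (ε = 1 ∨ ε = -1) ∧ Function.Injective F ∧
      (∀ i j, (F i : G → ℂ) 1 = (F j : G → ℂ) 1) ∧ (∀ i j, b (F i) = b (F j)) ∧
      (∀ i j, classInner (phi G c) (F i : G → ℂ) = classInner (phi G c) (F j : G → ℂ)) ∧
      (∀ (ψ : IrrCharacter G) (k : N), k ∈ K' → k ≠ 1 →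
        (ψ : G → ℂ) k = b ψ + ε * ∑ i, (if ψ = F i then (i.1 : N → ℂ) k else 0)) ∧
      ∀ (ψ : IrrCharacter G) (D : ℕ), (ψ : G → ℂ) 1 = D →
        ((invAt G c).ncard : ℤ) ∣ (D : ℤ) - b ψ - 2 * f * ε * (∑ i, if ψ = F i then 1 else 0) := by
  haveI : (K').Normal := Subgroup.normal_in_normalizer
  set m := (invAt G c).ncard with hm
  have hTI : ∀ g : G, g ∉ N → ∀ k ∈ A, g * k * g⁻¹ ∈ A → k = 1 := fun g hg k hk h =>
    S.trivial_of_conj hg hk h
  obtain ⟨εc, F₀, hεc, hF₀, hind₀⟩ := TIFNChar.exceptional_abelian hTI S.cent S.abelian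
  obtain ⟨ε, hε, hεeq⟩ : ∃ ε : ℤ, (ε = 1 ∨ ε = -1) ∧ (ε : ℂ) = εc := by
    rcases hεc with rfl | rfl
    · exact ⟨1, Or.inl rfl, by simp⟩
    · exact ⟨-1, Or.inr rfl, by simp⟩
  let F : {χ : IrrCharacter N // χ ∈ relSet (K')} → IrrCharacter G := fun i => F₀ ⟨i.1, mem_relSet.1 i.2⟩
  have hF : Function.Injective F := fun i j h => Subtype.ext (congrArg Subtype.val (hF₀ h) :)
  have hind : ∀ i j, indFun N ((i.1 : N → ℂ) - (j.1 : N → ℂ)) =
      (ε : ℂ) • ((F i : G → ℂ) - (F j : G → ℂ)) := fun i j => by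
    rw [hεeq]; exact hind₀ ⟨i.1, mem_relSet.1 i.2⟩ ⟨j.1, mem_relSet.1 j.2⟩
  have hε0 : (ε : ℂ) ≠ 0 := by rcases hε with rfl | rfl <;> norm_num
  have hε2 : (ε : ℂ) * ε = 1 := by rcases hε with rfl | rfl <;> norm_num
  have hinner : ∀ (ψ : G → ℂ), IsClassFunction G ψ → ∀ i j,
      classInner (fun x : N => ψ x) (i.1 : N → ℂ) - classInner (fun x : N => ψ x) (j.1 : N → ℂ) =
        (ε : ℂ) * (classInner ψ (F i : G → ℂ) - classInner ψ (F j : G → ℂ)) := by
    intro ψ hψ i j
    rw [← classInner_sub_right, ← Induction.classInner_indFun_right _ _ hψ, hind,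
      classInner_smul_right, classInner_sub_right, map_intCast]
  -- an index
  obtain ⟨i₀⟩ : Nonempty {χ : IrrCharacter N // χ ∈ relSet (K')} := by
    have h := S.card_rel
    have h7 := S.seven_le
    obtain ⟨χ, hχ⟩ := Finset.card_pos.1 (Nat.pos_of_ne_zero (fun e => by rw [e] at h; omega) :
      0 < (relSet (K')).card)
    exact ⟨⟨χ, hχ⟩⟩
  let δ : IrrCharacter G → {χ : IrrCharacter N // χ ∈ relSet (K')} → ℂ := fun ψ i => if ψ = F i then 1 else 0
  have hform : ∀ ψ : IrrCharacter G, ∃ β : ℂ, ∀ k ∈ K', k ≠ 1 →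
      (ψ : G → ℂ) (k : G) = β + (ε : ℂ) * ∑ i, (if ψ = F i then (i.1 : N → ℂ) k else 0) := by
    intro ψ
    have hres : IsClassFunction N (fun x : N => (ψ : G → ℂ) x) :=
      fun a b => irr_isClassFunction ψ (a : G) (b : G)
    obtain ⟨C, hC⟩ := expansion (K := K') hres
    set M := classInner (fun x : N => (ψ : G → ℂ) x) (i₀.1 : N → ℂ) - (ε : ℂ) * δ ψ i₀ with hM
    refine ⟨C - M, fun k hk hk1 => ?_⟩
    have hco : ∀ i : {χ : IrrCharacter N // χ ∈ relSet (K')},
        classInner (fun x : N => (ψ : G → ℂ) x) (i.1 : N → ℂ) = M + (ε : ℂ) * δ ψ i := by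
      intro i
      have h := hinner ψ (irr_isClassFunction ψ) i i₀
      rw [classInner_irr, classInner_irr] at h
      simp only [hM, δ]
      linear_combination h
    rw [hC k hk, ← Finset.sum_attach (relSet (K')), Finset.attach_eq_univ,
      Finset.sum_congr rfl (fun i _ => by rw [hco i, add_mul, mul_assoc]), Finset.sum_add_distrib,
      ← Finset.mul_sum, ← Finset.mul_sum]
    have h1 : ∑ i : {χ : IrrCharacter N // χ ∈ relSet (K')}, (i.1 : N → ℂ) k = -1 := by
      rw [← S.sum_rel hk hk1, ← Finset.sum_attach (relSet (K')), Finset.attach_eq_univ]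
    rw [h1]
    have h2 : ∀ i, δ ψ i * (i.1 : N → ℂ) k = if ψ = F i then (i.1 : N → ℂ) k else 0 := fun i => by
      simp only [δ]; split_ifs <;> simp
    rw [Finset.sum_congr rfl fun i _ => h2 i]
    ring
  choose β hβ using hform
  -- integrality and congruence
  have hkey : ∀ ψ : IrrCharacter G, ∃ b : ℤ, β ψ = b ∧ ∀ D : ℕ, (ψ : G → ℂ) 1 = D →
      (m : ℤ) ∣ (D : ℤ) - b - 2 * f * ε * (∑ i, if ψ = F i then 1 else 0) := by
    intro ψ
    obtain ⟨D, hD, -, -⟩ := irr_degree_dvd_card ψ
    obtain ⟨j, hj⟩ := ClassCount.exists_mult ψ A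
    set d : ℤ := ∑ i, if ψ = F i then 1 else 0 with hd
    let e : K' ≃ A := (Subgroup.subgroupOfEquivOfLe (Subgroup.le_normalizer (H := A))).toEquiv
    have hsumK : ∀ i : {χ : IrrCharacter N // χ ∈ relSet (K')},
        ∑ k ∈ Finset.univ.erase (1 : K'), (i.1 : N → ℂ) (k : N) = -((2 * f : ℕ) : ℂ) := by
      intro i
      have h := sum_eq_zero i.1.2 (mem_relSet.1 i.2)
      rw [← Finset.add_sum_erase _ _ (Finset.mem_univ (1 : K')), OneMemClass.coe_one,
        S.degree_rel i.1 (mem_relSet.1 i.2)] at h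
      exact eq_neg_of_add_eq_zero_right h
    have hsum : ∑ k : K', (ψ : G → ℂ) ((k : N) : G) =
        (D : ℂ) + ((m : ℂ) - 1) * β ψ - 2 * (f : ℂ) * ε * (d : ℂ) := by
      rw [← Finset.add_sum_erase _ _ (Finset.mem_univ (1 : K')), OneMemClass.coe_one,
        OneMemClass.coe_one, hD, Finset.sum_congr rfl (fun (k : K') hk => hβ ψ (k : N) k.2
          fun e => (Finset.mem_erase.1 hk).1 (Subtype.ext e)),
        Finset.sum_add_distrib, Finset.sum_const, Finset.card_erase_of_mem (Finset.mem_univ _),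
        Finset.card_univ, ← Nat.card_eq_fintype_card, Nat.card_congr e, S.card_A, ← hm, nsmul_eq_mul,
        ← Finset.mul_sum, Finset.sum_comm, Nat.cast_sub (by have := S.seven_le; omega : 1 ≤ m), hd,
        Int.cast_sum]
      have h3 : ∑ i : {χ : IrrCharacter N // χ ∈ relSet (K')}, ∑ k ∈ Finset.univ.erase (1 : K'),
          (if ψ = F i then (i.1 : N → ℂ) (k : N) else 0) =
          ∑ i, -((2 * f : ℕ) : ℂ) * ((if ψ = F i then (1 : ℤ) else 0 : ℤ) : ℂ) := by
        refine Finset.sum_congr rfl fun i _ => ?_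
        split_ifs with h
        · rw [hsumK i]; simp
        · simp
      rw [h3, ← Finset.mul_sum]
      push_cast
      ring
    have hj' : ∑ k : K', (ψ : G → ℂ) ((k : N) : G) = (m : ℂ) * j := by
      rw [S.card_A, ← hm] at hj
      rw [← hj]
      exact Fintype.sum_equiv (e.trans (Equiv.inv A)) _ _ fun k => by
        show (ψ : G → ℂ) ((k : N) : G) = (ψ : G → ℂ) (((e k)⁻¹ : A) : G)⁻¹
        rw [Subgroup.coe_inv, inv_inv]
        rfl
    have hb : ((m : ℂ) - 1) * β ψ = (((m : ℤ) * j - D + 2 * f * ε * d : ℤ) : ℂ) := by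
      push_cast
      linear_combination (hsum.symm.trans hj')
    obtain ⟨k₀, hk₀, hk₀1⟩ := S.exists_ne_one
    have hint : IsIntegral ℤ (β ψ) := by
      have h := hβ ψ ⟨k₀, Subgroup.le_normalizer hk₀⟩ hk₀ fun e => hk₀1 (congrArg Subtype.val e)
      rw [show β ψ = (ψ : G → ℂ) k₀ - (ε : ℂ) * ∑ i, (if ψ = F i then
        (i.1 : N → ℂ) ⟨k₀, Subgroup.le_normalizer hk₀⟩ else 0) by rw [h]; ring]
      refine IsIntegral.sub (isIntegral_of_isCharacter (irr_isCharacter ψ) _)
        (IsIntegral.mul ?_ (IsIntegral.sum _ fun i _ => ?_))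
      · rw [← eq_intCast (algebraMap ℤ ℂ)]; exact isIntegral_algebraMap
      · split_ifs
        · exact isIntegral_of_isCharacter (irr_isCharacter i.1) _
        · exact isIntegral_zero
    have hm1 : (m : ℂ) - 1 ≠ 0 := by
      rw [sub_ne_zero]
      norm_cast
      have := S.seven_le
      omega
    have hq : β ψ = ((((m : ℤ) * j - D + 2 * f * ε * d : ℤ) : ℚ) / ((m : ℚ) - 1) : ℚ) := by
      rw [Rat.cast_div, Rat.cast_sub, Rat.cast_natCast, Rat.cast_one, Rat.cast_intCast, eq_div_iff hm1,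
        ← hb, mul_comm]
    obtain ⟨b, hb'⟩ := exists_int_of_isIntegral_rat (hq ▸ hint)
    have hbβ : β ψ = (b : ℂ) := by rw [hq, ← hb', Rat.cast_intCast]
    refine ⟨b, hbβ, fun D' hD' => ?_⟩
    obtain rfl : D' = D := by exact_mod_cast (hD'.symm.trans hD)
    rw [hbβ] at hb
    have hb'' : ((m : ℤ) - 1) * b = (m : ℤ) * j - D' + 2 * f * ε * d := by exact_mod_cast hb
    exact ⟨(j : ℤ) - b, by linear_combination hb''⟩
  choose b hb hcong using hkey
  refine ⟨ε, F, b, hε, hF, fun i j => ?_, fun i j => ?_, fun i j => ?_, fun ψ k hk hk1 => ?_, hcong⟩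
  · have h := congrFun (hind i j) 1
    rw [Induction.indFun_one_apply, Pi.sub_apply, S.degree_rel i.1 (mem_relSet.1 i.2),
      S.degree_rel j.1 (mem_relSet.1 j.2), sub_self, mul_zero, Pi.smul_apply, Pi.sub_apply, smul_eq_mul,
      eq_comm, mul_eq_zero] at h
    exact sub_eq_zero.1 (h.resolve_left hε0)
  · obtain ⟨k₀, hk₀, hk₀1⟩ := S.exists_ne_one
    set k : N := ⟨k₀, Subgroup.le_normalizer hk₀⟩
    have hk1 : k ≠ 1 := fun e => hk₀1 (congrArg Subtype.val e)
    have hsupp : ∀ x : N, x ∉ K' → ((i.1 : N → ℂ) - (j.1 : N → ℂ)) x = 0 := fun x hx => by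
      simp [vanish_off (TIFNChar.free S.cent) i.1.2 (mem_relSet.1 i.2) hx,
        vanish_off (TIFNChar.free S.cent) j.1.2 (mem_relSet.1 j.2) hx]
    have hone : ((i.1 : N → ℂ) - (j.1 : N → ℂ)) 1 = 0 := by
      simp [S.degree_rel i.1 (mem_relSet.1 i.2), S.degree_rel j.1 (mem_relSet.1 j.2)]
    have h := congrFun (TIFNChar.res_ind hTI S.cent
      (isClassFunction_sub (irr_isClassFunction i.1) (irr_isClassFunction j.1)) hsupp hone) k
    rw [hind, Pi.smul_apply, Pi.sub_apply, smul_eq_mul, hβ _ k hk₀ hk1, hβ _ k hk₀ hk1, hb, hb,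
      Finset.sum_eq_single i (fun i' _ h' => if_neg fun e => h' (hF e).symm)
        (fun h' => absurd (Finset.mem_univ _) h'),
      Finset.sum_eq_single j (fun i' _ h' => if_neg fun e => h' (hF e).symm)
        (fun h' => absurd (Finset.mem_univ _) h'), if_pos rfl, if_pos rfl, Pi.sub_apply] at h
    have h' : (ε : ℂ) * ((b (F i) : ℂ) - b (F j)) = 0 := by
      linear_combination h - ((i.1 : N → ℂ) k - (j.1 : N → ℂ) k) * hε2
    have := sub_eq_zero.1 ((mul_eq_zero.1 h').resolve_left hε0)
    exact_mod_cast this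
  · have h := hinner _ S.isClassFunction_phi i j
    have hzero : classInner (fun x : N => phi G c x) (i.1 : N → ℂ) =
        classInner (fun x : N => phi G c x) (j.1 : N → ℂ) := by
      have key : ∀ i : {χ : IrrCharacter N // χ ∈ relSet (K')},
          classInner (fun x : N => phi G c x) (i.1 : N → ℂ) =
            (Nat.card N : ℂ)⁻¹ * ((phi G c 1 + 2) * ((2 * f : ℕ) : ℂ)) := by
        intro i
        rw [classInner]
        congr 1
        rw [Finset.sum_congr rfl (g := fun x : N => (-2 : ℂ) * (if x ∈ K' then conj ((i.1 : N → ℂ) x) else 0) +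
          (if x = 1 then (phi G c 1 + 2) * conj ((i.1 : N → ℂ) 1) else 0)) (fun x _ => ?_),
          Finset.sum_add_distrib, ← Finset.mul_sum, Finset.sum_ite_eq', if_pos (Finset.mem_univ _)]
        · rw [← Finset.sum_filter, Finset.sum_subtype (p := fun x : N => x ∈ K') _ (fun x => by simp)
            fun x => conj ((i.1 : N → ℂ) x), ← map_sum, sum_eq_zero i.1.2 (mem_relSet.1 i.2), map_zero,
            mul_zero, zero_add, S.degree_rel i.1 (mem_relSet.1 i.2), map_natCast]
        · by_cases hx : x = 1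
          · subst hx
            rw [if_pos (one_mem _), if_pos rfl, OneMemClass.coe_one]
            ring
          · by_cases hxK : x ∈ K'
            · rw [if_pos hxK, if_neg hx, S.phi_A (a := (x : G)) (Subgroup.mem_subgroupOf.1 hxK) fun e => hx (Subtype.ext e)]
              ring
            · rw [if_neg hxK, if_neg hx, vanish_off (TIFNChar.free S.cent) i.1.2 (mem_relSet.1 i.2) hxK,
                map_zero, mul_zero, mul_zero, zero_add]
      rw [key i, key j]
    rw [hzero, sub_self, eq_comm, mul_eq_zero] at h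
    exact sub_eq_zero.1 (h.resolve_left hε0)
  · rw [hβ ψ k hk hk1, hb]

end Singer

end CfsgLib.BenderQ
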