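import Cfsg.Agent.Lib.Characters.Counting
import Cfsg.Agent.Lib.Characters.Galois
import Cfsg.Agent.Lib.Characters.BrauerPerm

/-!
The symmetric space of an automorphism `σ` of order at most two of a group `D` of odd order: every
element is a product of an inverted and a fixed one, so the permutation character on the cosets of
the fixed subgroup is multiplicity free, each of its constituents `ψ` satisfies `ψ ∘ σ = conj ψ`,
and only the principal one is real.
-/

set_option autoImplicit false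
set_option linter.unusedSectionVars false

namespace CfsgLib.BenderQ

open Cfsg CfsgLib.Characters
open scoped ComplexConjugate

universe u

variable {D : Type u} [Group D]

/-! ### Sums of an irreducible character -/

section Sums

variable [Fintype D] (ψ : IrrCharacter D)

/-- Averaging over the conjugates of one factor. -/
theorem sum_irr_conj_mul (x y : D) :
    ∑ g : D, (ψ : D → ℂ) (g * x * g⁻¹ * y) =
      (Nat.card D : ℂ) * (ψ : D → ℂ) x * (ψ : D → ℂ) y / (ψ : D → ℂ) 1 := by
  obtain ⟨_, n, ρ, hρ, rfl⟩ := ψ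
  haveI := hρ
  haveI := nontrivial_of_irreducible ρ
  set T : Module.End ℂ (Fin n → ℂ) := ∑ g : D, ρ (g * x * g⁻¹) with hT
  have hcomm : ∀ h : D, T * ρ h = ρ h * T := by
    intro h
    rw [hT, Finset.sum_mul, Finset.mul_sum]
    refine Fintype.sum_equiv (Equiv.mulLeft h⁻¹) _ _ fun g => ?_
    rw [← map_mul, ← map_mul]
    congr 1
    simp [mul_assoc]
  obtain ⟨c, hc⟩ := schur_scalar ρ T hcomm
  have htr : LinearMap.trace ℂ _ T = (Nat.card D : ℂ) * ρ.character x := by
    have e : ∀ g : D, LinearMap.trace ℂ _ (ρ (g * x * g⁻¹)) = ρ.character x := fun g =>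
      ρ.char_conj x g
    rw [hT, map_sum, Finset.sum_congr rfl (fun g _ => e g), Finset.sum_const,
      Finset.card_univ, Nat.card_eq_fintype_card, nsmul_eq_mul]
  rw [hc, map_smul, LinearMap.trace_one, smul_eq_mul] at htr
  have hn : (Module.finrank ℂ (Fin n → ℂ) : ℂ) ≠ 0 := by exact_mod_cast Module.finrank_pos.ne'
  have h1 : ∑ g : D, ρ.character (g * x * g⁻¹ * y) = LinearMap.trace ℂ _ (T * ρ y) := by
    rw [hT, Finset.sum_mul, map_sum]
    exact Finset.sum_congr rfl fun g _ => by rw [← map_mul]; rfl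
  show ∑ g : D, ρ.character (g * x * g⁻¹ * y) = _ * ρ.character x * ρ.character y / ρ.character 1
  rw [h1, hc, smul_mul_assoc, one_mul, map_smul, smul_eq_mul, ← htr, Representation.char_one]
  show c * ρ.character y = _
  field_simp

/-- Averaging over an element and its inverse in two factors. -/
theorem sum_irr_mul_inv (a b : D) :
    ∑ g : D, (ψ : D → ℂ) (g * a) * (ψ : D → ℂ) (g⁻¹ * b) =
      (Nat.card D : ℂ) * (ψ : D → ℂ) (b * a) / (ψ : D → ℂ) 1 := by
  rw [← sum_conj_mul_irr_mul ψ (b * a)]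
  refine Fintype.sum_equiv ((Equiv.mulRight a).trans (Equiv.inv D)) _ _ fun g => ?_
  simp only [Equiv.trans_apply, Equiv.coe_mulRight, Equiv.inv_apply]
  rw [irr_apply_inv, Complex.conj_conj, classFunction_mul_comm (irr_isClassFunction ψ) g⁻¹ b]
  congr 2
  rw [classFunction_mul_comm (irr_isClassFunction ψ) (g * a)⁻¹ (b * a)]
  simp [mul_assoc]

variable (φ : IrrCharacter D)

/-- Translates of different irreducible characters are orthogonal. -/
theorem sum_irr_mul_conj_shift (h : ψ ≠ φ) (x : D) :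
    ∑ g : D, (ψ : D → ℂ) g * conj ((φ : D → ℂ) (g * x)) = 0 := by
  have h0 : ∑ g : D, (ψ : D → ℂ) g * conj ((φ : D → ℂ) g) = 0 := by
    have := classInner_irr_ne ψ.2 φ.2 fun e => h (Subtype.ext e)
    rw [classInner, mul_eq_zero] at this
    exact this.resolve_left (inv_ne_zero (Nat.cast_ne_zero.2 Nat.card_pos.ne'))
  have h1 : ∀ y : D, ∑ g : D, (ψ : D → ℂ) g * conj ((φ : D → ℂ) (g * (y * x * y⁻¹))) =
      ∑ g : D, (ψ : D → ℂ) g * conj ((φ : D → ℂ) (g * x)) := by
    intro y
    refine (Fintype.sum_equiv (MulAut.conj y).toEquiv _ _ fun g => ?_).symm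
    show _ = (ψ : D → ℂ) (y * g * y⁻¹) * conj ((φ : D → ℂ) (y * g * y⁻¹ * (y * x * y⁻¹)))
    rw [irr_isClassFunction ψ g y,
      show y * g * y⁻¹ * (y * x * y⁻¹) = y * (g * x) * y⁻¹ by group, irr_isClassFunction φ (g * x) y]
  have h2 : ∀ g : D, ∑ y : D, (φ : D → ℂ) (g * (y * x * y⁻¹)) =
      (Nat.card D : ℂ) * (φ : D → ℂ) x * (φ : D → ℂ) g / (φ : D → ℂ) 1 := fun g => by
    rw [← sum_irr_conj_mul φ x g]
    exact Finset.sum_congr rfl fun y _ => classFunction_mul_comm (irr_isClassFunction φ) _ _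
  have h3 : (Nat.card D : ℂ) * ∑ g : D, (ψ : D → ℂ) g * conj ((φ : D → ℂ) (g * x)) = 0 := by
    calc (Nat.card D : ℂ) * ∑ g : D, (ψ : D → ℂ) g * conj ((φ : D → ℂ) (g * x))
        = ∑ y : D, ∑ g : D, (ψ : D → ℂ) g * conj ((φ : D → ℂ) (g * (y * x * y⁻¹))) := by
          rw [Finset.sum_congr rfl fun y _ => h1 y, Finset.sum_const, Finset.card_univ,
            Nat.card_eq_fintype_card, nsmul_eq_mul]
      _ = conj ((Nat.card D : ℂ) * (φ : D → ℂ) x / (φ : D → ℂ) 1) *
            ∑ g : D, (ψ : D → ℂ) g * conj ((φ : D → ℂ) g) := by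
          rw [Finset.sum_comm, Finset.mul_sum]
          refine Finset.sum_congr rfl fun g _ => ?_
          rw [← Finset.mul_sum, ← map_sum, h2 g]
          simp only [map_mul, map_div₀]
          ring
      _ = 0 := by rw [h0, mul_zero]
  exact (mul_eq_zero.1 h3).resolve_left (Nat.cast_ne_zero.2 Nat.card_pos.ne')

end Sums

/-- A character summed over a subgroup gives zero or its order when the products over the subgroup
of functions invariant on both sides commute. -/
theorem sum_subgroup_eq_card_of_swap {D : Type u} [Group D] [Fintype D] (H' : Subgroup D) [Fintype H']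
    (hswap : ∀ X : D → ℂ, (∀ a ∈ H', ∀ b ∈ H', ∀ z, X (a * z * b) = X z) →
      ∀ g g' : D, ∑ k : H', X (g * k * g') = ∑ k : H', X (g' * k * g))
    (ψ : IrrCharacter D) (h0 : ∑ h : H', (ψ : D → ℂ) h ≠ 0) :
    ∑ h : H', (ψ : D → ℂ) h = Nat.card H' := by
  set χ := (ψ : D → ℂ) with hχ
  set M := ∑ h : H', χ h with hM
  have hcl := irr_isClassFunction ψ
  have hmc : ∀ a b, χ (a * b) = χ (b * a) := classFunction_mul_comm hcl
  set N := (Nat.card D : ℂ) with hN
  set n := χ 1 with hn'
  have hn : n ≠ 0 := irr_one_ne_zero ψ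
  have hN0 : N ≠ 0 := Nat.cast_ne_zero.2 Nat.card_pos.ne'
  let X : D → D → ℂ := fun w z => ∑ h : H', ∑ h' : H', χ (z * h * w * h')
  have hX : ∀ w, ∀ a ∈ H', ∀ b ∈ H', ∀ z, X w (a * z * b) = X w z := by
    intro w a ha b hb z
    refine Fintype.sum_equiv (Equiv.mulLeft ⟨b, hb⟩) _ _ fun h => ?_
    refine Fintype.sum_equiv (Equiv.mulRight ⟨a, ha⟩) _ _ fun h' => ?_
    show χ (a * z * b * h * w * h') = χ (z * (b * h) * w * (h' * a))
    rw [show a * z * b * h * w * h' = a * (z * (b * h) * w * h') by group, hmc]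
    congr 1
    group
  -- the two orders of the factors
  have hone : ∑ g : D, ∑ g' : D, ∑ e : H', ∑ k : H',
        X (g⁻¹ * e * g'⁻¹) (g * k * g') =
      N ^ 2 / n ^ 2 * ((Nat.card H' : ℂ) ^ 3 * M) := by
    calc ∑ g : D, ∑ g' : D, ∑ e : H', ∑ k : H', X (g⁻¹ * e * g'⁻¹) (g * k * g')
        = ∑ e : H', ∑ k : H', ∑ h : H', ∑ h' : H', ∑ g' : D,
            ∑ g : D, χ (g * (k * g' * h) * g⁻¹ * (e * g'⁻¹ * h')) := by
          simp only [X]
          rw [Finset.sum_comm, Finset.sum_congr rfl fun g' _ => Finset.sum_comm, Finset.sum_comm]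
          refine Finset.sum_congr rfl fun e _ => ?_
          rw [Finset.sum_congr rfl fun g' _ => Finset.sum_comm, Finset.sum_comm]
          refine Finset.sum_congr rfl fun k _ => ?_
          rw [Finset.sum_congr rfl fun g' _ => Finset.sum_comm, Finset.sum_comm]
          refine Finset.sum_congr rfl fun h _ => ?_
          rw [Finset.sum_congr rfl fun g' _ => Finset.sum_comm, Finset.sum_comm]
          refine Finset.sum_congr rfl fun h' _ => Finset.sum_congr rfl fun g' _ =>
            Finset.sum_congr rfl fun g _ => ?_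
          congr 1
          group
      _ = ∑ e : H', ∑ k : H', ∑ h : H', ∑ h' : H',
            N / n * (N * χ ((h' : D) * e * ((h : D) * k)) / n) := by
          refine Finset.sum_congr rfl fun e _ => Finset.sum_congr rfl fun k _ =>
            Finset.sum_congr rfl fun h _ => Finset.sum_congr rfl fun h' _ => ?_
          rw [← sum_irr_mul_inv ψ ((h : D) * k) ((h' : D) * e), Finset.mul_sum]
          refine Finset.sum_congr rfl fun g' _ => ?_
          rw [sum_irr_conj_mul]
          simp only [← hχ, ← hN, ← hn']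
          rw [show (k : D) * g' * h = k * (g' * h) by group, hmc (k : D) (g' * h),
            hmc ((e : D) * g'⁻¹) (h' : D), show (h' : D) * (e * g'⁻¹) = h' * e * g'⁻¹ by group,
            hmc ((h' : D) * e) g'⁻¹, show g' * (h : D) * k = g' * (h * k) by group]
          ring
      _ = _ := by
          have hin : ∀ e k h : H',
              ∑ h' : H', χ ((h' : D) * e * ((h : D) * k)) = M := fun e k h =>
            Fintype.sum_equiv (Equiv.mulRight (e * (h * k))) _ _ fun h' => by
              show χ _ = χ ((h' : D) * ((e : D) * ((h : D) * k)))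
              rw [mul_assoc]
          simp only [← Finset.mul_sum, ← Finset.sum_div, hin, Finset.sum_const, Finset.card_univ,
            nsmul_eq_mul, Nat.card_eq_fintype_card]
          ring
  have htwo : ∑ g : D, ∑ g' : D, ∑ e : H', ∑ k : H',
        X (g⁻¹ * e * g'⁻¹) (g' * k * g) =
      N ^ 2 / n ^ 2 * ((Nat.card H' : ℂ) * M ^ 3) := by
    calc ∑ g : D, ∑ g' : D, ∑ e : H', ∑ k : H', X (g⁻¹ * e * g'⁻¹) (g' * k * g)
        = ∑ e : H', ∑ k : H', ∑ h : H', ∑ h' : H', ∑ g' : D,
            ∑ g : D, χ (g * h * g⁻¹ * (e * g'⁻¹ * h' * g' * k)) := by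
          simp only [X]
          rw [Finset.sum_comm, Finset.sum_congr rfl fun g' _ => Finset.sum_comm, Finset.sum_comm]
          refine Finset.sum_congr rfl fun e _ => ?_
          rw [Finset.sum_congr rfl fun g' _ => Finset.sum_comm, Finset.sum_comm]
          refine Finset.sum_congr rfl fun k _ => ?_
          rw [Finset.sum_congr rfl fun g' _ => Finset.sum_comm, Finset.sum_comm]
          refine Finset.sum_congr rfl fun h _ => ?_
          rw [Finset.sum_congr rfl fun g' _ => Finset.sum_comm, Finset.sum_comm]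
          refine Finset.sum_congr rfl fun h' _ => Finset.sum_congr rfl fun g' _ =>
            Finset.sum_congr rfl fun g _ => ?_
          rw [show g' * (k : D) * g * h * (g⁻¹ * e * g'⁻¹) * h' =
            g' * k * (g * h * g⁻¹ * e * g'⁻¹ * h') by group, hmc]
          congr 1
          group
      _ = ∑ e : H', ∑ k : H', ∑ h : H', ∑ h' : H',
            N / n * χ h * (N * χ h' * χ ((k : D) * e) / n) := by
          refine Finset.sum_congr rfl fun e _ => Finset.sum_congr rfl fun k _ =>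
            Finset.sum_congr rfl fun h _ => Finset.sum_congr rfl fun h' _ => ?_
          rw [← sum_irr_conj_mul ψ (h' : D) ((k : D) * e), Finset.mul_sum]
          refine Fintype.sum_equiv (Equiv.inv D) _ _ fun g' => ?_
          rw [sum_irr_conj_mul, Equiv.inv_apply, inv_inv]
          simp only [← hχ, ← hN, ← hn']
          rw [show (e : D) * g'⁻¹ * h' * g' * k = e * (g'⁻¹ * h' * g' * k) by group,
            hmc (e : D) (g'⁻¹ * h' * g' * k),
            show g'⁻¹ * (h' : D) * g' * k * e = g'⁻¹ * h' * g' * (k * e) by group]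
          ring
      _ = _ := by
          have hin : ∀ e : H', ∑ k : H', χ ((k : D) * e) = M := fun e =>
            Fintype.sum_equiv (Equiv.mulRight e) _ _ fun _ => rfl
          rw [Finset.sum_comm]
          calc ∑ k : H', ∑ e : H', ∑ h : H', ∑ h' : H',
                N / n * χ h * (N * χ h' * χ ((k : D) * e) / n)
              = N ^ 2 / n ^ 2 * M * M * ∑ k : H', ∑ e : H', χ ((k : D) * e) := by
                simp only [Finset.mul_sum]
                refine Finset.sum_congr rfl fun k _ => Finset.sum_congr rfl fun e _ => ?_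
                simp only [← Finset.mul_sum, ← Finset.sum_mul, ← Finset.sum_div, ← hM]
                ring
            _ = _ := by
                rw [Finset.sum_comm, Finset.sum_congr rfl fun e _ => hin e, Finset.sum_const,
                  Finset.card_univ, nsmul_eq_mul, Nat.card_eq_fintype_card]
                ring
  have heq : N ^ 2 / n ^ 2 * ((Nat.card H' : ℂ) ^ 3 * M) =
      N ^ 2 / n ^ 2 * ((Nat.card H' : ℂ) * M ^ 3) := by
    rw [← hone, ← htwo]
    exact Finset.sum_congr rfl fun g _ => Finset.sum_congr rfl fun g' _ =>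
      Finset.sum_congr rfl fun e _ => hswap _ (hX _) g g'
  have hcard : (Nat.card H' : ℂ) ≠ 0 := Nat.cast_ne_zero.2 Nat.card_pos.ne'
  have h2 : ((Nat.card H' : ℂ) - M) * ((Nat.card H' : ℂ) + M) = 0 := by
    have h3 := mul_left_cancel₀ (div_ne_zero (pow_ne_zero 2 hN0) (pow_ne_zero 2 hn)) heq
    have h4 : (Nat.card H' : ℂ) * M *
        (((Nat.card H' : ℂ) - M) * ((Nat.card H' : ℂ) + M)) = 0 := by
      linear_combination h3
    exact (mul_eq_zero.1 h4).resolve_left (mul_ne_zero hcard h0)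
  rcases mul_eq_zero.1 h2 with h3 | h3
  · exact (sub_eq_zero.1 h3).symm
  · exfalso
    obtain ⟨m, hm⟩ := classInner_char_nat
      (CfsgLib.CharGalois.isCharacter_comp (irr_isCharacter ψ) H'.subtype) (isCharacter_one (G := H'))
    have h5 : M = (m : ℂ) * Nat.card H' := by
      rw [← hm, classInner, hM]
      simp only [Pi.one_apply, map_one, mul_one]
      field_simp
      exact Finset.sum_congr rfl fun _ _ => rfl
    have h6 : ((m + 1 : ℕ) : ℂ) * Nat.card H' = 0 := by
      push_cast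
      linear_combination h3 - h5
    exact mul_ne_zero (Nat.cast_ne_zero.2 m.succ_ne_zero) hcard h6

/-! ### The fixed subgroup -/

/-- The elements fixed by `σ`. -/
def fixedBy' (σ : D →* D) : Subgroup D := σ.eqLocus (MonoidHom.id D)

theorem mem_fixedBy' {σ : D →* D} {h : D} : h ∈ fixedBy' σ ↔ σ h = h := Iff.rfl

variable {σ : D →* D}

/-- An irreducible character composed with an involutory automorphism. -/
theorem isIrr_comp_invol (hσ : ∀ d, σ (σ d) = d) (ψ : IrrCharacter D) :
    IsIrrCharacter D fun d => (ψ : D → ℂ) (σ d) :=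
  CfsgLib.BrauerPerm.isIrrCharacter_comp_equiv ψ.2
    (MulEquiv.mk ⟨σ, σ, hσ, hσ⟩ σ.map_mul)

/-- An irreducible character moved by `σ` sums to zero on the commutators with `σ`. -/
theorem sum_irr_twist_eq_zero [Fintype D] (hσ : ∀ d, σ (σ d) = d) (ψ : IrrCharacter D)
    (hne : ∃ d, (ψ : D → ℂ) (σ d) ≠ (ψ : D → ℂ) d) :
    ∑ g : D, (ψ : D → ℂ) (g⁻¹ * σ g) = 0 := by
  have hirr := isIrr_comp_invol hσ ψ
  obtain ⟨_, n, ρ, hρ, rfl⟩ := ψ
  haveI := hρ
  let ρ' : Representation ℂ D (Fin n → ℂ) := ρ.comp σ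
  haveI : ρ'.IsIrreducible := by
    rw [isIrreducible_iff]
    refine ⟨nontrivial_of_irreducible ρ, fun U hU => ((isIrreducible_iff ρ).1 hρ).2 U fun g v hv => ?_⟩
    have := hU (σ g) v hv
    rwa [show ρ' (σ g) = ρ (σ (σ g)) from rfl, hσ] at this
  set E : Module.End ℂ (Fin n → ℂ) := ∑ g : D, ρ g⁻¹ * ρ' g with hE
  have hint : ∀ x : D, E * ρ' x = ρ x * E := by
    intro x
    rw [hE, Finset.sum_mul, Finset.mul_sum]
    refine Fintype.sum_equiv (Equiv.mulRight x) _ _ fun g => ?_
    show ρ g⁻¹ * ρ' g * ρ' x = ρ x * (ρ (g * x)⁻¹ * ρ' (g * x))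
    rw [mul_inv_rev, map_mul ρ, map_mul ρ', ← mul_assoc (ρ x), ← mul_assoc (ρ x), ← map_mul ρ x,
      mul_inv_cancel, map_one, one_mul]
    simp [mul_assoc]
  let f : Representation.IntertwiningMap ρ' ρ := ⟨E, fun x => LinearMap.ext fun v => by
    exact LinearMap.congr_fun (hint x) v⟩
  rcases Representation.IsIrreducible.bijective_or_eq_zero f with hbij | hzero
  · exfalso
    obtain ⟨d, hd⟩ := hne
    refine hd ?_
    have h := congrFun (Representation.char_iso (f.ofBijective hbij)) d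
    exact h
  · have hE0 : E = 0 := congrArg Representation.IntertwiningMap.toLinearMap hzero
    have h1 : ∑ g : D, ρ.character (g⁻¹ * σ g) = LinearMap.trace ℂ _ E := by
      rw [hE, map_sum]
      exact Finset.sum_congr rfl fun g _ => by
        show LinearMap.trace ℂ _ (ρ (g⁻¹ * σ g)) = _
        rw [map_mul]; rfl
    show ∑ g : D, ρ.character (g⁻¹ * σ g) = 0
    rw [h1, hE0, map_zero]

/-! ### Odd order -/

variable [Finite D] (hodd : Odd (Nat.card D)) (hσ : ∀ d, σ (σ d) = d)
include hodd hσ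

/-- Every element is a product of an inverted and a fixed element. -/
theorem exists_split (d : D) : ∃ j h : D, σ j = j⁻¹ ∧ h ∈ fixedBy' σ ∧ d = j * h := by
  set x := d * (σ d)⁻¹ with hx
  have hsx : σ x = x⁻¹ := by rw [hx, map_mul, map_inv, hσ, mul_inv_rev, inv_inv]
  obtain ⟨k, hk⟩ := hodd.of_dvd_nat (orderOf_dvd_natCard x)
  have hy : x ^ (k + 1) * x ^ (k + 1) = x := by
    rw [← pow_add, show k + 1 + (k + 1) = orderOf x + 1 by omega, pow_succ, pow_orderOf_eq_one,
      one_mul]
  have hsy : σ (x ^ (k + 1)) = (x ^ (k + 1))⁻¹ := by rw [map_pow, hsx, inv_pow]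
  refine ⟨x ^ (k + 1), (x ^ (k + 1))⁻¹ * d, hsy, ?_, (mul_inv_cancel_left _ _).symm⟩
  rw [mem_fixedBy', map_mul, map_inv, hsy, inv_inv]
  set y := x ^ (k + 1)
  calc y * σ d = y⁻¹ * (y * y) * σ d := by group
    _ = y⁻¹ * d := by rw [hy, hx]; group

/-- `g ↦ (σ g)⁻¹` fixes every double coset of the fixed subgroup. -/
theorem exists_flip (g : D) : ∃ a ∈ fixedBy' σ, (σ g)⁻¹ = a * g * a := by
  obtain ⟨j, h, hj, hh, rfl⟩ := exists_split hodd hσ g
  refine ⟨h⁻¹, inv_mem hh, ?_⟩
  rw [map_mul, hj, mem_fixedBy'.1 hh]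
  group

section Constituents

variable [Fintype D] [Fintype (fixedBy' σ)] (ψ : IrrCharacter D)

/-- A function invariant on both sides under the fixed subgroup is symmetric in products over it. -/
theorem sum_swap {X : D → ℂ} (hX : ∀ a ∈ fixedBy' σ, ∀ b ∈ fixedBy' σ, ∀ z, X (a * z * b) = X z)
    (g g' : D) :
    ∑ k : fixedBy' σ, X (g * k * g') = ∑ k : fixedBy' σ, X (g' * k * g) := by
  obtain ⟨a, ha, hga⟩ := exists_flip hodd hσ g
  obtain ⟨b, hb, hgb⟩ := exists_flip hodd hσ g'
  refine Fintype.sum_equiv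
    (((Equiv.inv _).trans (Equiv.mulLeft ⟨b, hb⟩)).trans (Equiv.mulRight ⟨a, ha⟩)) _ _ fun k => ?_
  obtain ⟨c, hc, hcz⟩ := exists_flip hodd hσ (g * k * g')
  show X (g * k * g') = X (g' * (b * (k : D)⁻¹ * a) * g)
  rw [map_mul, map_mul, mul_inv_rev, mul_inv_rev, hgb, hga, mem_fixedBy'.1 k.2] at hcz
  rw [← hX c hc c hc (g * k * g'), ← hcz,
    show b * g' * b * ((k : D)⁻¹ * (a * g * a)) = b * (g' * (b * (k : D)⁻¹ * a) * g) * a by group,
    hX b hb a ha]

/-- The principal constituent count: the sum over the fixed subgroup is zero or its order. -/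
theorem sum_fixed_eq_card (h0 : ∑ h : fixedBy' σ, (ψ : D → ℂ) h ≠ 0) :
    ∑ h : fixedBy' σ, (ψ : D → ℂ) h = Nat.card (fixedBy' σ) :=
  sum_subgroup_eq_card_of_swap _ (fun _ hX g g' => sum_swap hodd hσ hX g g') ψ h0

/-- A constituent composed with `σ` is its conjugate. -/
theorem irr_conj_of_sum_fixed (h0 : ∑ h : fixedBy' σ, (ψ : D → ℂ) h ≠ 0) (d : D) :
    (ψ : D → ℂ) (σ d) = conj ((ψ : D → ℂ) d) := by
  set φ : IrrCharacter D := CfsgLib.BrauerPerm.conjIrr ⟨_, isIrr_comp_invol hσ ψ⟩ with hφ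
  have hφv : ∀ d, (φ : D → ℂ) d = conj ((ψ : D → ℂ) (σ d)) := fun d => rfl
  by_contra hne
  have hne' : ψ ≠ φ := fun e => hne (by
    have := congrFun (congrArg Subtype.val e) d
    rw [hφv] at this
    rw [this, Complex.conj_conj])
  set Φ : (D → ℂ) → D → ℂ := fun χ g => ∑ h : fixedBy' σ, χ (g * h) with hΦ
  have hflip : ∀ g, Φ (ψ : D → ℂ) g = Φ (φ : D → ℂ) g := by
    intro g
    obtain ⟨a, ha, hga⟩ := exists_flip hodd hσ g
    have h1 : Φ (ψ : D → ℂ) g = Φ (ψ : D → ℂ) ((σ g)⁻¹) := by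
      rw [hga]
      refine (Fintype.sum_equiv ((Equiv.mulLeft ⟨a, ha⟩).trans (Equiv.mulRight ⟨a, ha⟩)) _ _
        fun h => ?_).symm
      show (ψ : D → ℂ) (a * g * a * h) = (ψ : D → ℂ) (g * (a * h * a))
      rw [show a * g * a * h = a * (g * a * h) by group,
        classFunction_mul_comm (irr_isClassFunction ψ)]
      congr 1
      group
    rw [h1]
    refine Fintype.sum_equiv (Equiv.inv _) _ _ fun h => ?_
    show (ψ : D → ℂ) ((σ g)⁻¹ * h) = (φ : D → ℂ) (g * (h : D)⁻¹)
    rw [hφv, map_mul, map_inv, mem_fixedBy'.1 h.2, ← irr_apply_inv,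
      classFunction_mul_comm (irr_isClassFunction ψ), mul_inv_rev, inv_inv]
  have horth : ∑ g : D, Φ (ψ : D → ℂ) g * conj (Φ (φ : D → ℂ) g) = 0 := by
    simp only [hΦ, map_sum, Finset.sum_mul, Finset.mul_sum]
    rw [Finset.sum_comm]
    refine Finset.sum_eq_zero fun h' _ => ?_
    rw [Finset.sum_comm]
    refine Finset.sum_eq_zero fun h _ => ?_
    rw [← sum_irr_mul_conj_shift ψ φ hne' ((h : D)⁻¹ * h')]
    exact Fintype.sum_equiv (Equiv.mulRight (h : D)) _ _ fun g => by
      show _ = (ψ : D → ℂ) (g * h) * conj ((φ : D → ℂ) (g * h * ((h : D)⁻¹ * h')))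
      rw [mul_assoc g, mul_inv_cancel_left]
  have hzero : Φ (ψ : D → ℂ) 1 = 0 := by
    have h2 : ∑ g : D, (Complex.normSq (Φ (ψ : D → ℂ) g) : ℂ) = 0 := by
      rw [← horth]
      exact Finset.sum_congr rfl fun g _ => by rw [← hflip g, Complex.mul_conj]
    have h3 : ∑ g : D, Complex.normSq (Φ (ψ : D → ℂ) g) = 0 := by exact_mod_cast h2
    exact Complex.normSq_eq_zero.1
      ((Finset.sum_eq_zero_iff_of_nonneg fun g _ => Complex.normSq_nonneg _).1 h3 1 (Finset.mem_univ _))
  exact h0 (by simpa [hΦ] using hzero)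

/-- Only the principal constituent is real. -/
theorem exists_irr_conj_ne (h0 : ∑ h : fixedBy' σ, (ψ : D → ℂ) h ≠ 0) (h1 : ψ ≠ principalIrr D) :
    ∃ d, (ψ : D → ℂ) (σ d) ≠ (ψ : D → ℂ) d := by
  by_contra hcon
  push Not at hcon
  refine h1 (real_irr_eq_one hodd ψ fun d => Complex.conj_eq_iff_im.1 ?_)
  rw [← irr_conj_of_sum_fixed hodd hσ ψ h0 d, hcon]

/-- A constituent is real on the conjugates of fixed elements. -/
theorem irr_im_eq_zero_of_fixed (h0 : ∑ h : fixedBy' σ, (ψ : D → ℂ) h ≠ 0) {d a : D}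
    (ha : σ (a * d * a⁻¹) = a * d * a⁻¹) : ((ψ : D → ℂ) d).im = 0 := by
  refine Complex.conj_eq_iff_im.1 ?_
  rw [← irr_isClassFunction ψ d a, ← irr_conj_of_sum_fixed hodd hσ ψ h0, ha]

/-- A nonprincipal constituent sums to zero on the products of two conjugates of `σ`. -/
theorem sum_irr_twist_of_constituent (h0 : ∑ h : fixedBy' σ, (ψ : D → ℂ) h ≠ 0)
    (h1 : ψ ≠ principalIrr D) : ∑ g : D, (ψ : D → ℂ) (g⁻¹ * σ g) = 0 :=
  sum_irr_twist_eq_zero hσ ψ (exists_irr_conj_ne hodd hσ ψ h0 h1)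

end Constituents

end CfsgLib.BenderQ
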